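import Cfsg.Agent.H9.QR
import Cfsg.Agent.H9.LE1

/-!
H9.ES: local models of centric radical subgroups; `p`-groups of rank two are resistant for `p ≥ 5`.
-/

set_option autoImplicit false
set_option linter.unusedSectionVars false

namespace H9

open Subgroup Cfsg Matrix Multiplicative
open scoped commutatorElement MatrixGroups

variable {G : Type*} [Group G] [Finite G] {p : ℕ} [hp : Fact p.Prime]

theorem comm2_bot {V P : Subgroup G} (hV : IsPGroup p V) (hP : IsPGroup p P) (hn : P ≤ normalizer (V : Set G))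
    (h : Nat.card V ≤ p ^ 2) : ⁅⁅V, P⁆, P⁆ = ⊥ := by
  by_contra h1
  have h2 : ⁅V, P⁆ ≠ ⊥ := fun e => h1 (by rw [e, commutator_bot_left])
  have h3 : V ≠ ⊥ := fun e => h2 (by rw [e, commutator_bot_left])
  have l1 := commutator_lt_of_p hV hP hn h3
  have l2 := commutator_lt_of_p (hV.to_le l1.le) hP (normalizer_commutator hn le_normalizer) h2
  have c1 := L.mul_card_le_of_lt hV l1
  have c2 := L.mul_card_le_of_lt (hV.to_le l1.le) l2
  have c3 := L.le_card_of_ne_bot (hV.to_le (l2.le.trans l1.le)) h1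
  have := hp.out.one_lt
  have c4 : p * (p * p) ≤ p ^ 2 :=
    ((Nat.mul_le_mul_left _ ((Nat.mul_le_mul_left _ c3).trans c2)).trans c1).trans h
  nlinarith

theorem comm2_le {V Y P : Subgroup G} [Y.Normal] (hV : IsPGroup p V) (hY : Y ≤ V) (hP : IsPGroup p P)
    (hn : P ≤ normalizer (V : Set G)) (h : Nat.card V ≤ p ^ 2 * Nat.card Y) : ⁅⁅V, P⁆, P⁆ ≤ Y := by
  have e := card_eq_card_map_mul (QuotientGroup.mk' Y) V
  rw [QuotientGroup.ker_mk', inf_eq_left.2 hY] at e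
  have := comm2_bot (hV.map (QuotientGroup.mk' Y)) (hP.map _) (map_le_normalizer_map _ hn)
    (Nat.le_of_mul_le_mul_right (e ▸ h) Nat.card_pos)
  rwa [← map_commutator, ← map_commutator, Subgroup.map_eq_bot_iff, QuotientGroup.ker_mk'] at this

theorem sect_qd_of_rank (h3 : 3 < p) {T : Subgroup G} (hT : IsPGroup p T)
    (hc : centralizer (Op p (⊤ : Subgroup G) : Set G) ≤ Op p ⊤) (hr : FT.rk p (⊤ : Subgroup G) ≤ 2)
    (hne : ¬ T ≤ Op p ⊤) : Sect (qd p) (⊤ : Subgroup G) := by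
  have hp2 : p ≠ 2 := by omega
  set Q := Op p (⊤ : Subgroup G)
  have hQ : IsPGroup p Q := Op_p p ⊤
  haveI : Q.Normal := normal_of_top_le (le_normalizer_Op p ⊤)
  set D := omegaOne p Q
  have hD : IsPGroup p D := hQ.to_le (L.omegaOne_le _ _)
  have hr' : ∀ H : Subgroup G, FT.rk p H ≤ 2 := fun H => (FT.rk_mono le_top).trans hr
  have he : ∀ x ∈ D, x ^ p = 1 := fun x hx => FT.t4_8b h3 Q hQ (hr' _) hx
  have hc3 := FT.t4_8a hD (hr' _) he
  obtain ⟨t, ht, htQ⟩ := SetLike.not_le_iff_exists.1 hne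
  have hY : ⁅D, D⁆ ≤ D := commutator_le_of_le le_rfl le_rfl
  have hq := comm2_le hD hY (isPGroup_zpowers_of_mem hT ht) (le_top.trans (top_le_normalizer D)) (by
    by_cases h : ⁅D, D⁆ = ⊥
    · rw [h, card_bot, mul_one]
      exact FT.rk_le_iff'.1 (hr' D) D le_rfl ⟨comm_iff_commutator.2 h, he⟩
    · exact hc3.trans (by rw [pow_succ]; exact Nat.mul_le_mul_left _ (L.le_card_of_ne_bot (hD.to_le hY) h)))
  have hA : ∀ A ≤ cmod D ⁅D, D⁆ ⊓ ⊤, (Nat.card A).Coprime p → A ≤ centralizer (Q : Set G) := fun A hA hA' =>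
    le_centralizer_iff.1 (L.le_centralizer_of_omega_odd hp2 hA' hQ (le_top.trans (top_le_normalizer Q))
      (cop_le_centralizer_of_Phi (le_top.trans (top_le_normalizer D)) (copA_of_p' hD hA')
        ((le_cmod_iff.1 (hA.trans inf_le_left)).trans (L.commutator_le_Phi hD))))
  obtain ⟨Z, _, -, -, K, hK⟩ := nat2_of_section hp2 hD hY hq fun h => htQ (Opm_le_Op (isPGroup_of_Ores_eq_bot
    (le_bot_iff.1 (Ores_le_iff.2 fun A h1 h2 => (eq_bot_of_p_p' (hQ.to_le ((hA A h1 h2).trans hc)) h2).le))) h)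
  exact Sect.of_map (QuotientGroup.mk' Z) (hK.sect_qd'.mono (le_top.trans (map_top_of_surjective _
    (QuotientGroup.mk'_surjective Z)).ge))

theorem QdD.hz_pow {F : Type*} [Field F] {Δ : Type*} [Group Δ] (D : QdD F Δ) (a c b : F) (n : ℕ) :
    D.hz a c b ^ n = D.hz (n * a + (n.choose 2 : ℕ) * b * c) (n * c) (n * b) := by
  induction n with
  | zero => simp [D.hz_zero]
  | succ n ih =>
    rw [pow_succ, ih, D.hz_mul, D.hz_eq_iff, Nat.choose_succ_succ' n 1, Nat.choose_one_right]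
    push_cast
    exact ⟨by ring, by ring, by ring⟩

theorem rank2_local (h3 : 3 < p) {T : Subgroup G} (hT : Syl p T ⊤)
    (hc : centralizer (Op p (⊤ : Subgroup G) : Set G) ≤ Op p ⊤) (hr : FT.rk p (⊤ : Subgroup G) ≤ 2)
    (hne : ¬ T ≤ Op p ⊤) : Nat.card (Op p (⊤ : Subgroup G)) = p ^ 2 ∧ Nat.card T = p ^ 3 ∧ (∀ x ∈ T, x ^ p = 1) ∧
      ∃ z ∈ Op p (⊤ : Subgroup G), ∃ e ∈ Op p (⊤ : Subgroup G), ∃ g ∈ normalizer (T : Set G), z ≠ 1 ∧
        z ∈ centralizer (T : Set G) ∧ e ∉ centralizer (T : Set G) ∧ g * z * g⁻¹ = z ^ 2 ∧ g * e ^ 2 * g⁻¹ = e := by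
  have hp2 : p ≠ 2 := by omega
  obtain ⟨H, f, hf, hk⟩ := qd_rank_sect h3 hr (sect_qd_of_rank h3 hT.isP hc hr hne)
  set Q := Op p (⊤ : Subgroup G)
  have hQ : IsPGroup p Q := Op_p p ⊤
  haveI : Q.Normal := normal_of_top_le (le_normalizer_Op p ⊤)
  set Δ := qdD p
  have hk' : (Nat.card (kr f ⊓ H : Subgroup G)).Coprime p := cop_of_le hk inf_le_left
  obtain ⟨U, hU, hUS⟩ := Syl.exists_of_im f le_rfl (P' := Δ.S) (by rw [im_self f hf]; exact Δ.syl_S p)
  have hk0 := kr_inf_eq_bot f hk' hU.isP hU.le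
  have inj : ∀ {a b : H}, (a : G) ∈ U → (b : G) ∈ U → f a = f b → (a : G) = b := eq_of_im_eq f hk0
  have lift : ∀ a c b, ∃ x : H, (x : G) ∈ U ∧ f x = Δ.hz a c b := fun a c b =>
    (mem_im f).1 (hUS ▸ Δ.hz_mem a c b)
  have down : ∀ x : H, (x : G) ∈ U → ∃ a c b, f x = Δ.hz a c b := fun x hx =>
    Δ.mem_S.1 (hUS ▸ mem_im_of_mem f hx)
  have hUe : ∀ x ∈ U, x ^ p = 1 := fun x hx => by
    obtain ⟨a, c, b, e⟩ := down ⟨x, hU.le hx⟩ hx
    refine inj (a := ⟨x, hU.le hx⟩ ^ p) (b := 1) (pow_mem hx p) (one_mem _) ?_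
    obtain ⟨k, hk⟩ := L.dvd_choose_two (hp.out.odd_of_ne_two hp2)
    rw [map_pow, e, Δ.hz_pow, map_one, hk, ← Δ.hz_zero]; simp
  have hV : Nat.card Δ.V = p ^ 2 := by
    rw [← Nat.card_congr (MonoidHom.ofInjective Δ.inj).toEquiv]; simp [Nat.card_pi]
  have hU3 : p ^ 3 ≤ Nat.card U := by
    rw [← card_im_of_disjoint f hU.le hk0, hUS, pow_succ', ← hV]
    exact L.mul_card_le_of_lt (Δ.S_p p) (lt_of_le_not_ge Δ.V_le_S fun h =>
      one_ne_zero (Δ.hz_mem_V.1 (h (Δ.hz_mem 0 0 1))))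
  have hr' : ∀ H : Subgroup G, FT.rk p H ≤ 2 := fun H => (FT.rk_mono le_top).trans hr
  obtain ⟨T', hT', hUT⟩ := exists_syl_ge hU.isP (le_top : U ≤ ⊤)
  have hO3 := FT.t4_8a (hT'.isP.to_le (L.omegaOne_le p T')) (hr' _) fun x hx => FT.t4_8b h3 T' hT'.isP (hr' _) hx
  have hOU : U = omegaOne p T' :=
    eq_of_le_of_card_ge (fun x hx => L.mem_omegaOne (hUT hx) (hUe x hx)) (hO3.trans hU3)
  have hUc : Nat.card U = p ^ 3 := le_antisymm (hOU ▸ hO3) hU3
  set D := omegaOne p Q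
  have hDQ : D ≤ Q := L.omegaOne_le _ _
  have hDU : D ≤ U := hOU ▸ L.omegaOne_mono p hT'.Op_le
  have hDV : im f D ≤ Δ.V := Δ.Op_eq p ▸ le_Op le_top (by
    rw [← im_self f hf]; exact im_le_normalizer f (le_top.trans (top_le_normalizer D))) (isPGroup_im f (hQ.to_le hDQ))
  obtain ⟨t, htU, ht⟩ := lift 0 0 1
  have htN : (t : G) ∈ cmod Q D := mem_cmod_iff.2 ((commutator_mono le_rfl (zpowers_le.2 htU)).trans fun x hx =>
    L.mem_omegaOne (commutator_le_left' (le_top.trans (top_le_normalizer Q)) hx) (hUe x (commutator_le_right'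
      (hOU ▸ L.normalizer_omegaOne (hT'.Op_le.trans le_normalizer)) hx)))
  set θ := Δ.θ.comp f
  have hθ : Function.Surjective θ := Δ.θ_surj.comp hf
  haveI : (((cmod Q D).subgroupOf H).map θ).Normal := Normal.map inferInstance θ hθ
  have hN : ((cmod Q D).subgroupOf H).map θ = ⊤ := sl2_normal_eq_top (mem_map_of_mem θ (x := t) htN)
    (by
      show Δ.θ (f t) ≠ 1
      rw [ht, ne_eq, ← Δ.mem_V, Δ.hz_mem_V]; exact one_ne_zero)
    (by rw [← map_pow, show t ^ p = 1 from Subtype.ext (hUe _ htU), map_one])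
  obtain ⟨n, hn, hn1⟩ : (-1 : SL(2, ZMod p)) ∈ ((cmod Q D).subgroupOf H).map θ := hN ▸ mem_top _
  obtain ⟨w, hw, hw1, hw2⟩ := H1.exists_lift_p' θ (p := p) n (by
    rw [hn1, orderOf_neg_one_sl2 hp2]; exact fun h => hp2 ((Nat.prime_dvd_prime_iff_eq hp.out Nat.prime_two).1 h))
  rw [hn1] at hw1
  have hwN : (w : G) ∈ cmod Q D := zpowers_le.2 hn hw
  have hA : (Nat.card (zpowers (w : G))).Coprime p := by rw [Nat.card_zpowers, orderOf_coe]; exact cop_iff.2 hw2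
  have hQD : D = Q := by
    rw [← cop_eq_sup_of_commutator_le (le_top.trans (top_le_normalizer D)) (copA_of_p' (hQ.to_le hDQ) hA) hDQ
      (mem_cmod_iff.1 hwN), eq_comm, sup_eq_left]
    by_contra h
    obtain ⟨y, hy, hy1⟩ := exists_orderOf_eq_of_isPGroup (hQ.to_le (inf_le_left (b := centralizer
      ((zpowers (w : G) : Subgroup G) : Set G)))) fun e => h (e ▸ bot_le)
    have hyD : y ∈ D := L.mem_omegaOne hy.1 (hy1 ▸ pow_orderOf_eq_one y)
    set y' : H := ⟨y, hU.le (hDU hyD)⟩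
    obtain ⟨a, c, e⟩ := Δ.mem_V'.1 (hDV (mem_im_of_mem f (x := y') hyD))
    have e1 := Δ.conj_hz (f w) a c
    rw [← e, ← map_inv, ← map_mul, ← map_mul, show w * y' * w⁻¹ = y' from Subtype.ext
      (mul_inv_eq_iff_eq_mul.2 (comm_of_mem_centralizer hy.2 (mem_zpowers _))), e, show Δ.θ (f w) = -1 from hw1,
      Δ.hz_eq_iff] at e1
    have h2 : (2 : ZMod p) ≠ 0 := fun h =>
      absurd (Nat.le_of_dvd two_pos ((ZMod.natCast_eq_zero_iff 2 p).1 (by exact_mod_cast h))) (by omega)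
    have ea : a = 0 := (mul_eq_zero.1 (show 2 * a = 0 by
      have := e1.1; simp at this; linear_combination this)).resolve_left h2
    have ec : c = 0 := (mul_eq_zero.1 (show 2 * c = 0 by
      have := e1.2.1; simp at this; linear_combination this)).resolve_left h2
    rw [ea, ec, Δ.hz_zero, ← map_one f] at e
    have : y = 1 := inj (hDU hyD) (one_mem _) e
    rw [this, orderOf_one] at hy1
    omega
  have hD0 : kr f ⊓ D = ⊥ := le_bot_iff.1 (hk0 ▸ inf_le_inf_left _ hDU)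
  obtain ⟨a, ha⟩ := L.exists_card_eq_pow hQ
  have ha2 : a ≤ 2 := (Nat.pow_le_pow_iff_right hp.out.one_lt).1 (by
    rw [← ha, ← hV, ← hQD, ← card_im_of_disjoint f (hDU.trans hU.le) hD0]; exact card_le_of_le hDV)
  have hT3 : Nat.card T' ≤ p ^ (a.choose 2 + a) := by
    rw [← relIndex_mul_card hT'.Op_le, pow_add, ← ha]
    exact Nat.mul_le_mul_right _ ((relIndex_le_of_le_left hc (L.relIndex_pos _ _).ne').trans
      (L.relIndex_centralizer_le_pow hT'.isP a hT'.Op_le (le_top.trans (top_le_normalizer Q)) ha))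
  have ha3 := (Nat.pow_le_pow_iff_right hp.out.one_lt).1 ((hU3.trans (card_le_of_le hUT)).trans hT3)
  obtain rfl : a = 2 := by interval_cases a <;> simp at ha3 ⊢
  obtain rfl : U = T' := eq_of_le_of_card_ge hUT (hT3.trans hU3)
  have hDV' : im f D = Δ.V := eq_of_le_of_card_ge hDV (by
    rw [card_im_of_disjoint f (hDU.trans hU.le) hD0, hQD, ha, hV])
  obtain ⟨z, hz, hz1⟩ := (mem_im f).1 (hDV' ▸ Δ.hz_mem_V.2 rfl : Δ.hz 1 0 0 ∈ im f D)
  obtain ⟨e, he, he1⟩ := (mem_im f).1 (hDV' ▸ Δ.hz_mem_V.2 rfl : Δ.hz 0 1 0 ∈ im f D)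
  have h2 : (2 : ZMod p) ≠ 0 := fun h =>
    absurd (Nat.le_of_dvd two_pos ((ZMod.natCast_eq_zero_iff 2 p).1 (by exact_mod_cast h))) (by omega)
  set d := H5.sl2 (2 : ZMod p) 0 0 2⁻¹ (by simp [h2])
  obtain ⟨g, hg, hg1⟩ : ∃ g : H, (g : G) ∈ H ⊓ normalizer (U : Set G) ∧ f g = Δ.s d := (mem_im f).1 (by
    rw [im_normalizer_cop f hU.isP hU.le le_rfl hk', im_self f hf, hUS]
    exact ⟨trivial, Δ.B_le (Δ.mem_B.2 (by rw [Δ.θs]; rfl))⟩)
  have hgU : ∀ {x : G}, x ∈ U → (g : G) * x * (g : G)⁻¹ ∈ U := conj_mem_of_le_normalizer le_rfl hg.2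
  obtain ⟨x, -, rfl⟩ := hT'.conj hT
  have hx : ∀ {y : G}, y ∈ D → x * y * x⁻¹ ∈ Q := fun hy => Normal.conj_mem inferInstance _ (hDQ hy) x
  refine ⟨ha, by rw [card_cj, hUc], fun y hy => ?_, _, hx hz, _, hx he, _, cj_normalizer x U ▸ conj_mem_cj hg.2, ?_,
    cj_centralizer x U ▸ conj_mem_cj (mem_centralizer_iff.2 fun u hu => ?_), ?_, ?_, ?_⟩
  · rw [show y = x * (x⁻¹ * y * x) * x⁻¹ by group, conj_pow, hUe _ (mem_cj.1 hy), mul_one, mul_inv_cancel]
  · rw [ne_eq, conj_eq_one_iff, OneMemClass.coe_eq_one]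
    intro h
    rw [h, map_one, ← Δ.hz_zero, Δ.hz_eq_iff] at hz1
    exact zero_ne_one hz1.1
  · obtain ⟨a, c, b, e⟩ := down ⟨u, hU.le hu⟩ hu
    refine inj (a := ⟨u, hU.le hu⟩ * z) (b := z * ⟨u, hU.le hu⟩) (mul_mem hu (hDU hz)) (mul_mem (hDU hz) hu) ?_
    rw [map_mul, map_mul, e, hz1, Δ.hz_mul, Δ.hz_mul, Δ.hz_eq_iff]
    exact ⟨by ring, by ring, by ring⟩
  · rw [← cj_centralizer, conj_mem_cj_iff]
    intro h
    have := congrArg f (show t * e = e * t from Subtype.ext (comm_of_mem_centralizer h htU))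
    rw [map_mul, map_mul, ht, he1, Δ.hz_mul, Δ.hz_mul, Δ.hz_eq_iff] at this
    simpa using this.1
  · have : (g : G) * z * (g : G)⁻¹ = (z : G) ^ 2 := inj (a := g * z * g⁻¹) (b := z ^ 2) (hgU (hDU hz))
      (pow_mem (hDU hz) 2) (by
        rw [map_mul, map_mul, map_inv, map_pow, hg1, hz1, Δ.conj_hz, Δ.θs, Δ.hz_pow, Δ.hz_eq_iff]; simp [d, H5.sl2])
    rw [conj_pow, ← this]; group
  · have : (g : G) * (e : G) ^ 2 * (g : G)⁻¹ = e := inj (a := g * e ^ 2 * g⁻¹) (b := e) (hgU (pow_mem (hDU he) 2))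
      (hDU he) (by
        rw [map_mul, map_mul, map_inv, map_pow, hg1, he1, Δ.hz_pow, mul_zero, mul_zero, Δ.conj_hz, Δ.θs,
          Δ.hz_eq_iff]; simp [d, H5.sl2, h2])
    rw [conj_pow]; nth_rw 2 [← this]; group

theorem rank2_contra (h3 : 3 < p) (hG : IsPGroup p (⊤ : Subgroup G)) {T E : Subgroup G} (hT : ∀ x, x ∈ T ↔ x ^ p = 1)
    (hT3 : Nat.card T = p ^ 3) (hE2 : Nat.card E = p ^ 2) (hC : centralizer (E : Set G) ≤ E)
    (hN : normalizer (E : Set G) ≤ T) {z e : G} (hz : z ∈ E) (he : e ∈ E) (hz1 : z ≠ 1)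
    (hzT : z ∈ centralizer (T : Set G)) (heT : e ∉ centralizer (T : Set G)) (φ : G →* G) (hφ : Function.Surjective φ)
    (h1 : φ z = z ^ 2) (h2 : φ (e ^ 2) = e) : T = ⊤ := by
  by_contra hne
  have p1 := hp.out.one_lt
  have hp' : ∀ H : Subgroup G, IsPGroup p H := fun H => hG.to_le le_top
  have hET : E ≤ T := le_normalizer.trans hN
  haveI : T.Normal := ⟨fun x hx g => (hT _).2 (by rw [conj_pow, (hT x).1 hx, mul_one, mul_inv_cancel])⟩
  have btw : ∀ {X Y Z : Subgroup G}, X < Y → Y < Z → p ^ 2 * Nat.card X ≤ Nat.card Z := fun {X Y Z} a b => by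
    rw [pow_two, mul_assoc]
    exact (Nat.mul_le_mul_left _ (L.mul_card_le_of_lt (hp' _) a)).trans (L.mul_card_le_of_lt (hp' _) b)
  set W := zpowers z
  have hWc : Nat.card W = p := by rw [Nat.card_zpowers, orderOf_eq_prime ((hT z).1 (hET hz)) hz1]
  have hWE : W ≤ E := zpowers_le.2 hz
  have key : ∀ X, W ≤ X → X ≤ E → e ∉ X → X = W := fun X a b c => by
    by_contra h
    have := btw (lt_of_le_of_ne a (Ne.symm h)) (lt_of_le_not_ge b fun h => c (h he))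
    rw [hWc, hE2] at this
    nlinarith [pow_pos (zero_lt_one.trans p1) 2]
  have hW : centralizer (T : Set G) = W := key _ (zpowers_le.2 hzT) ((centralizer_anti hET).trans hC) heT
  haveI : W.Normal := hW ▸ inferInstance
  have hWZ : ∀ w ∈ W, ∀ g, g * w = w * g := fun w hw g => comm_of_mem_centralizer
    (L.le_centralizer_of_card_prime hG le_top (top_le_normalizer W) (hWc ▸ hp.out) hw) (mem_top g)
  have hEe : E = W ⊔ zpowers e := by
    by_contra h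
    have := btw (lt_of_le_not_ge le_sup_left fun h => heT (hW ▸ h (mem_sup_right (mem_zpowers e))))
      (lt_of_le_of_ne (sup_le hWE (zpowers_le.2 he)) (Ne.symm h))
    rw [hWc, hE2] at this
    nlinarith [pow_pos (zero_lt_one.trans p1) 2]
  have hNE : ∀ c, ⁅c, e⁆ ∈ W → c ∈ T := fun c hc => hN (mem_normalizer_of_cj_le (by
    rw [hEe, cj_sup, cj_eq_of_normal, cj_zpowers]
    refine sup_le le_sup_left (zpowers_le.2 ?_)
    rw [show c * e * c⁻¹ = ⁅c, e⁆ * e by simp only [commutatorElement_def]; group]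
    exact mul_mem (mem_sup_left hc) (mem_sup_right (mem_zpowers e))))
  have hCE : ∀ c, c * e = e * c → c ∈ E := fun c hc => hC (by
    rw [hEe, centralizer_sup, centralizer_zpowers e]
    exact ⟨mem_centralizer_iff.2 fun w hw => (hWZ w hw c).symm, mem_centralizer_singleton_iff.2 hc⟩)
  set A := T ⊓ cmod ⊤ W
  have hA : ∀ {x}, x ∈ A ↔ x ∈ T ∧ ∀ g, ⁅g, x⁆ ∈ W := fun {x} => and_congr_right fun _ => mem_cmod_iff.trans
    ⟨fun h g => h (commutator_mem_commutator (mem_top g) (mem_zpowers x)), fun h => by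
      rw [commutator_comm, zpowers_eq_closure]
      exact L.commutator_closure_le (fun s _ => top_le_normalizer W trivial) fun s hs b _ => by
        rw [hs, ← commutatorElement_inv]; exact inv_mem (h b)⟩
  have hWA : W ≤ A := fun w hw => hA.2 ⟨hET (hWE hw), fun g => by
    rw [commutatorElement_eq_one_iff_mul_comm.2 (hWZ w hw g)]; exact one_mem _⟩
  have heA : e ∉ A := fun h => hne (top_le_iff.1 fun g _ => hNE g ((hA.1 h).2 g))
  have hAE : ∀ a ∈ A, a * e = e * a → a ∈ W := fun a ha h =>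
    key (A ⊓ E) (le_inf hWA hWE) inf_le_right (fun h => heA h.1) ▸ mem_inf.2 ⟨ha, hCE a h⟩
  have hWT : W < T := lt_of_le_not_ge (hWE.trans hET) fun h => heT (hW ▸ h (hET he))
  obtain ⟨x, hx, hxW, -, hx'⟩ := L.exists_central_mod_pow hG hWT le_top (top_le_normalizer W) (top_le_normalizer T)
  have l1 : W < A := lt_of_le_not_ge hWA fun h => hxW (h (hA.2 ⟨hx, fun g => by
    rw [← commutatorElement_inv]; exact inv_mem (hx' g trivial)⟩))
  have l2 : A < T := lt_of_le_not_ge inf_le_left fun h => heA (h (hET he))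
  have hAc : Nat.card A = p ^ 2 := by
    have a := L.mul_card_le_of_lt (hp' _) l1
    have b := L.mul_card_le_of_lt (hp' _) l2
    rw [hWc] at a
    rw [hT3, pow_succ'] at b
    exact le_antisymm (Nat.le_of_mul_le_mul_left b (by omega)) (by rwa [pow_two])
  have hAi : A.relIndex T = p := by
    have := relIndex_mul_card l2.le
    rw [hAc, hT3, pow_succ' p 2] at this
    exact Nat.eq_of_mul_eq_mul_right (by positivity) this
  set C := centralizer (A : Set G)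
  have hAC : A ≤ C := L.le_centralizer_of_comm (L.isMulCommutative_of_card_le_sq (hp' A) hAc.le)
  have hCT : C ⊓ T = A := (L.eq_or_eq_of_relIndex_prime (hAi ▸ hp.out) (le_inf hAC l2.le) inf_le_right).resolve_right
    fun h => l1.not_ge (hW ▸ le_centralizer_iff.1 (h.ge.trans inf_le_left))
  obtain ⟨s, hs, hsT⟩ : ∃ s ∈ C, s ∉ T := by
    by_contra h
    push Not at h
    have e1 := L.relIndex_centralizer_le_pow hG 2 le_top (top_le_normalizer A) hAc
    have e2 := relIndex_mul_card (le_top : C ≤ ⊤)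
    have e3 : Nat.card C ≤ p ^ 2 := hAc ▸ card_le_of_le (hCT ▸ le_inf le_rfl h)
    exact hne (eq_of_le_of_card_ge le_top (by
      rw [← e2, hT3, pow_succ' p 2]; exact Nat.mul_le_mul (by simpa using e1) e3))
  have hTA : ∀ g, ⁅g, e⁆ ∈ A := fun g => by
    rw [← commutatorElement_inv]
    exact inv_mem (L.commutator_le_of_relIndex_prime hG l2.le le_top (top_le_normalizer A) (top_le_normalizer T)
      (hAi ▸ hp.out) (commutator_mem_commutator (hET he) (mem_top g)))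
  have hmul : ∀ c ∈ C, ∀ d, ⁅c * d, e⁆ = ⁅d, e⁆ * ⁅c, e⁆ := fun c hc d => by
    rw [L.commutatorElement_mul_left', ← comm_of_mem_centralizer hc (hTA d), mul_inv_cancel_right]
  have hpow : ∀ c ∈ C, ∀ n : ℕ, ⁅c ^ n, e⁆ = ⁅c, e⁆ ^ n := fun c hc n =>
    L.commutatorElement_pow_left (comm_of_mem_centralizer hc (hTA c)).symm n
  set a := ⁅s, e⁆ with ha
  have haA : a ∈ A := hTA s
  have hae : ∀ b ∈ A, ⁅b, e⁆ ∈ W := fun b hb => by rw [← commutatorElement_inv]; exact inv_mem ((hA.1 hb).2 e)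
  have hφW : ∀ w ∈ W, φ w = w ^ 2 := by
    rintro _ ⟨k, rfl⟩
    simp only [map_zpow, h1]
    rw [← zpow_natCast, ← zpow_natCast, ← _root_.zpow_mul, ← _root_.zpow_mul, mul_comm]
  have hφA : ∀ b ∈ A, φ b ∈ A := fun b hb => hA.2 ⟨(hT _).2 (by rw [← map_pow, (hT b).1 hb.1, map_one]), fun g => by
    obtain ⟨g, rfl⟩ := hφ g
    rw [← map_commutatorElement, hφW _ ((hA.1 hb).2 g)]
    exact pow_mem ((hA.1 hb).2 g) 2⟩
  have hφA' : A.map φ = A := eq_of_le_of_card_ge (map_le_iff_le_comap.2 hφA)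
    (card_map_of_injective (Finite.injective_iff_surjective.2 hφ)).ge
  have hφs : φ s ∈ C := mem_centralizer_iff.2 fun b hb => by
    obtain ⟨b, hb', rfl⟩ : b ∈ A.map φ := hφA'.symm ▸ hb
    rw [← map_mul, ← map_mul, comm_of_mem_centralizer hs hb']
  -- `φ a ≡ a ^ 4`
  have e1 : φ a * (a ^ 4)⁻¹ ∈ W := hAE _ (mul_mem (hφA a haA) (inv_mem (pow_mem haA 4))) (by
    have q1 : ⁅φ a, e⁆ = ⁅a, e⁆ ^ 4 := by
      nth_rw 1 [← h2]
      rw [← map_commutatorElement, L.commutatorElement_pow_right (hWZ _ (hae a haA) e), hφW _ (pow_mem (hae a haA) 2),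
        ← pow_mul]
    have q2 := hmul (φ a * (a ^ 4)⁻¹) (hAC (mul_mem (hφA a haA) (inv_mem (pow_mem haA 4)))) (a ^ 4)
    rw [inv_mul_cancel_right, q1, hpow a (hAC haA)] at q2
    exact commutatorElement_eq_one_iff_mul_comm.1 (left_eq_mul.1 q2))
  have e2 : ⁅φ s * (s ^ 8)⁻¹, e⁆ ∈ W := by
    have q1 : ⁅φ s, e⁆ = φ a * (φ a * φ ⁅e, a⁆) := by
      nth_rw 1 [← h2]
      rw [← map_commutatorElement, pow_two, L.commutatorElement_mul_right', map_mul, ← map_mul φ a ⁅e, a⁆,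
        hWZ _ ((hA.1 haA).2 e), ← ha]
      congr 2; simp only [commutatorElement_def e a]; group
    have q2 := hmul (φ s * (s ^ 8)⁻¹) (mul_mem hφs (inv_mem (pow_mem hs 8))) (s ^ 8)
    rw [inv_mul_cancel_right, q1, hpow s hs, ← ha] at q2
    rw [← inv_mul_eq_iff_eq_mul.2 q2]
    obtain ⟨w, hw, e3⟩ : ∃ w ∈ W, φ a = w * a ^ 4 := ⟨_, e1, (inv_mul_cancel_right _ _).symm⟩
    have q3 : φ ⁅e, a⁆ ∈ W := by rw [hφW _ ((hA.1 haA).2 e)]; exact pow_mem ((hA.1 haA).2 e) 2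
    rw [e3, show (a ^ 8)⁻¹ * (w * a ^ 4 * (w * a ^ 4 * φ ⁅e, a⁆)) =
      ((a ^ 8)⁻¹ * w * (a ^ 8)⁻¹⁻¹) * ((a ^ 4)⁻¹ * w * (a ^ 4)⁻¹⁻¹) * φ ⁅e, a⁆ by group]
    exact mul_mem (mul_mem (Normal.conj_mem inferInstance _ hw _) (Normal.conj_mem inferInstance _ hw _)) q3
  have e3 : φ s * (s ^ 8)⁻¹ ∈ A := hCT ▸ mem_inf.2 ⟨mul_mem hφs (inv_mem (pow_mem hs 8)), hNE _ e2⟩
  have e4 : s ^ p ∈ W := by
    have q : ⁅s ^ p, e⁆ = 1 := by rw [hpow s hs, (hT _).1 (hTA s).1]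
    exact hAE _ (hCT ▸ mem_inf.2 ⟨pow_mem hs p, hNE _ (q ▸ one_mem _)⟩) (commutatorElement_eq_one_iff_mul_comm.1 q)
  have e5 : (s ^ p) ^ 2 = (s ^ p) ^ 2 * (s ^ p) ^ 6 := by
    rw [← pow_add, ← hφW _ e4, map_pow, ← inv_mul_cancel_right (φ s) (s ^ 8),
      Commute.mul_pow (comm_of_mem_centralizer (pow_mem hs 8) e3), (hT _).1 e3.1, one_mul, ← pow_mul, ← pow_mul,
      mul_comm]
  refine hsT ((hT s).2 (by
    have q : (s ^ p) ^ p = 1 := (hT _).1 (hET (hWE e4))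
    have q' := orderOf_dvd_of_pow_eq_one (left_eq_mul.1 e5)
    rcases (Nat.dvd_prime hp.out).1 (orderOf_dvd_of_pow_eq_one q) with h | h
    · exact orderOf_eq_one_iff.1 h
    · rw [h] at q'
      rcases (Nat.Prime.dvd_mul hp.out (m := 2) (n := 3)).1 q' with h | h <;>
        exact absurd (Nat.le_of_dvd (by norm_num) h) (by omega)))

end H9

namespace FG

open Subgroup Cfsg Equiv H2
open scoped commutatorElement

universe u

variable {Ω : Type u} [Group Ω] {S R : Subgroup Ω} {F : FusionSystem S} {p : ℕ} [hp : Fact p.Prime] [Finite S]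

/-- a model of the normalizer system of `R` -/
structure LocM (p : ℕ) (F : FusionSystem S) (R : Subgroup Ω) {M : Type*} [Group M]
    (ι : (S ⊓ normalizer (R : Set Ω) : Subgroup Ω) →* M) : Prop where
  inj : Function.Injective ι
  syl : H9.Syl p ι.range ⊤
  core : H9.Op p ⊤ = img (fn ι) R
  cons : centralizer (H9.Op p (⊤ : Subgroup M) : Set M) ≤ H9.Op p ⊤
  mor : ∀ P ≤ S ⊓ normalizer (R : Set Ω), ∀ g : M, (∀ x ∈ P, g * fn ι x * g⁻¹ ∈ ι.range) →
    ∃ σ : Perm Ω, Mor F P σ ∧ ∀ x ∈ P, σ x ∈ S ⊓ normalizer (R : Set Ω) ∧ fn ι (σ x) = g * fn ι x * g⁻¹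
  conj : ∀ α ∈ Aut F R, ∃ g : M, ∀ x ∈ R, fn ι (α x) = g * fn ι x * g⁻¹

theorem loc_model (hF : Sat p F) (h1 : F.IsFullyNormalized R) (h2 : F.IsCentric R) (h3 : F.IsRadical p R) :
    ∃ (M : Type u) (_ : Group M) (_ : Finite M) (ι : (S ⊓ normalizer (R : Set Ω) : Subgroup Ω) →* M), LocM p F R ι := by
  obtain ⟨N, hN, M, _, ι, hM⟩ := exists_N_model hF h1 h2
  rw [isNormalizerSystem_iff] at hN
  have hR : R ≤ FusionSystem.normalizerIn S R := le_inf h1.1 le_normalizer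
  have hc : N.core = R := le_antisymm (normal_le_cr hM.sat.pg (core_normal N) (centric_sub hN.sub h2 hR)
    (radical_iff.2 ⟨hR, hN.Aut_self hR ▸ (radical_iff.1 h3).2⟩)) (le_core (hN.normal hR))
  refine ⟨M, inferInstance, hM.fin, ι, hM.iso.inj, m_syl hM, by rw [H9.Op_top, m_core hM, hc]; rfl, m_cons' hM,
    fun P hP g hg => ?_, fun α hα => hM.conj ((mem_Aut hR).1 (hN.Aut_self hR ▸ hα)).1⟩
  obtain ⟨σ, c1, c2⟩ := m_mor hM hP hg
  exact ⟨σ, c1.sub hN.sub, fun x hx => ⟨c1.mem hx, c2 x hx⟩⟩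

namespace LocM
variable {M : Type*} [Group M] {ι : (S ⊓ normalizer (R : Set Ω) : Subgroup Ω) →* M} (h : LocM p F R ι)
include h

theorem inj' {x y : Ω} (hx : x ∈ S ⊓ normalizer (R : Set Ω)) (hy : y ∈ S ⊓ normalizer (R : Set Ω))
    (e : fn ι x = fn ι y) : x = y := by
  rw [fn_apply _ hx, fn_apply _ hy] at e
  exact congrArg Subtype.val (h.inj e)

theorem card_img {P : Subgroup Ω} (hP : P ≤ S ⊓ normalizer (R : Set Ω)) : Nat.card (img (fn ι) P) = Nat.card P :=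
  ((homOn_fn ι).mono hP).card_img fun _ hx _ hy => h.inj' (hP hx) (hP hy)

theorem mem {P : Subgroup Ω} (hP : P ≤ S ⊓ normalizer (R : Set Ω)) {x : Ω} (hx : x ∈ S ⊓ normalizer (R : Set Ω)) :
    fn ι x ∈ img (fn ι) P ↔ x ∈ P :=
  ⟨fun e => let ⟨_, hy, e'⟩ := (mem_img_fn hP).1 e; h.inj' (hP hy) hx e' ▸ hy, mem_img_of_mem⟩

theorem mem_cent {P : Subgroup Ω} (hP : P ≤ S ⊓ normalizer (R : Set Ω)) {x : Ω} (hx : x ∈ S ⊓ normalizer (R : Set Ω)) :
    fn ι x ∈ centralizer (img (fn ι) P : Set M) ↔ x ∈ centralizer (P : Set Ω) := by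
  simp only [mem_centralizer_iff, SetLike.mem_coe]
  refine ⟨fun e y hy => h.inj' (mul_mem (hP hy) hx) (mul_mem hx (hP hy)) ?_, fun e y hy => ?_⟩
  · rw [homOn_fn ι _ (hP hy) _ hx, homOn_fn ι _ hx _ (hP hy), e _ (mem_img_of_mem hy)]
  · obtain ⟨y, hy', rfl⟩ := (mem_img_fn hP).1 hy
    rw [← homOn_fn ι _ (hP hy') _ hx, ← homOn_fn ι _ hx _ (hP hy'), e _ hy']

theorem not_le (hS : IsPGroup p S) (hR : R ≤ S) (hne : R ≠ S) : ¬ ι.range ≤ H9.Op p ⊤ := fun e =>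
  (lt_normalizer hS hR hne).not_ge fun _ hx =>
    (h.mem (le_inf hR le_normalizer) hx).1 (h.core ▸ e (range_eq_img_fn ι ▸ mem_img_of_mem hx))

end LocM

theorem cr_rank2 [Finite Ω] (h3 : 3 < p) (hF : Sat p F) (hr : FT.rk p S ≤ 2) (h1 : F.IsFullyNormalized R)
    (h2 : F.IsCentric R) (h4 : F.IsRadical p R) (hne : R ≠ S) : Nat.card R = p ^ 2 ∧
      Nat.card (S ⊓ normalizer (R : Set Ω) : Subgroup Ω) = p ^ 3 ∧ (∀ x ∈ S ⊓ normalizer (R : Set Ω), x ^ p = 1) ∧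
      ∃ z ∈ R, ∃ e ∈ R, ∃ σ : Perm Ω, Mor F (S ⊓ normalizer (R : Set Ω)) σ ∧ σ ∈ Stab (S ⊓ normalizer (R : Set Ω)) ∧
        z ≠ 1 ∧ z ∈ centralizer ((S ⊓ normalizer (R : Set Ω) : Subgroup Ω) : Set Ω) ∧
        e ∉ centralizer ((S ⊓ normalizer (R : Set Ω) : Subgroup Ω) : Set Ω) ∧ σ z = z ^ 2 ∧ σ (e ^ 2) = e := by
  obtain ⟨M, _, _, ι, h⟩ := loc_model hF h1 h2 h4
  have hR : R ≤ S ⊓ normalizer (R : Set Ω) := le_inf h1.1 le_normalizer
  have hι := homOn_fn ι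
  obtain ⟨c1, c2, c3, z, hz', e, he', g, hg, d1, d2, d3, d4, d5⟩ := H9.rank2_local h3 h.syl h.cons (by
    rw [← FT.rk_eq_of_syl h.syl, ← H9.im_self_eq_range, FT.rk_im ι le_rfl (by
      rw [show H9.kr ι = ⊥ from le_bot_iff.1 fun x hx => let ⟨a, b⟩ := (H9.mem_kr ι).1 hx
        congrArg Subtype.val (h.inj (b.trans (map_one ι).symm)), bot_inf_eq, card_bot]; exact Nat.coprime_one_left _)]
    exact (FT.rk_mono inf_le_left).trans hr) (h.not_le hF.pg h1.1 hne)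
  rw [h.core] at c1 hz' he'
  rw [range_eq_img_fn] at c2 c3 d2 d3
  obtain ⟨z, hz, rfl⟩ := (mem_img_fn hR).1 hz'
  obtain ⟨e, he, rfl⟩ := (mem_img_fn hR).1 he'
  obtain ⟨σ, a1, a2⟩ := h.mor _ le_rfl g fun x hx => H9.conj_mem_of_le_normalizer le_rfl hg (mem_range_fn hx)
  refine ⟨h.card_img hR ▸ c1, h.card_img le_rfl ▸ c2, fun x hx => h.inj' (pow_mem hx p) (one_mem _) ?_, z, hz, e, he,
    σ, a1, a1.mem_Stab le_rfl fun x hx => (a2 x hx).1, fun e => d1 (by rw [e, hι.map_one]),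
    (h.mem_cent le_rfl (hR hz)).1 d2, fun e => d3 ((h.mem_cent le_rfl (hR he)).2 e),
    h.inj' (a2 z (hR hz)).1 (pow_mem (hR hz) 2) ?_, h.inj' (a2 _ (pow_mem (hR he) 2)).1 (hR he) ?_⟩
  · rw [hι.map_pow hx, c3 _ (mem_img_of_mem hx), hι.map_one]
  · rw [(a2 z (hR hz)).2, d4, hι.map_pow (hR hz)]
  · rw [(a2 _ (pow_mem (hR he) 2)).2, hι.map_pow (hR he), d5]

theorem resistant_top [Finite Ω] {F : FusionSystem (⊤ : Subgroup Ω)} (h3 : 3 < p) (hF : Sat p F)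
    (hr : FT.rk p (⊤ : Subgroup Ω) ≤ 2) (hn : Nat.card (⊤ : Subgroup Ω) = p ^ 3 → ¬ ∀ x : Ω, x ^ p = 1) :
    F.IsNormal ⊤ := by
  refine hF.normal_top_of fun E h1 h2 h4 => ?_
  by_contra hne
  obtain ⟨c1, c2, c3, z, hz, e, he, σ, a1, a2, d1, d2, d3, d4, d5⟩ :=
    cr_rank2 h3 hF hr h1 h2 h4 fun h => hne h.ge
  rw [top_inf_eq] at c2 c3 a1 a2 d2 d3
  set T := normalizer (E : Set Ω)
  have hO : T = omegaOne p ⊤ := eq_of_le_of_card_ge (fun x hx => L.mem_omegaOne trivial (c3 x hx))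
    (c2 ▸ FT.t4_8a (hF.pg.to_le le_top) ((FT.rk_mono le_top).trans hr) fun x hx => FT.t4_8b h3 ⊤ hF.pg hr hx)
  have hT : ∀ x, x ∈ T ↔ x ^ p = 1 := fun x => ⟨c3 x, fun h => hO ▸ L.mem_omegaOne trivial h⟩
  obtain ⟨τ, R, b1, b2, b3, b4, b5, b6⟩ := lift_cr hF (le_top : T ≤ ⊤)
  rw [b1.homOn.img_eq_of_le fun x hx => (hT _).2 (by rw [← b1.homOn.map_pow hx, c3 x hx, b1.homOn.map_one])] at b2 b6
  obtain rfl : R = ⊤ := by
    by_contra h
    have := card_le_of_le b2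
    rw [c2, (cr_rank2 h3 hF hr b3 b4 b5 h).1, Nat.pow_le_pow_iff_right hp.out.one_lt] at this
    omega
  obtain ⟨φ, e1, e2, -⟩ := ext_top_iff.1 (b6 _ (a1.res_mem a2))
  rw [sup_top_eq] at e1
  have hET : E ≤ T := le_normalizer
  have := H9.rank2_contra h3 hF.pg hT c2 c1 (top_inf_eq (centralizer (E : Set Ω)) ▸ centric_self h2) le_rfl hz he d1 d2
    d3 (MonoidHom.mk' φ fun a b => e1.homOn a trivial b trivial) φ.surjective
    ((e2 z (hET hz)).trans ((res_apply a2 (hET hz)).trans d4))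
    ((e2 _ (pow_mem (hET he) 2)).trans ((res_apply a2 (pow_mem (hET he) 2)).trans d5))
  exact hn (this ▸ c2) fun x => c3 x (this ▸ mem_top x)

theorem exists_iso_top (F : FusionSystem S) : ∃ F' : FusionSystem (⊤ : Subgroup S), Iso F F' (MonoidHom.id S) := by
  have hθ : Function.Injective (MonoidHom.id S) := Function.injective_id
  obtain ⟨F', h⟩ := exists_factor F (MonoidHom.id S) (MonoidHom.range_eq_top.2 Function.surjective_id)
    (by rw [pre_bot_of_inj hθ]; exact wc_of_sc (sc_bot F))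
  rw [pre_bot_of_inj hθ] at h
  exact ⟨F', iso_iff.1 h⟩

theorem resistant_rank2 (h3 : 3 < p) (hF : Sat p F)
    (hr : ∀ E : Subgroup Ω, E ≤ S → IsElementaryAbelian p E → Nat.card E ≤ p ^ 2)
    (hn : ¬ (Nat.card S = p ^ 3 ∧ Monoid.exponent S = p)) : F.IsNormal S := by
  obtain ⟨F', h⟩ := exists_iso_top F
  rw [← h.normal_iff le_rfl, h.toSurjM.img_top]
  refine resistant_top h3 (h.sat hF) (FT.rk_le_iff'.2 fun A _ hA => H9.card_map_subtype A ▸
    hr _ (map_subtype_le A) (H9.elem_map _ hA)) fun e1 e2 => hn ⟨card_top.symm.trans e1, ?_⟩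
  haveI : Nontrivial S := Finite.one_lt_card_iff_nontrivial.1 (by
    rw [← card_top, e1]; exact Nat.one_lt_pow three_ne_zero hp.out.one_lt)
  exact (Monoid.exponent_eq_prime_iff hp.out).2 fun g hg => orderOf_eq_prime (e2 g) hg

end FG
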