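import Cfsg.Agent.H9.ES
import Cfsg.Agent.H1.FF2

/-!
H9.ES2: chains stabilised by Sylow subgroups; Sylow subgroups acting as transvections on an abelian `O_p`.
-/

set_option autoImplicit false
set_option linter.unusedSectionVars false

namespace H9

open Subgroup Cfsg Matrix Multiplicative
open scoped commutatorElement MatrixGroups

variable {G : Type*} [Group G] [Finite G] {p : ℕ} [hp : Fact p.Prime]

/-- the `p'`-subgroups of `K` act on `D` with commutator in `X` -/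
def Tr (p : ℕ) (K D X : Subgroup G) : Prop := ∀ A ≤ K, (Nat.card A).Coprime p → ⁅D, A⁆ ≤ X

section Tr
variable {K D X Y U : Subgroup G}

theorem Tr.start (hn : K ≤ normalizer (D : Set G)) : Tr p K D D := fun _ h _ => commutator_le_left' (h.trans hn)

theorem Tr.step (h : Tr p K D Y) (hD : IsPGroup p D) (hn : K ≤ normalizer (D : Set G)) (h' : ⁅Y, K⁆ ≤ X) :
    Tr p K D X := fun A hA hc => by
  rw [← cop_ccomm (hA.trans hn) (copA_of_p' hD hc)]
  exact (commutator_mono (h A hA hc) hA).trans h'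

theorem Tr.isP (h : Tr p K D ⊥) (hc : IsPGroup p (centralizer (D : Set G))) : IsPGroup p K :=
  isPGroup_of_Ores_eq_bot (le_bot_iff.1 (Ores_le_iff.2 fun A h1 h2 =>
    (eq_bot_of_p_p' (hc.to_le (le_centralizer_iff''.2 (le_bot_iff.1 (h A h1 h2)))) h2).le))

instance ncl_top_normal (U : Subgroup G) : (ncl U ⊤).Normal := normal_of_top_le (le_normalizer_ncl U ⊤)

theorem Tr.startN [D.Normal] : Tr p (ncl U ⊤) D D := Tr.start (le_top.trans (top_le_normalizer D))

theorem Tr.stepN [D.Normal] (X : Subgroup G) [X.Normal] [Y.Normal] (h : Tr p (ncl U ⊤) D Y) (hD : IsPGroup p D)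
    (h' : ⁅Y, U⁆ ≤ X) : Tr p (ncl U ⊤) D X :=
  h.step hD (le_top.trans (top_le_normalizer D))
    (commutator_ncl_le h' (top_le_normalizer Y) (top_le_normalizer X) (le_top.trans (top_le_normalizer X)))

theorem comm1_le [X.Normal] [Y.Normal] (hY : IsPGroup p Y) (hX : X ≤ Y) (hU : IsPGroup p U)
    (h : Nat.card Y ≤ p * Nat.card X) : ⁅Y, U⁆ ≤ X := by
  by_cases e : Y ≤ X
  · exact (commutator_le_left' (le_top.trans (top_le_normalizer Y))).trans e
  have hL := hU.to_sup_of_normal_right hY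
  refine (commutator_mono le_rfl le_sup_left).trans (L.commutator_le_of_relIndex_prime hL hX le_sup_right
    (le_top.trans (top_le_normalizer X)) (le_top.trans (top_le_normalizer Y)) ?_)
  rw [L.relIndex_eq_of_le hY e (Nat.le_of_mul_le_mul_right (by rwa [relIndex_mul_card hX]) Nat.card_pos)]
  exact hp.out

theorem Tr.stepC [D.Normal] (X : Subgroup G) [X.Normal] [Y.Normal] (h : Tr p (ncl U ⊤) D Y) (hD : IsPGroup p D)
    (hU : IsPGroup p U) (hY : Y ≤ D) (hX : X ≤ Y) (hc : Nat.card Y ≤ p * Nat.card X) : Tr p (ncl U ⊤) D X :=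
  h.stepN X hD (comm1_le (hD.to_le hY) hX hU hc)

theorem Tr.le_Op (h : Tr p (ncl U ⊤) D ⊥) (hc : IsPGroup p (centralizer (D : Set G))) : U ≤ Op p ⊤ :=
  (le_ncl U ⊤).trans (H9.le_Op le_top (top_le_normalizer _) (h.isP hc))

end Tr

section tv
variable {Q T U : Subgroup G}

/-- `T` acts on the abelian normal subgroup `Q` by transvections with a common axis -/
structure Ax (p : ℕ) (Q T : Subgroup G) : Prop where
  syl : Syl p T ⊤
  le : Q ≤ T
  cent : centralizer (Q : Set G) = Q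
  idx : (centralizer (T : Set G)).relIndex Q = p

theorem Ax.cj [Q.Normal] (h : Ax p Q T) (g : G) : Ax p Q (cj g T) :=
  ⟨cj_top g ▸ h.syl.cj g, cj_eq_of_normal g Q ▸ cj_mono g h.le, h.cent, by
    rw [← cj_centralizer, ← cj_eq_of_normal g Q, relIndex_cj, h.idx]⟩

theorem Ax.isP (h : Ax p Q T) : IsPGroup p Q := h.syl.isP.to_le h.le

theorem Ax.idx' (h : Ax p Q T) : (Q ⊓ centralizer (T : Set G)).relIndex Q = p := by rw [inf_relIndex_left, h.idx]

theorem Ax.comm_le [Q.Normal] (h : Ax p Q T) : ⁅Q, T⁆ ≤ Q ⊓ centralizer (T : Set G) :=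
  L.commutator_le_of_relIndex_prime h.syl.isP inf_le_left h.le (normalizer_inf (le_top.trans (top_le_normalizer Q))
    (normalizer_centralizer le_normalizer)) (le_top.trans (top_le_normalizer Q)) (h.idx'.symm ▸ hp.out)

theorem Ax.le_of [Q.Normal] (h : Ax p Q T) (h' : Ax p Q U) {B : Subgroup G} (hB : B ≤ T)
    (e : ⁅Q, B⁆ ≤ centralizer (U : Set G)) : B ≤ U := by
  have nQ : ∀ X : Subgroup G, X ≤ normalizer (Q : Set G) := fun X => le_top.trans (top_le_normalizer Q)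
  have l1 : ⁅Q, B⁆ ≤ Q := commutator_le_left' (nQ _)
  have l2 : ⁅Q, U⁆ ≤ Q := commutator_le_left' (nQ _)
  have := ((((Tr.start (p := p) (nQ (B ⊔ U))).step h.isP (nQ _) (H1.comm_sup_le_of_le (sup_le l1 l2) le_sup_left
    le_sup_right)).step h.isP (nQ _) (H1.comm_sup_le_of_le le_sup_left (commutator_mono (sup_le l1 l2) le_rfl)
    ((le_centralizer_iff'.1 (sup_le e (h'.comm_le.trans inf_le_right))).le.trans bot_le))).step h.isP (nQ _)
    (le_centralizer_iff'.1 (by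
      rw [centralizer_sup]
      exact le_inf (((commutator_mono le_rfl hB).trans (h.comm_le.trans inf_le_right)).trans (centralizer_anti hB))
        e)).le).isP (h.cent.symm ▸ h.isP)
  exact h'.syl.maximal this le_top le_sup_right ▸ le_sup_left

theorem Ax.cent_eq (h : Ax p Q T) {t : G} (ht : t ∈ T) (htQ : t ∉ Q) :
    Q ⊓ centralizer {t} = Q ⊓ centralizer (T : Set G) :=
  (L.eq_or_eq_of_relIndex_prime (h.idx'.symm ▸ hp.out) (inf_le_inf_left _ (centralizer_zpowers t ▸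
    centralizer_anti (zpowers_le.2 ht))) inf_le_left).resolve_right fun e =>
      htQ (h.cent ▸ le_centralizer_singleton_iff.1 (e.ge.trans inf_le_right))

theorem Ax.eq_of [Q.Normal] (h : Ax p Q T) (h' : Ax p Q U) {t : G} (ht : t ∈ T) (htQ : t ∉ Q)
    (e : ⁅Q, zpowers t⁆ ≤ centralizer (U : Set G)) : T = U := by
  have e1 := (h.cent_eq ht htQ).symm.trans (h'.cent_eq (zpowers_le.1 (h.le_of h' (zpowers_le.2 ht) e)) htQ)
  exact (h.syl.maximal h'.syl.isP le_top (h.le_of h' le_rfl ((h.comm_le.trans e1.le).trans inf_le_right))).symm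

theorem Ax.hom [Q.Normal] (h : Ax p Q T) {x : G} (hx : x ∈ Q) (hxT : x ∉ centralizer (T : Set G)) :
    (∀ t ∈ T, ⁅Q, zpowers t⁆ ≤ zpowers ⁅t, x⁆) ∧
      ∃ φ : T →* G, (∀ t : T, φ t = ⁅(t : G), x⁆) ∧ φ.range = ⁅Q, T⁆ ∧ φ.ker = Q.subgroupOf T := by
  have hQ := L.sup_zpowers_eq_of_relIndex_prime (h.idx'.symm ▸ hp.out) inf_le_left hx fun e => hxT e.2
  have hc : ∀ t ∈ T, ⁅t, x⁆ ∈ Q ⊓ centralizer (T : Set G) := fun t ht =>
    h.comm_le (commutator_comm T Q ▸ commutator_mem_commutator ht hx)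
  have hz : ∀ t ∈ T, ∀ q ∈ Q, ⁅t, q⁆ ∈ zpowers ⁅t, x⁆ := fun t ht q hq => by
    obtain ⟨z, hz, _, hy, rfl⟩ := (mem_sup_of_le_normalizer' (((zpowers_le.2 hx).trans h.le).trans (normalizer_inf
      (le_top.trans (top_le_normalizer Q)) (normalizer_centralizer le_normalizer)))).1 (hQ.symm ▸ hq)
    obtain ⟨n, rfl⟩ := (mem_powers_iff_mem_zpowers.2 hy)
    rw [L.commutatorElement_mul_right', commutatorElement_eq_one_iff_mul_comm.2 (comm_of_mem_centralizer hz.2 ht),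
      one_mul, L.commutatorElement_pow_right (comm_of_mem_centralizer (hc t ht).2 (h.le hx)),
      ← comm_of_mem_centralizer (h.cent.symm ▸ hz.1) (pow_mem (hc t ht).1 n), mul_inv_cancel_right]
    exact pow_mem (mem_zpowers _) n
  refine ⟨fun t ht => ?_, MonoidHom.mk' (fun t : T => ⁅(t : G), x⁆) fun a b => ?_, fun _ => rfl, le_antisymm ?_ ?_, ?_⟩
  · rw [commutator_comm, zpowers_eq_closure t]
    refine L.commutator_closure_le ?_ ?_ <;> rintro s rfl
    exacts [centralizer_le_normalizer' _ (le_centralizer_iff.1 (zpowers_le.2 (hc _ ht).2) ht), hz _ ht]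
  · show ⁅(a : G) * b, x⁆ = _
    rw [L.commutatorElement_mul_left', comm_of_mem_centralizer (hc b b.2).2 a.2, mul_inv_cancel_right]
    exact comm_of_mem_centralizer (hc a a.2).2 (h.le (hc b b.2).1)
  · rintro _ ⟨t, rfl⟩
    exact commutator_comm T Q ▸ commutator_mem_commutator t.2 hx
  · rw [commutator_comm]
    exact commutator_le.2 fun t ht q hq => zpowers_le.2 (show _ ∈ MonoidHom.range _ from ⟨⟨t, ht⟩, rfl⟩) (hz t ht q hq)
  · ext t
    refine ⟨fun e => ?_, fun e => commutatorElement_eq_one_iff_mul_comm.2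
      (comm_of_mem_centralizer (h.cent.symm ▸ e) hx).symm⟩
    rw [mem_subgroupOf, ← h.cent, ← hQ, centralizer_sup, centralizer_zpowers]
    exact ⟨le_centralizer_iff.1 inf_le_right t.2,
      mem_centralizer_singleton_iff.2 (commutatorElement_eq_one_iff_mul_comm.1 e)⟩

theorem Ax.exists_x (h : Ax p Q T) : ∃ x ∈ Q, x ∉ centralizer (T : Set G) :=
  SetLike.not_le_iff_exists.1 fun e => hp.out.one_lt.ne ((relIndex_eq_one.2 e).symm.trans h.idx)

theorem Ax.inf_bot [Q.Normal] (h : Ax p Q T) (h' : Ax p Q U) (hne : T ≠ U) :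
    ⁅Q, T⁆ ⊓ centralizer (U : Set G) = ⊥ := by
  obtain ⟨x, hx, hxT⟩ := h.exists_x
  obtain ⟨h1, φ, h2, h3, h4⟩ := h.hom hx hxT
  refine le_bot_iff.1 fun y hy => ?_
  obtain ⟨t, rfl⟩ : y ∈ φ.range := h3 ▸ hy.1
  by_contra e
  exact hne (h.eq_of h' t.2 (fun e' => e (show t ∈ φ.ker from h4 ▸ e')) ((h1 t t.2).trans (zpowers_le.2 (h2 t ▸ hy.2))))

theorem Ax.card [Q.Normal] (h : Ax p Q T) (h' : Ax p Q U) (hne : T ≠ U) :
    Nat.card (⁅Q, T⁆ : Subgroup G) = p ∧ Q.relIndex T = p := by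
  obtain ⟨x, hx, hxT⟩ := h.exists_x
  obtain ⟨-, φ, h2, h3, h4⟩ := h.hom hx hxT
  have e : Q.relIndex T = Nat.card (⁅Q, T⁆ : Subgroup G) := by rw [relIndex, ← h4, index_ker, h3]
  have l : ⁅Q, T⁆ ≤ Q := h.comm_le.trans inf_le_left
  have e1 := relIndex_mul_card_inf (centralizer (U : Set G)) ⁅Q, T⁆
  rw [inf_comm, h.inf_bot h' hne, card_bot, mul_one] at e1
  have e2 : Q.relIndex T = p := L.relIndex_eq_of_le h.syl.isP (fun e => hxT (le_centralizer_iff.1 (h.cent.symm ▸ e) hx))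
    (by rw [e, ← e1, ← h'.idx]; exact relIndex_le_of_le_right l (L.relIndex_pos _ _).ne')
  exact ⟨e ▸ e2, e2⟩

theorem Ax.struct [Q.Normal] (h : Ax p Q T) (hne : ¬ T.Normal) : Nat.card (⁅Q, T⁆ : Subgroup G) = p ∧
    Q.relIndex T = p ∧ IsElementaryAbelian p ⁅Q, ncl T ⊤⁆ ∧ Nat.card (⁅Q, ncl T ⊤⁆ : Subgroup G) = p ^ 2 ∧
    ⁅Q, ncl T ⊤⁆ ⊓ centralizer (ncl T ⊤ : Set G) = ⊥ ∧ ⁅Q, ncl T ⊤⁆ ⊔ Q ⊓ centralizer (ncl T ⊤ : Set G) = Q ∧
    ⁅Q, T⁆ ⊔ Q ⊓ centralizer (ncl T ⊤ : Set G) = Q ⊓ centralizer (T : Set G) := by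
  obtain ⟨g, hg⟩ := not_forall.1 (mt normal_iff_cj.2 hne)
  set U := H9.cj g T
  have h' : Ax p Q U := h.cj g
  have hab : Q ≤ centralizer (Q : Set G) := h.cent.ge
  have all : ∀ {W}, Ax p Q W → Nat.card (⁅Q, W⁆ : Subgroup G) = p := fun {W} hW => by
    by_cases e : W = T
    · exact e ▸ (h.card h' (Ne.symm hg)).1
    · exact (hW.card h e).1
  have lQ : ∀ W, ⁅Q, W⁆ ≤ Q := fun W => commutator_le_left' (le_top.trans (top_le_normalizer Q))
  have el : ∀ {W}, Ax p Q W → IsElementaryAbelian p ⁅Q, W⁆ := fun {W} hW =>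
    ⟨L.comm_of_le_centralizer (((lQ W).trans hab).trans (centralizer_anti (lQ W))), fun a ha => by
      rw [← all hW]; exact congrArg Subtype.val (pow_card_eq_one' (x := (⟨a, ha⟩ : (⁅Q, W⁆ : Subgroup G))))⟩
  set V := ⁅Q, T⁆ ⊔ ⁅Q, U⁆
  have hVQ : V ≤ Q := sup_le (lQ _) (lQ _)
  have c12 : ⁅Q, T⁆ ≤ centralizer ((⁅Q, U⁆ : Subgroup G) : Set G) := ((lQ T).trans hab).trans (centralizer_anti (lQ U))
  have hV : Nat.card V = p ^ 2 := by
    have := card_sup_mul_card_inf (c12.trans (centralizer_le_normalizer' _))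
    rwa [le_bot_iff.1 ((inf_le_inf_left _ (h'.comm_le.trans inf_le_right)).trans (h.inf_bot h' (Ne.symm hg)).le),
      card_bot, mul_one, all h, all h', ← pow_two] at this
  have line : ∀ v ∈ V, v ∈ ⁅Q, T⁆ ∨ ∃ t ∈ T, v ∈ ⁅Q, H9.cj t U⁆ := fun v hv => by
    obtain ⟨a, ha, w, hw, rfl⟩ := (mem_sup_of_le_normalizer (c12.trans (centralizer_le_normalizer' _))).1 hv
    by_cases e : w ∈ centralizer (T : Set G)
    · rw [show w = 1 from mem_bot.1 (h'.inf_bot h hg ▸ mem_inf.2 ⟨hw, e⟩), mul_one]; exact Or.inl ha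
    obtain ⟨-, φ, h2, h3, -⟩ := h.hom (lQ U hw) e
    obtain ⟨t, rfl⟩ : a ∈ φ.range := h3 ▸ ha
    refine Or.inr ⟨t, t.2, ?_⟩
    rw [H1.cj_comm_left (top_le_normalizer Q trivial), h2, commutatorElement_def, inv_mul_cancel_right]
    exact conj_mem_cj hw
  have eqv : ∀ {W X v}, Ax p Q W → Ax p Q X → v ≠ 1 → v ∈ ⁅Q, W⁆ → v ∈ centralizer (X : Set G) → W = X :=
    fun {W X v} hW hX h1 h2 h3 => by_contra fun e => h1 (mem_bot.1 (hW.inf_bot hX e ▸ mem_inf.2 ⟨h2, h3⟩))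
  have cls : ∀ k, H9.cj k T = T ∨ ∃ t ∈ T, H9.cj k T = H9.cj t U := fun k => by
    obtain ⟨v, hv, hv1⟩ : ∃ v ∈ centralizer ((H9.cj k T : Subgroup G) : Set G) ⊓ V, v ≠ 1 := by
      by_contra e
      push Not at e
      have e1 := relIndex_mul_card_inf (centralizer ((H9.cj k T : Subgroup G) : Set G)) V
      rw [(eq_bot_iff_forall _).2 e, card_bot, mul_one, hV] at e1
      have e2 := relIndex_le_of_le_right (H := centralizer ((H9.cj k T : Subgroup G) : Set G)) hVQ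
        (L.relIndex_pos _ _).ne'
      rw [e1, (h.cj k).idx] at e2
      have := hp.out.one_lt
      nlinarith
    exact (line v hv.2).imp (fun e => (eqv h (h.cj k) hv1 e hv.1).symm)
      fun ⟨t, ht, e⟩ => ⟨t, ht, (eqv (h'.cj t) (h.cj k) hv1 e hv.1).symm⟩
  have nV : T ≤ normalizer (V : Set G) := le_normalizer_of_commutator_le le_sup_left hVQ
  have eV : ⁅Q, ncl T ⊤⁆ = V := le_antisymm (H1.comm_iSup_le_of_le hVQ fun k : (⊤ : Subgroup G) => by
      rcases cls k with e | ⟨t, ht, e⟩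
      · rw [e]; exact le_sup_left
      · rw [e, H1.cj_comm_left (top_le_normalizer Q trivial), ← mem_normalizer_iff_cj.1 (nV ht)]
        exact cj_mono t le_sup_right)
    (sup_le (commutator_mono le_rfl (le_ncl _ _)) (commutator_mono le_rfl (cj_le_ncl T trivial)))
  set Y := Q ⊓ centralizer (ncl T ⊤ : Set G)
  have eY : (Q ⊓ centralizer (T : Set G)) ⊓ centralizer (U : Set G) ≤ Y := le_inf (inf_le_left.trans inf_le_left)
    (le_centralizer_iff.2 (ncl_le_iff.2 fun k _ => le_centralizer_iff.1 (by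
      rcases cls k with e | ⟨t, ht, e⟩
      · exact e.symm ▸ inf_le_left.trans inf_le_right
      · intro y hy
        rw [e, ← cj_centralizer, mem_cj, mul_assoc, ← comm_of_mem_centralizer hy.1.2 ht, inv_mul_cancel_left]
        exact hy.2)))
  have cT : centralizer (ncl T ⊤ : Set G) ≤ centralizer (T : Set G) := centralizer_anti (le_ncl _ _)
  have cU : centralizer (ncl T ⊤ : Set G) ≤ centralizer (U : Set G) := centralizer_anti (cj_le_ncl T trivial)
  have hVY : V ⊓ centralizer (ncl T ⊤ : Set G) = ⊥ := (eq_bot_iff_forall _).2 fun v hv => by_contra fun e => by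
    rcases line v hv.1 with e' | ⟨t, ht, e'⟩
    · exact hg (eqv h h' e e' (cU hv.2)).symm
    · exact hg ((eqv (h'.cj t) h' e e' (cU hv.2)).symm.trans (eqv (h'.cj t) h e e' (cT hv.2)))
  have hYc : Nat.card Q ≤ Nat.card V * Nat.card Y := by
    rw [hV, pow_two, ← relIndex_mul_card (inf_le_left : Y ≤ Q)]
    refine Nat.mul_le_mul_right _ ((relIndex_le_of_le_left eY (L.relIndex_pos _ _).ne').trans ?_)
    exact L.relIndex_inf_le' h.idx'.le h'.idx.le
  have hVY' : V ⊓ Y = ⊥ := le_bot_iff.1 ((inf_le_inf_left _ inf_le_right).trans hVY.le)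
  have eQ := H1.sup_eq_of_card hVQ inf_le_left hVY' hYc
  rw [eV]
  refine ⟨all h, (h.card h' (Ne.symm hg)).2, L.isElem_sup (el h) (el h') c12, hV, hVY, eQ, ?_⟩
  have e1 := dedekind (A := Y) (B := V) (inf_le_inf_left Q cT) (Or.inl ((inf_le_left.trans h.le).trans nV))
  have e2 := dedekind (B := ⁅Q, U⁆) h.comm_le (Or.inl (c12.trans (centralizer_le_normalizer' _)))
  rw [le_bot_iff.1 ((inf_le_inf_left _ inf_le_right).trans (h'.inf_bot h hg).le), sup_bot_eq] at e2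
  rw [e2, sup_comm Y V, eQ, inf_eq_right.2 inf_le_left] at e1
  rw [e1, sup_comm]

theorem Ax.inv [Q.Normal] (hp2 : p ≠ 2) (h : Ax p Q T) (hne : ¬ T.Normal) :
    ∃ k ∈ ncl T ⊤, ∀ v ∈ ⁅Q, ncl T ⊤⁆, k * v * k⁻¹ = v⁻¹ := by
  obtain ⟨-, -, c1, c2, -, c4, -⟩ := h.struct hne
  have lQ : ⁅Q, ncl T ⊤⁆ ≤ Q := commutator_le_left' (le_top.trans (top_le_normalizer Q))
  obtain ⟨t, ht, htQ⟩ := SetLike.not_le_iff_exists.1 fun e : T ≤ Op p ⊤ =>
    hne (le_antisymm e h.syl.Op_le ▸ normal_of_top_le (le_normalizer_Op p ⊤))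
  have hC : centralizer ((⁅Q, ncl T ⊤⁆ : Subgroup G) : Set G) ⊓ ncl T ⊤ ≤ Q := by
    nth_rw 2 [← h.cent]
    nth_rw 2 [← c4]
    rw [centralizer_sup]
    exact inf_le_inf_left _ (le_centralizer_iff.1 inf_le_right)
  obtain ⟨K, hK, θ, j, h1, h2, h3, h4⟩ := nat2_of_not_mem_Opm hp2 c1 (le_top.trans (top_le_normalizer _))
    (le_ncl T ⊤ ht) (le_centralizer_iff'.1 (((commutator_mono lQ (zpowers_le.2 ht)).trans (h.comm_le.trans
      inf_le_right)).trans (centralizer_anti (zpowers_le.2 ht)))) fun e => htQ ((SN.of_normal_top _).Op_le_Op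
        (Opm_le_Op (h.isP.to_le hC) e))
  have hj : j.range = ⁅Q, ncl T ⊤⁆ := eq_of_le_of_card_ge h3 (by
    rw [c2, ← Nat.card_congr (MonoidHom.ofInjective h2).toEquiv]; simp [Nat.card_pi])
  obtain ⟨k, hk⟩ := h1 (-1)
  refine ⟨k, hK k.2, fun v hv => ?_⟩
  obtain ⟨x, rfl⟩ : v ∈ j.range := hj ▸ hv
  have := h4 k (toAdd x)
  rw [hk, ofAdd_toAdd] at this
  rw [this, ← map_inv]; congr 1; simp [Matrix.neg_mulVec]

end tv

end H9
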