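import Cfsg.Agent.H9.ES2

/-!
H9.ES3: abelian centric radical subgroups on which the normalizer acts by transvections.
-/

set_option autoImplicit false
set_option linter.unusedSectionVars false

namespace FG

open Subgroup Cfsg Equiv H2
open scoped commutatorElement

universe u

section iso
variable {Ω : Type u} [Group Ω] {S P : Subgroup Ω} {F : FusionSystem S} {p : ℕ} [hp : Fact p.Prime] [Finite S]

theorem iso_essential {Ω' : Type*} [Group Ω'] {S' : Subgroup Ω'} [Finite S'] {F' : FusionSystem S'} {θ : S →* Ω'}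
    (h : Iso F F' θ) (hF : Sat p F) (hP : F.IsEssential p P) : F'.IsEssential p (img (fn θ) P) := by
  obtain ⟨c1, c2, c3, c4⟩ := hF.essential_iff.1 hP
  have hF' := h.sat hF
  obtain ⟨Φ, hΦ⟩ := h.exists_autEquiv c2.1
  refine hF'.essential_iff.2 ⟨h.centric c1, h.fn c2, fun e => c3 ?_, fun e => c4 (le_antisymm (Gam_le _ _ _) fun α hα => ?_)⟩
  · rw [← h.pre_img c2.1, e, ← h.range, pre_range]
  have := hF'.Gam_le (hF'.fc_of_fn (h.fn c2)) (Y := (((Gam (Aut F P) (AutS P P) (AutS S P)).subgroupOf (Aut F P)).map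
    Φ.toMonoidHom).map (Aut F' _).subtype) fun β hβ Q τ h1 _ h3 h4 => by
      obtain ⟨σ, d1, d2⟩ := h.lift h3
      have l : P ≤ pre θ Q := (le_pre_iff c2.1).2 h1.le
      refine ⟨_, ⟨Φ.symm ⟨β, hβ⟩, hF.mem_Gam_of_extends c2 c1 (Φ.symm ⟨β, hβ⟩).2 (lt_of_le_of_ne l fun e => h1.ne ?_) d1
        fun x hx => h.injOn (d1.mem (l hx)) (c2.1 (Aut.mem (Φ.symm ⟨β, hβ⟩).2 hx)) ?_, Φ.apply_symm_apply _⟩, rfl⟩
      · rw [e, img_pre (h.range ▸ h3.le)]
      · rw [← d2 x (l hx), h4 _ (mem_img_of_mem hx), coe_subtype, ← hΦ _ x hx, Φ.apply_symm_apply]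
  obtain ⟨_, ⟨γ, hγ, rfl⟩, e'⟩ := this (e.ge (Φ ⟨α, hα⟩).2)
  obtain rfl : γ = ⟨α, hα⟩ := Φ.injective (Subtype.ext e')
  exact hγ

theorem img_id_map (P : Subgroup S) : img (fn (MonoidHom.id S)) (P.map S.subtype) = P := by
  ext x
  rw [mem_img_fn (map_subtype_le P)]
  exact ⟨fun ⟨_, ⟨y, hy, rfl⟩, e⟩ => e ▸ (fn_coe (MonoidHom.id S) y ▸ hy),
    fun hx => ⟨x, mem_map_of_mem _ hx, (fn_coe (MonoidHom.id S) x).symm⟩⟩

theorem exists_top (hF : Sat p F) : ∃ F' : FusionSystem (⊤ : Subgroup S), Sat p F' ∧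
    (∀ P : Subgroup S, F.IsEssential p (P.map S.subtype) ↔ F'.IsEssential p P) ∧ (F.core = ⊥ → F'.core = ⊥) ∧
    (F.hyperfocalSubgroup p = S → F'.hyperfocalSubgroup p = ⊤) := by
  obtain ⟨F', h⟩ := exists_iso_top F
  obtain ⟨θ, h', -, -, e, -⟩ := h.exists_symm
  refine ⟨F', h.sat hF, fun P => ⟨fun hP => img_id_map P ▸ iso_essential h hF hP, fun hP => ?_⟩, fun e => ?_, fun e => ?_⟩
  · have := iso_essential h' (h.sat hF) hP
    rwa [e P le_top, ← img_id_map P, h.pre_img (map_subtype_le P)] at this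
  · rw [h.core_eq, e, img_bot (homOn_fn _).map_one]
  · rw [h.toSurjM.hyp_eq hF, e, h.toSurjM.img_top]

variable {R : Subgroup Ω} {M : Type*} [Group M] {ι : (S ⊓ normalizer (R : Set Ω) : Subgroup Ω) →* M} (h : LocM p F R ι)
include h

theorem LocM.le_of {A B : Subgroup Ω} (hA : A ≤ S ⊓ normalizer (R : Set Ω)) (hB : B ≤ S ⊓ normalizer (R : Set Ω))
    (e : img (fn ι) A ≤ img (fn ι) B) : A ≤ B := fun _ hx => (h.mem hB (hA hx)).1 (e (mem_img_of_mem hx))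

theorem LocM.eq_of {A B : Subgroup Ω} (hA : A ≤ S ⊓ normalizer (R : Set Ω)) (hB : B ≤ S ⊓ normalizer (R : Set Ω))
    (e : img (fn ι) A = img (fn ι) B) : A = B := le_antisymm (h.le_of hA hB e.le) (h.le_of hB hA e.ge)

theorem LocM.img_cent {A B : Subgroup Ω} (hA : A ≤ S ⊓ normalizer (R : Set Ω)) (hB : B ≤ S ⊓ normalizer (R : Set Ω)) :
    img (fn ι) (A ⊓ centralizer (B : Set Ω)) = img (fn ι) A ⊓ centralizer (img (fn ι) B : Set M) := by
  refine le_antisymm (img_le_iff.2 fun x hx => ⟨mem_img_of_mem hx.1, (h.mem_cent hB (hA hx.1)).2 hx.2⟩) fun y hy => ?_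
  obtain ⟨x, hx, rfl⟩ := (mem_img_fn hA).1 hy.1
  exact mem_img_of_mem ⟨hx, (h.mem_cent hB (hA hx)).1 hy.2⟩

theorem LocM.gam [Finite M] (hF : Sat p F) (hR : F.IsEssential p R) : Gam ⊤ (H9.Op p ⊤) ι.range ≠ ⊤ := fun e => by
  obtain ⟨c1, c2, -, c4⟩ := hF.essential_iff.1 hR
  have l : R ≤ S ⊓ normalizer (R : Set Ω) := le_inf c2.1 le_normalizer
  have nQ : ∀ g : M, ∀ x ∈ R, g * fn ι x * g⁻¹ ∈ img (fn ι) R := fun g x hx =>
    h.core ▸ H9.conj_mem_of_le_normalizer (H9.le_normalizer_Op p ⊤) trivial (h.core ▸ mem_img_of_mem hx)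
  have key : ∀ g ∈ Gam ⊤ (H9.Op p ⊤) ι.range, ∃ α ∈ Gam (Aut F R) (AutS R R) (AutS S R),
      ∀ x ∈ R, fn ι (α x) = g * fn ι x * g⁻¹ := fun g hg => by
    induction hg using closure_induction with
    | mem g hg =>
      obtain ⟨-, U, h1, h2, h3⟩ := hg
      have e1 := img_pre h2
      obtain ⟨σ, d1, d2⟩ := h.mor _ (pre_le ι U) g fun x hx =>
        h2 (H9.conj_mem_of_le_normalizer le_rfl h3 (mem_pre.1 hx).2)
      have l1 : R ≤ pre ι U := (le_pre_iff l).2 (h.core ▸ h1.le)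
      have hs : σ ∈ Stab R := d1.mem_Stab l1 fun x hx => (h.mem l (d2 x (l1 hx)).1).1 ((d2 x (l1 hx)).2 ▸ nQ g x hx)
      exact ⟨res R σ, hF.mem_Gam_of_extends c2 c1 ((d1.mono l1).res_mem hs) (lt_of_le_of_ne l1 fun e =>
        h1.ne (h.core.trans ((congrArg _ e).trans e1))) d1 fun x hx => (res_apply hs hx).symm,
        fun x hx => (res_apply hs hx).symm ▸ (d2 x (l1 hx)).2⟩
    | one => exact ⟨1, one_mem _, fun x _ => by simp⟩
    | mul a b _ _ ha hb =>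
      obtain ⟨α, a1, a2⟩ := ha
      obtain ⟨β, b1, b2⟩ := hb
      exact ⟨α * β, mul_mem a1 b1, fun x hx => by
        rw [Perm.mul_apply, a2 _ (Aut.mem (Gam_le _ _ _ b1) hx), b2 x hx]; group⟩
    | inv a _ ha =>
      obtain ⟨α, a1, a2⟩ := ha
      refine ⟨α⁻¹, inv_mem a1, fun x hx => ?_⟩
      have := a2 _ (Aut.mem (Gam_le _ _ _ (inv_mem a1)) hx)
      rw [pai] at this
      rw [this]; group
  refine c4 (le_antisymm (Gam_le _ _ _) fun α hα => ?_)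
  obtain ⟨g, hg⟩ := h.conj α hα
  obtain ⟨β, b1, b2⟩ := key g (e.symm ▸ mem_top g)
  have b3 := Gam_le _ _ _ b1
  rwa [Sym_ext ((mem_Aut c2.1).1 hα).2 ((mem_Aut c2.1).1 b3).2 fun x hx =>
    h.inj' (l (Aut.mem hα hx)) (l (Aut.mem b3 hx)) ((hg x hx).trans (b2 x hx).symm)]

end iso

variable {G : Type u} [Group G] [Finite G] {F : FusionSystem (⊤ : Subgroup G)} {p : ℕ} [hp : Fact p.Prime]
  {P V Y : Subgroup G}

/-- proper fully normalized centric radical subgroups -/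
structure CR (p : ℕ) (F : FusionSystem (⊤ : Subgroup G)) (P : Subgroup G) : Prop where
  f : F.IsFullyNormalized P
  c : F.IsCentric P
  r : F.IsRadical p P
  ne : P ≠ ⊤

theorem CR.of_ess (hF : Sat p F) (h : F.IsEssential p P) : CR p F P :=
  ⟨h.2.1, h.1, hF.radical_of_essential h, hF.essential_ne h⟩

theorem CR.cent (h : CR p F P) : centralizer (P : Set G) ≤ P := top_inf_eq (centralizer (P : Set G)) ▸ centric_self h.c

theorem CR.center_le (h : CR p F P) : center G ≤ P := (center_le_centralizer _).trans h.cent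

theorem CR.map (h : CR p F P) {α : Perm G} (hα : Mor F ⊤ α) : CR p F (img α P) :=
  ⟨(fn_img h.f hα le_top).1, centric_img h.c (hα.mono le_top), radical_img h.r (hα.mono le_top), fun e =>
    h.ne (eq_of_le_of_card_ge le_top (by rw [← (hα.mono le_top : Mor F P α).card_img, e]))⟩

theorem CR.lt (hF : Sat p F) (h : CR p F P) : P < normalizer (P : Set G) :=
  top_inf_eq (normalizer (P : Set G)) ▸ lt_normalizer hF.pg le_top h.ne

theorem CR.two (hF : Sat p F) (h : CR p F P) {X : Subgroup G} (hX : ∀ α ∈ Aut F P, ∀ x ∈ P, x ∈ X → α x ∈ X) {a : G}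
    (ha : a ∈ normalizer (P : Set G)) (h1 : ∀ x ∈ P, x⁻¹ * (a * x * a⁻¹) ∈ X) (h2 : ∀ x ∈ P, x ∈ X → a * x * a⁻¹ = x) :
    a ∈ P := by
  refine mem_of_cP_mem_Inn (centric_self h.c) le_top trivial ha ((radical_iff.1 h.r).2 ▸ mem_Oc_of_chain
    (hF.pg.to_le le_top) (fun _ e => ((mem_Aut le_top).1 e).2) (fun _ => Aut.homOn)
    (fun i => match i with | 0 => ⊥ | 1 => X | _ => P) 2 le_rfl (fun α e _ x _ hx => ?_) (fun i hi α e x hx hx' => ?_)
    (cP_mem_Aut F le_top trivial ha) fun i hi x hx hx' => ?_)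
  · rw [mem_bot.1 hx, (Aut.homOn e).map_one]
  · interval_cases i
    exacts [by rw [mem_bot.1 hx', (Aut.homOn e).map_one]; exact one_mem _, hX α e x hx hx', Aut.mem e hx]
  · rw [cP_apply ha hx]
    interval_cases i
    exacts [by rw [h2 x hx hx', inv_mul_cancel]; exact one_mem _, h1 x hx]

/-- the decomposition of an abelian centric radical subgroup with transvections -/
structure AbE (p : ℕ) (F : FusionSystem (⊤ : Subgroup G)) (P V Y : Subgroup G) : Prop where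
  exp : ∀ v ∈ V, v ^ p = 1
  card : Nat.card V = p ^ 2
  disj : V ⊓ Y = ⊥
  sup : V ⊔ Y = P
  comm : ⁅P, normalizer (P : Set G)⁆ ≤ V
  cardc : Nat.card (⁅P, normalizer (P : Set G)⁆ : Subgroup G) = p
  z : ⁅P, normalizer (P : Set G)⁆ ⊔ Y = P ⊓ centralizer (normalizer (P : Set G) : Set G)
  idx : P.relIndex (normalizer (P : Set G)) = p
  invV : ∀ α ∈ Aut F P, ∀ x ∈ V, α x ∈ V
  invY : ∀ α ∈ Aut F P, ∀ x ∈ Y, α x ∈ Y
  fac : ∀ α ∈ Aut F P, ∃ β : Perm G, Mor F (normalizer (P : Set G)) β ∧ β ∈ Stab P ∧ ∀ y ∈ Y, α y = β y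
  inv : p ≠ 2 → ∃ σ : Perm G, Mor F P σ ∧ (∀ v ∈ V, σ v = v⁻¹) ∧ ∀ y ∈ Y, σ y = y

theorem CR.abE (hF : Sat p F) (hP : CR p F P) (hab : IsMulCommutative P)
    (hi : (centralizer (normalizer (P : Set G) : Set G)).relIndex P = p) : ∃ V Y, AbE p F P V Y := by
  obtain ⟨M, _, _, ι, h⟩ := loc_model hF hP.f hP.c hP.r
  have l : P ≤ ⊤ ⊓ normalizer (P : Set G) := le_inf le_top le_normalizer
  have lN : normalizer (P : Set G) ≤ ⊤ ⊓ normalizer (P : Set G) := le_inf le_top le_rfl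
  have hι := homOn_fn ι
  have eT : ι.range = img (fn ι) (normalizer (P : Set G)) := (range_eq_img_fn ι).trans (congrArg _ (top_inf_eq _))
  set Q := H9.Op p (⊤ : Subgroup M)
  haveI : Q.Normal := H9.normal_of_top_le (H9.le_normalizer_Op p ⊤)
  have hc : Q = img (fn ι) P := h.core
  have eZ := h.img_cent l lN
  rw [← hc, ← eT] at eZ
  have ax : H9.Ax p Q ι.range := ⟨h.syl, h.syl.Op_le, le_antisymm h.cons (by
      have := h.img_cent l l
      rw [inf_eq_left.2 (L.le_centralizer_of_comm hab), ← hc] at this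
      exact this.le.trans inf_le_right), by
    have e1 := H9.relIndex_mul_card_inf (centralizer (ι.range : Set M)) Q
    have e2 := H9.relIndex_mul_card_inf (centralizer (normalizer (P : Set G) : Set G)) P
    rw [inf_comm (centralizer _), ← eZ, h.card_img (inf_le_left.trans l), hc, h.card_img l, ← e2, inf_comm P, hi,
      ← hc] at e1
    exact Nat.eq_of_mul_eq_mul_right Nat.card_pos e1⟩
  have hn : ¬ ι.range.Normal := fun _ =>
    h.not_le hF.pg le_top hP.ne (H9.le_Op le_top (H9.top_le_normalizer _) h.syl.isP)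
  obtain ⟨c1, c2, c3, c4, c5, c6, c7⟩ := ax.struct hn
  set V' := ⁅Q, H9.ncl ι.range ⊤⁆
  set Y' := Q ⊓ centralizer (H9.ncl ι.range ⊤ : Set M)
  have eV := img_pre ((le_sup_left.trans c6.le).trans ax.le)
  have eY := img_pre ((le_sup_right.trans c6.le).trans ax.le)
  have lV : pre ι V' ≤ P := h.le_of (pre_le _ _) l (by rw [eV, ← hc]; exact le_sup_left.trans c6.le)
  have lY : pre ι Y' ≤ P := h.le_of (pre_le _ _) l (by rw [eY, ← hc]; exact inf_le_left)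
  have eC : img (fn ι) ⁅P, normalizer (P : Set G)⁆ = ⁅Q, ι.range⁆ := by rw [hι.img_commutator l lN, ← hc, ← eT]
  have lC : ⁅P, normalizer (P : Set G)⁆ ≤ P := H9.commutator_le_left' le_rfl
  have inv : ∀ X : Subgroup M, X.Normal → pre ι X ≤ P → ∀ α ∈ Aut F P, ∀ x ∈ pre ι X, α x ∈ pre ι X :=
    fun X hX lX α hα x hx => by
      obtain ⟨g, hg⟩ := h.conj α hα
      exact mem_pre.2 ⟨l (Aut.mem hα (lX hx)), hg x (lX hx) ▸ hX.conj_mem _ (mem_pre.1 hx).2 g⟩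
  have nQ : ∀ g : M, ∀ x ∈ P, g * fn ι x * g⁻¹ ∈ img (fn ι) P := fun g x hx =>
    hc ▸ Normal.conj_mem inferInstance _ (show _ ∈ Q from hc ▸ mem_img_of_mem hx) g
  refine ⟨pre ι V', pre ι Y', fun v hv => h.inj' (l (pow_mem (lV hv) p)) (one_mem _) ?_, ?_, ?_, ?_, ?_, ?_, ?_, ?_,
    inv _ inferInstance lV, inv _ inferInstance lY, fun α hα => ?_, fun hp2 => ?_⟩
  · rw [hι.map_pow (l (lV hv)), c3.2 _ (mem_pre.1 hv).2, hι.map_one]
  · rw [← h.card_img (pre_le _ _), eV, c4]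
  · exact (eq_bot_iff_forall _).2 fun x hx => h.inj' (l (lV hx.1)) (one_mem _) (hι.map_one.symm ▸
      mem_bot.1 (c5 ▸ mem_inf.2 ⟨(mem_pre.1 hx.1).2, (mem_pre.1 hx.2).2.2⟩))
  · exact h.eq_of ((sup_le lV lY).trans l) l (by rw [(hι.mono ((sup_le lV lY).trans l)).img_sup, eV, eY, c6, hc])
  · exact (le_pre_iff (lC.trans l)).2 (eC ▸ commutator_mono le_rfl (H9.le_ncl _ _))
  · rw [← h.card_img (lC.trans l), eC, c1]
  · exact h.eq_of ((sup_le lC lY).trans l) (inf_le_left.trans l)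
      (by rw [(hι.mono ((sup_le lC lY).trans l)).img_sup, eC, eY, c7, eZ])
  · have e1 := H9.relIndex_mul_card ax.le
    rw [c2, hc, eT, h.card_img l, h.card_img lN, ← H9.relIndex_mul_card (le_normalizer (H := P))] at e1
    exact (Nat.eq_of_mul_eq_mul_right Nat.card_pos e1).symm
  · obtain ⟨g, hg⟩ := h.conj α hα
    obtain ⟨n, hn, x, hx, rfl⟩ := (h.syl.mono (H9.le_ncl _ ⊤) le_top).frattini' (H9.top_le_normalizer _ (mem_top g))
    obtain ⟨β, b1, b2⟩ := h.mor _ lN x fun y hy => H9.conj_mem_of_le_normalizer le_rfl hx (mem_range_fn (lN hy))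
    refine ⟨β, b1, b1.mem_Stab le_normalizer fun y hy => (h.mem l (b2 y (le_normalizer hy)).1).1
      ((b2 y (le_normalizer hy)).2 ▸ nQ x y hy), fun y hy =>
      h.inj' (l (Aut.mem hα (lY hy))) (b2 y (le_normalizer (lY hy))).1 ?_⟩
    have := H9.comm_of_mem_centralizer (Normal.conj_mem inferInstance _ (mem_pre.1 hy).2 x : _ ∈ Y').2 hn
    rw [hg y (lY hy), (b2 y (le_normalizer (lY hy))).2, ← mul_inv_cancel_right (x * fn ι y * x⁻¹) n, ← this]; group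
  · obtain ⟨k, hk, hk'⟩ := ax.inv hp2 hn
    obtain ⟨σ, b1, b2⟩ := h.mor _ l k fun y hy => img_le_range l (nQ k y hy)
    refine ⟨σ, b1, fun v hv => h.inj' (b2 v (lV hv)).1 (l (inv_mem (lV hv))) ?_,
      fun y hy => h.inj' (b2 y (lY hy)).1 (l (lY hy)) ?_⟩
    · rw [(b2 v (lV hv)).2, hk' _ (mem_pre.1 hv).2, hι.map_inv (l (lV hv))]
    · rw [(b2 y (lY hy)).2, H9.comm_of_mem_centralizer (mem_pre.1 hy).2.2 hk, mul_inv_cancel_right]

theorem center_eq_of_good (hp2 : p ≠ 2) (hF : Sat p F) (h0 : F.core = ⊥) {Z₀ : Subgroup G} (hZ : Z₀ ≤ center G)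
    (hi : ∀ τ : Perm G, Mor F ⊤ τ → ∀ v ∈ Z₀, τ v ∈ Z₀)
    (h : ∀ P, F.IsEssential p P → P ⊓ centralizer (P : Set G) = center G ∨ ∃ V Y, AbE p F P V Y ∧ Z₀ ≤ V ∧
      Z₀ ⊔ Y = center G) (h1 : AbE p F P V Y) (h2 : Z₀ ≤ V) (h3 : Z₀ ⊔ Y = center G) (h4 : center G ≤ P) :
    Y = ⊥ := by
  set Z := center G
  have dec : ∀ {Y}, Z₀ ⊔ Y = Z → ∀ z ∈ Z, ∃ v ∈ Z₀, ∃ y ∈ Y, v * y = z := fun {Y} e z hz =>
    (H9.mem_sup_of_le_normalizer (hZ.trans (center_le_normalizer _))).1 (e.symm ▸ hz)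
  let I : Perm G → Prop := fun σ => Mor F Z σ ∧ (∀ v ∈ Z₀, σ v = v⁻¹) ∧ ∀ z ∈ Z, z⁻¹ * σ z ∈ Z₀
  have stab : ∀ σ, I σ → σ ∈ Stab Z := fun σ a => a.1.mem_Stab le_rfl fun z hz =>
    mul_inv_cancel_left z (σ z) ▸ mul_mem hz (hZ (a.2.2 z hz))
  have uniq : ∀ σ τ, I σ → I τ → ∀ z ∈ Z, σ z = τ z := fun σ τ a b z hz => by
    have m := a.1.mul b.1 fun x hx => (stab σ a x).2 hx
    have ms : τ * σ ∈ Stab Z := mul_mem (stab τ b) (stab σ a)
    have hβ := m.res_mem ms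
    have e1 : (τ * σ) z = z * ((z⁻¹ * τ z) * (z⁻¹ * σ z)⁻¹) := by
      rw [Perm.mul_apply, ← mul_inv_cancel_left z (σ z), b.1.homOn z hz _ (hZ (a.2.2 z hz)), b.2.1 _ (a.2.2 z hz)]; group
    have e2 : ∀ v ∈ Z₀, (τ * σ) v = v := fun v hv => by rw [Perm.mul_apply, a.2.1 v hv, b.2.1 _ (inv_mem hv), inv_inv]
    have hc : (orderOf (res Z (τ * σ))).Coprime p := Nat.Coprime.coprime_dvd_left (H9.orderOf_dvd_card_of_mem hβ)
      ((H9.syl_of_h2 (hF.syl (fn_of_normal F le_top (H9.top_le_normalizer Z)))).eq_bot_iff.1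
        ((eq_bot_iff_forall _).2 fun γ hγ => by
          obtain ⟨g, -, g2, rfl⟩ := mem_AutS.1 hγ
          exact (cP_eq_one_iff g2).2 (mem_centralizer_iff.2 fun x hx => (mem_center_iff.1 hx g).symm)))
    have e3 : z⁻¹ * res Z (τ * σ) z ∈ Z₀ := by
      rw [res_apply ms hz, e1, inv_mul_cancel_left]; exact mul_mem (b.2.2 z hz) (inv_mem (a.2.2 z hz))
    have := fix_of_coprime (hF.pg.to_le le_top) (Aut.homOn hβ) hc hz (hZ e3) ((res_apply ms (hZ e3)).trans (e2 _ e3))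
    rw [res_apply ms hz, e1, mul_eq_left, mul_inv_eq_one, mul_right_inj] at this
    exact this.symm
  have good : ∀ {P V Y}, AbE p F P V Y → Z₀ ≤ V → Z₀ ⊔ Y = Z → Z ≤ P → ∃ σ, I σ ∧ ∀ z ∈ Z, σ z = z ↔ z ∈ Y :=
    fun {P V Y} a b c d => by
      obtain ⟨σ, a1, a2, a3⟩ := a.inv hp2
      have e : ∀ v ∈ Z₀, ∀ y ∈ Y, σ (v * y) = v⁻¹ * y := fun v hv y hy => by
        rw [a1.homOn v (d (hZ hv)) y (a.sup ▸ mem_sup_right hy), a2 v (b hv), a3 y hy]
      refine ⟨σ, ⟨a1.mono d, fun v hv => a2 v (b hv), fun z hz => ?_⟩, fun z hz => ⟨fun e' => ?_, a3 z⟩⟩ <;>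
        obtain ⟨v, hv, y, hy, rfl⟩ := dec c z hz
      · rw [e v hv y hy, ← mem_center_iff.1 (hZ (inv_mem hv)) y, ← mem_center_iff.1 (hZ hv) y,
          show (y * v)⁻¹ * (y * v⁻¹) = v⁻¹ * v⁻¹ by group]
        exact mul_mem (inv_mem hv) (inv_mem hv)
      · rw [e v hv y hy, mul_left_inj, inv_eq_iff_mul_eq_one] at e'
        rw [mem_bot.1 (H9.mem_of_sq hp2 hF.pg (mem_top v) (e' ▸ one_mem ⊥)), one_mul]; exact hy
  obtain ⟨σ, a1, a2⟩ := good h1 h2 h3 h4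
  have lY : Y ≤ Z := le_sup_right.trans h3.le
  have invY : ∀ α : Perm G, Mor F Z α → α ∈ Stab Z → ∀ y ∈ Y, α y ∈ Y := fun α b1 b2 y hy => by
    obtain ⟨τ, t1, t2⟩ := hF.extend_centralizer b1 (by
      rw [b1.homOn.mem_Stab_iff.1 b2]; exact hF.fc_of_fn (fn_of_normal F le_top (H9.top_le_normalizer Z)))
    rw [show Z ⊔ ⊤ ⊓ centralizer (Z : Set G) = ⊤ from top_le_iff.1 (le_sup_of_le_right (le_inf le_rfl
      fun g _ => mem_centralizer_iff.2 fun x hx => (mem_center_iff.1 hx g).symm))] at t1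
    have hv : ∀ v ∈ Z₀, α v ∈ Z₀ := fun v hv => t2 v (hZ hv) ▸ hi τ t1 v hv
    have b3 := (b1.mono hZ).mem_Stab le_rfl hv
    have bi : ∀ z ∈ Z, α⁻¹ z ∈ Z := fun z hz => (inv_mem b2 z).2 hz
    have := uniq (α * σ * α⁻¹) σ ⟨mul_assoc α σ _ ▸ ((b1.inv_of_Stab b2).mul a1.1 bi).mul b1 fun z hz =>
      (stab σ a1 _).2 (bi z hz), fun v hv => by
        rw [Perm.mul_apply, Perm.mul_apply, a1.2.1 _ ((inv_mem b3 v).2 hv), b1.homOn.map_inv (bi v (hZ hv)),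
          pai], fun z hz => by
        have := hv _ (a1.2.2 _ (bi z hz))
        rwa [b1.homOn _ (inv_mem (bi z hz)) _ ((stab σ a1 _).2 (bi z hz)), b1.homOn.map_inv (bi z hz),
          pai] at this⟩ a1 _ ((b2 y).2 (lY hy))
    rw [Perm.mul_apply, Perm.mul_apply, pia, (a2 y (lY hy)).2 hy] at this
    exact (a2 _ ((b2 y).2 (lY hy))).1 this.symm
  have cen : ∀ R, R ⊓ centralizer (R : Set G) = Z → ∀ α ∈ Aut F R, ∀ x ∈ Y, α x ∈ Y := fun R e α hα => by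
    have l : Z ≤ R := e.ge.trans inf_le_left
    have m := Aut.mor le_top hα
    exact invY α (m.mono l) ((m.homOn.mono l).mem_Stab_iff.2 (by rw [← e, m.homOn.img_center, Aut.img_eq hα]))
  refine le_bot_iff.1 (h0 ▸ le_core (hF.normal_of_essential ?_))
  rintro R (rfl | hR)
  · exact ⟨le_top, cen ⊤ L.top_inf_centralizer_top⟩
  have l := (CR.of_ess hF hR).center_le
  refine ⟨lY.trans l, (h R hR).elim (cen R) fun ⟨V', Y', b1, b2, b3⟩ => ?_⟩
  obtain ⟨τ, c1, c2⟩ := good b1 b2 b3 l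
  have lY' : Y' ≤ Z := le_sup_right.trans b3.le
  rw [show Y = Y' from le_antisymm (fun y hy => (c2 y (lY hy)).1 (uniq σ τ a1 c1 y (lY hy) ▸ (a2 y (lY hy)).2 hy))
    fun y hy => (a2 y (lY' hy)).1 (uniq τ σ c1 a1 y (lY' hy) ▸ (c2 y (lY' hy)).2 hy)]
  exact b1.invY

end FG
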