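import Cfsg.Agent.H9.ES3

/-!
H9.ES4: fusion systems on `p`-groups with centre of index `p²`, and with an extraspecial subgroup of index `p`.
-/

set_option autoImplicit false
set_option linter.unusedSectionVars false

namespace FG

open Subgroup Cfsg Equiv H2
open scoped commutatorElement

universe u

variable {G : Type u} [Group G] [Finite G] {F : FusionSystem (⊤ : Subgroup G)} {p : ℕ} [hp : Fact p.Prime]
  {P R V Y : Subgroup G}

theorem center_ne_bot' [Nontrivial G] (hF : Sat p F) : center G ≠ ⊥ :=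
  L.center_ne_bot (hF.pg.of_equiv topEquiv) Finite.one_lt_card.ne'

theorem exists_two [Nontrivial G] (hF : Sat p F) (h0 : F.core = ⊥) : ∃ P R, CR p F P ∧ CR p F R ∧ P ≠ R := by
  by_contra h
  push Not at h
  obtain ⟨P, hP⟩ : ∃ P, CR p F P := by
    by_contra h'
    exact top_ne_bot (le_bot_iff.1 (h0 ▸ le_core (hF.normal_top_of fun P a b c => by_contra fun e =>
      h' ⟨P, a, b, c, fun e' => e e'.ge⟩)))
  refine center_ne_bot' hF (le_bot_iff.1 (hP.center_le.trans (h0 ▸ le_core (hF.normal_of_essential ?_))))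
  rintro R (rfl | hR)
  · exact ⟨le_top, fun α hα x hx => h _ _ (hP.map (Aut.mor le_rfl hα)) hP ▸ mem_img_of_mem hx⟩
  · obtain rfl := h _ _ hP (CR.of_ess hF hR)
    exact ⟨le_rfl, fun α hα x hx => Aut.mem hα hx⟩

theorem CR.center_lt (h : CR p F P) : center G < P := lt_of_le_of_ne h.center_le fun e =>
  h.ne (top_le_iff.1 fun g _ => h.cent (e ▸ mem_centralizer_iff.2 fun x hx => (mem_center_iff.1 hx g).symm))

/-- the data at a centric radical subgroup when the centre has index at most `p²` -/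
structure I2 (p : ℕ) (F : FusionSystem (⊤ : Subgroup G)) (P V Y : Subgroup G) : Prop where
  cr : CR p F P
  ab : AbE p F P V Y
  i1 : (center G).relIndex P = p
  i2 : P.index = p
  n : normalizer (P : Set G) = ⊤
  card : Nat.card (commutator G) = p
  le : commutator G ≤ V
  z : commutator G ⊔ Y = center G

theorem CR.i2 (hF : Sat p F) (hZ : (center G).index ≤ p ^ 2) (h : CR p F P) : ∃ V Y, I2 p F P V Y := by
  have hG : ∀ H : Subgroup G, IsPGroup p H := fun H => hF.pg.to_le le_top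
  have e := relIndex_mul_index h.center_le
  obtain ⟨a, ha⟩ := L.exists_relIndex_eq_pow (N := center G) (hG P)
  obtain ⟨b, hb⟩ := L.exists_relIndex_eq_pow (N := P) (hG ⊤)
  rw [relIndex_top_right] at hb
  rw [← e, ha, hb, ← pow_add, Nat.pow_le_pow_iff_right hp.out.one_lt] at hZ
  have a0 : a ≠ 0 := fun e => h.center_lt.not_ge (relIndex_eq_one.1 (by rw [ha, e, pow_zero]))
  have b0 : b ≠ 0 := fun e => h.ne (index_eq_one.1 (by rw [hb, e, pow_zero]))
  obtain ⟨rfl, rfl⟩ : a = 1 ∧ b = 1 := by omega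
  rw [pow_one] at ha hb
  have hn : normalizer (P : Set G) = ⊤ := top_le_iff.1
    (L.le_normalizer_of_relIndex_prime (hG ⊤) le_top (by rw [relIndex_top_right, hb]; exact hp.out))
  have hab := L.isMulCommutative_of_relIndex_prime (ha.symm ▸ hp.out) h.center_le (center_le_centralizer _)
  have hc : centralizer ((⊤ : Subgroup G) : Set G) = center G := (top_inf_eq _).symm.trans L.top_inf_centralizer_top
  obtain ⟨V, Y, hV⟩ := h.abE hF hab (by rw [hn, hc, ha])
  obtain ⟨s, -, hs⟩ := SetLike.exists_of_lt (lt_top_iff_ne_top.2 h.ne)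
  have e1 : commutator G = ⁅P, ⊤⁆ := le_antisymm (fun z hz => by
    obtain ⟨m, hm, rfl⟩ := (L.card_commutator_mul hab (b := s) (hn ▸ trivial)).2 z (by
      rwa [L.sup_zpowers_eq_of_relIndex_prime (by rw [relIndex_top_right, hb]; exact hp.out) le_top trivial hs])
    exact commutator_mem_commutator hm trivial) (commutator_mono le_top le_rfl)
  exact ⟨V, Y, h, hV, ha, hb, hn, e1 ▸ hn ▸ hV.cardc, e1 ▸ hn ▸ hV.comm,
    by rw [e1, ← hn, hV.z, hn, hc, inf_eq_right.2 h.center_le]⟩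

theorem I2.lV (h : I2 p F P V Y) : V ≤ P := le_sup_left.trans h.ab.sup.le

theorem I2.lY (h : I2 p F P V Y) : Y ≤ center G := le_sup_right.trans h.z.le

theorem I2.exists_x (h : I2 p F P V Y) : ∃ x ∈ V, x ∉ center G :=
  SetLike.not_le_iff_exists.1 fun e => h.cr.center_lt.not_ge (h.ab.sup ▸ sup_le e h.lY)

theorem I2.eq_of {V' Y' : Subgroup G} (h : I2 p F P V Y) (h' : I2 p F R V' Y') {x : G} (h1 : x ∈ P) (h2 : x ∉ center G)
    (h3 : x ∈ R) : P = R := by
  rw [← L.sup_zpowers_eq_of_relIndex_prime (h.i1.symm ▸ hp.out) h.cr.center_le h1 h2,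
    ← L.sup_zpowers_eq_of_relIndex_prime (h'.i1.symm ▸ hp.out) h'.cr.center_le h3 h2]

theorem I2.not_comm {V' Y' : Subgroup G} (h : I2 p F P V Y) (h' : I2 p F R V' Y') (hne : P ≠ R) {x y : G} (h1 : x ∈ P)
    (h2 : x ∉ center G) (h3 : y ∈ R) (h4 : y ∉ center G) : x * y ≠ y * x := fun e =>
  hne (h.eq_of h' h1 h2 (h'.cr.cent (by
    rw [← L.sup_zpowers_eq_of_relIndex_prime (h'.i1.symm ▸ hp.out) h'.cr.center_le h3 h4, H9.centralizer_sup,
      H9.centralizer_zpowers]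
    exact ⟨mem_centralizer_iff.2 fun z hz => (mem_center_iff.1 hz x).symm, mem_centralizer_singleton_iff.2 e⟩)))

theorem I2.sup_top {V' Y' : Subgroup G} (h : I2 p F P V Y) (h' : I2 p F R V' Y') (hne : P ≠ R) : P ⊔ R = ⊤ := by
  obtain ⟨y, hy, hy'⟩ := h'.exists_x
  exact (L.eq_or_eq_of_relIndex_prime (by rw [relIndex_top_right, h.i2]; exact hp.out) le_sup_left le_top).resolve_left
    fun e => hne (h'.eq_of h (h'.lV hy) hy' (e.le (mem_sup_right (h'.lV hy)))).symm

theorem I2.final {V' Y' : Subgroup G} (hF : Sat p F) (h : I2 p F P V Y) (h' : I2 p F R V' Y') (hne : P ≠ R)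
    (hY : Y = ⊥) (hY' : Y' = ⊥) : IsExtraspecial p G ∧ Nat.card G = p ^ 3 ∧ (p ≠ 2 → Monoid.exponent G = p) ∧
      (p = 2 → Nonempty (G ≃* DihedralGroup 4)) := by
  have e : commutator G = center G := by rw [← h.z, hY, sup_bot_eq]
  have eP : V = P := by rw [← h.ab.sup, hY, sup_bot_eq]
  have eR : V' = R := by rw [← h'.ab.sup, hY', sup_bot_eq]
  have hc : Nat.card G = p ^ 3 := by rw [← P.card_mul_index, h.i2, ← eP, h.ab.card, pow_succ _ 2]
  haveI := normalizer_eq_top_iff.1 h.n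
  haveI := normalizer_eq_top_iff.1 h'.n
  have c2 : ⁅⁅(⊤ : Subgroup G), ⊤⁆, (⊤ : Subgroup G)⁆ = ⊥ :=
    H9.le_centralizer_iff'.1 (e.le.trans (center_le_centralizer _))
  refine ⟨L.isExtraspecial_top_iff.1 (L.isExtraspecial_iff.2 ⟨hF.pg, ?_, ?_, ?_⟩), hc, fun hp2 => ?_, fun hp2 => ?_⟩
  · rw [L.top_inf_centralizer_top]
    refine le_antisymm (L.Phi_le_of (p := p) e.le fun x _ => by_contra fun hx => hne (h.eq_of h' ?_ hx ?_))
      (e.ge.trans (L.commutator_le_Phi hF.pg))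
    exacts [h.i2 ▸ P.pow_index_mem x, h'.i2 ▸ R.pow_index_mem x]
  · rw [L.top_inf_centralizer_top]; exact e
  · rw [L.top_inf_centralizer_top, ← e, h.card]
  · haveI : Nontrivial G := Finite.one_lt_card_iff_nontrivial.1 (hc ▸ Nat.one_lt_pow three_ne_zero hp.out.one_lt)
    refine (Monoid.exponent_eq_prime_iff hp.out).2 fun g hg => orderOf_eq_prime
      (L.omegaOne_exp_class2 (hp.out.odd_of_ne_two hp2) c2 ((h.sup_top h' hne).ge.trans (sup_le ?_ ?_) (mem_top g))) hg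
    exacts [fun x hx => L.mem_omegaOne trivial (h.ab.exp x (eP ▸ hx)),
      fun x hx => L.mem_omegaOne trivial (h'.ab.exp x (eR ▸ hx))]
  · subst hp2
    obtain ⟨x, hx, hx'⟩ := h.exists_x
    obtain ⟨y, hy, hy'⟩ := h'.exists_x
    have nc := h.not_comm h' hne (h.lV hx) hx' (h'.lV hy) hy'
    have x2 : x * x = 1 := pow_two x ▸ h.ab.exp x hx
    have y2 : y * y = 1 := pow_two y ▸ h'.ab.exp y hy
    have e1 : (x * y) ^ 2 = ⁅x, y⁆ := by
      rw [commutatorElement_def, inv_eq_of_mul_eq_one_right x2, inv_eq_of_mul_eq_one_right y2, pow_two]; group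
    refine H5.dih_equiv_of_card four_ne_zero (x * y) x (orderOf_eq_prime_pow (p := 2) (n := 1)
      (fun e => nc (commutatorElement_eq_one_iff_mul_comm.1 (e1 ▸ e))) ?_) x2 ?_ (fun e => nc ?_) (hc.trans rfl)
    · rw [show 2 ^ (1 + 1) = 2 * 2 from rfl, pow_mul, e1]
      exact h.ab.exp _ (h.le (commutator_mem_commutator trivial trivial))
    · rw [← mul_assoc, x2, one_mul, mul_inv_rev, inv_eq_of_mul_eq_one_right y2]
    · exact mul_left_cancel (a := x) ((L.commute_of_mem_zpowers e).eq.trans (mul_assoc _ _ _))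

theorem comm_inv {τ : Perm G} (h : Mor F ⊤ τ) : ∀ v ∈ commutator G, τ v ∈ commutator G := fun v hv =>
  commutator_mono le_top le_top (h.homOn.img_commutator le_rfl le_rfl ▸ mem_img_of_mem hv)

theorem index_sq_odd [Nontrivial G] (hp2 : p ≠ 2) (hF : Sat p F) (h0 : F.core = ⊥) (hZ : (center G).index ≤ p ^ 2) :
    IsExtraspecial p G ∧ Nat.card G = p ^ 3 ∧ (p ≠ 2 → Monoid.exponent G = p) ∧
      (p = 2 → Nonempty (G ≃* DihedralGroup 4)) := by
  obtain ⟨P, R, hP, hR, hne⟩ := exists_two hF h0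
  obtain ⟨V, Y, h⟩ := hP.i2 hF hZ
  obtain ⟨V', Y', h'⟩ := hR.i2 hF hZ
  have key : ∀ {P V Y}, I2 p F P V Y → Y = ⊥ := fun {P V Y} a => center_eq_of_good hp2 hF h0 (le_sup_left.trans a.z.le)
    (fun _ => comm_inv) (fun _ b => Or.inr (let ⟨V, Y, c⟩ := (CR.of_ess hF b).i2 hF hZ; ⟨V, Y, c.ab, c.le, c.z⟩))
    a.ab a.le a.z a.cr.center_le
  exact h.final hF h' hne (key h) (key h')

theorem normal_of_cop {Ω : Type*} [Group Ω] {S Q : Subgroup Ω} [Finite S] {F : FusionSystem S} (hF : Sat p F)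
    (hn : S ≤ normalizer (Q : Set Ω)) (h : ∀ P, (P = S ∨ F.IsEssential p P) → Q ≤ P ∧
      ∀ α ∈ Aut F P, (orderOf α).Coprime p → ∀ x ∈ Q, α x ∈ Q) : F.IsNormal Q :=
  have hQ := (h S (Or.inl rfl)).1
  isNormal_iff.2 ⟨hQ, hF.alperin_Op _ (cl_ext F Q ⊤).res (cl_ext F Q ⊤).mul
    (fun _ hs => ext_cg F le_rfl hQ ⟨hs, hn hs, trivial⟩) fun P hP σ hσ hc =>
      have m := Aut.mor (hF.fcr_of hP).1.1 hσ
      ext_of_mor m le_rfl (h P hP).1 (m.mem_Stab (h P hP).1 ((h P hP).2 σ hσ hc)) trivial fun _ _ => rfl⟩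

theorem index_sq_two [Nontrivial G] (hF : Sat 2 F) (h0 : F.core = ⊥) (hh : F.hyperfocalSubgroup 2 = ⊤)
    (hZ : (center G).index ≤ 2 ^ 2) : IsExtraspecial 2 G ∧ Nat.card G = 2 ^ 3 ∧ (2 ≠ 2 → Monoid.exponent G = 2) ∧
      (2 = 2 → Nonempty (G ≃* DihedralGroup 4)) := by
  obtain ⟨P, R, hP, hR, hne⟩ := exists_two hF h0
  have two : ∀ {P R U}, CR 2 F P → CR 2 F R → P ≠ R → CR 2 F U → U = P ∨ U = R := fun {P R U} hP hR hne hU => by
    obtain ⟨V, Y, h⟩ := hP.i2 hF hZ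
    obtain ⟨V', Y', h'⟩ := hR.i2 hF hZ
    obtain ⟨W, X, k⟩ := hU.i2 hF hZ
    obtain ⟨x, hx, hx'⟩ := h.exists_x
    obtain ⟨y, hy, hy'⟩ := h'.exists_x
    obtain ⟨w, hw, hw'⟩ := k.exists_x
    by_contra e
    push Not at e
    have m1 : x * y ∈ U := L.mul_mem_of_relIndex_two ((relIndex_top_right U).trans k.i2) trivial trivial
      (fun a => e.1 (h.eq_of k (h.lV hx) hx' a).symm) fun a => e.2 (h'.eq_of k (h'.lV hy) hy' a).symm
    have m2 := L.mul_mem_of_relIndex_two k.i1 m1 (k.lV hw) (fun a => hne (h'.eq_of h (h'.lV hy) hy'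
      ((mul_mem_cancel_left (h.lV hx)).1 (hP.center_le a))).symm) hw'
    obtain ⟨s, hs, t, ht, e1⟩ := (H9.mem_sup_of_le_normalizer ((le_sup_left.trans h.z.le).trans
      (center_le_normalizer _))).1 (h.z.symm ▸ m2)
    have sq : ∀ {a : G}, a ^ 2 = 1 → a⁻¹ = a := fun {a} ha => inv_eq_of_mul_eq_one_right (pow_two a ▸ ha)
    have e2 : ⁅x, y⁆ = t ^ 2 := by
      have c := mem_center_iff.1 m2 w
      have : x * y = s * t * w := by rw [e1, mul_assoc (x * y), ← pow_two, k.ab.exp w hw, mul_one]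
      rw [commutatorElement_def, sq (h.ab.exp x hx), sq (h'.ab.exp y hy), mul_assoc (x * y), ← pow_two, this,
        Commute.mul_pow (e1.symm ▸ c.symm), k.ab.exp w hw, mul_one, Commute.mul_pow (mem_center_iff.1 (h.lY ht) s),
        h.ab.exp s (h.le hs), one_mul]
    exact h.not_comm h' hne (h.lV hx) hx' (h'.lV hy) hy' (commutatorElement_eq_one_iff_mul_comm.1 (mem_bot.1
      (h.ab.disj ▸ mem_inf.2 ⟨h.le (commutator_mem_commutator trivial trivial), e2 ▸ pow_mem ht 2⟩)))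
  have st : ∀ {P R} {β : Perm G}, CR 2 F P → CR 2 F R → P ≠ R → Mor F ⊤ β → β ∈ Stab P → β ∈ Stab R :=
    fun {P R β} hP hR hne b1 b2 => (b1.homOn.mono le_top).mem_Stab_iff.2 ((two hP hR hne (hR.map b1)).resolve_left
      fun e => hne ((b1.homOn.img_inj le_top le_top).1 (((b1.homOn.mono le_top).mem_Stab_iff.1 b2).trans e.symm)))
  have st2 : ∀ α ∈ Aut F ⊤, (orderOf α).Coprime 2 → α ∈ Stab P := fun α hα hc => by
    have m := Aut.mor le_rfl hα
    have i : ∀ {U}, α ∈ Stab U ↔ img α U = U := (m.homOn.mono le_top).mem_Stab_iff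
    rcases two hP hR hne (hP.map m) with e | e
    · exact i.2 e
    rcases two hP hR hne (hR.map m) with e' | e'
    · refine L.mem_of_pow_mem (m := 2) (((m.pow (Aut.img_eq hα |> m.homOn.mem_Stab_iff.2) 2).homOn.mono
        le_top).mem_Stab_iff.2 ?_) hc
      rw [pow_two, (m.homOn.mono le_top).img_mul, e, e']
    · exact st hR hP hne.symm m (i.2 e')
  obtain ⟨V, Y, h⟩ := hP.i2 hF hZ
  obtain ⟨V', Y', h'⟩ := hR.i2 hF hZ
  have rs : ∀ {P} {β : Perm G}, Mor F ⊤ β → β ∈ Stab P → ∃ γ ∈ Aut F P, ∀ x ∈ P, β x = γ x := fun {P β} b1 b2 =>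
    ⟨_, (b1.mono le_top).res_mem b2, fun x hx => (res_apply b2 hx).symm⟩
  have rY : ∀ {P V Y} {β : Perm G}, I2 2 F P V Y → Mor F ⊤ β → β ∈ Stab P → ∀ y ∈ Y, β y ∈ Y :=
    fun {P V Y β} k b1 b2 y hy => let ⟨γ, c1, c2⟩ := rs b1 b2; c2 y (k.cr.center_le (k.lY hy)) ▸ k.ab.invY γ c1 y hy
  have aux : ∀ {P R V Y V' Y'}, I2 2 F P V Y → I2 2 F R V' Y' → P ≠ R → ∀ α ∈ Aut F P, ∀ y ∈ Y, y ∈ Y' → α y ∈ Y' :=
    fun {P R V Y V' Y'} k k' hne α hα y hy hy' => by
      obtain ⟨β, b1, b2, b3⟩ := k.ab.fac α hα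
      rw [k.n] at b1
      exact b3 y hy ▸ rY k' b1 (st k.cr k'.cr hne b1 b2) y hy'
  have hW : Y ⊓ Y' = ⊥ := le_bot_iff.1 (h0 ▸ le_core (normal_of_cop hF 
      ((le_centralizer_iff.1 ((inf_le_left.trans h.lY).trans (center_le_centralizer _))).trans
        (H9.centralizer_le_normalizer' _)) (by
    rintro U (rfl | hU)
    · refine ⟨le_top, fun α hα hc x hx => ⟨rY h (Aut.mor le_rfl hα) (st2 α hα hc) x hx.1,
        rY h' (Aut.mor le_rfl hα) (st hP hR hne (Aut.mor le_rfl hα) (st2 α hα hc)) x hx.2⟩⟩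
    refine ⟨(inf_le_left.trans h.lY).trans (CR.of_ess hF hU).center_le, fun α hα _ x hx => ?_⟩
    rcases two hP hR hne (CR.of_ess hF hU) with rfl | rfl
    exacts [⟨h.ab.invY α hα x hx.1, aux h h' hne α hα x hx.1 hx.2⟩,
      ⟨aux h' h hne.symm α hα x hx.2 hx.1, h'.ab.invY α hα x hx.2⟩])))
  have cY : ∀ {P V Y}, I2 2 F P V Y → 2 * Nat.card Y = Nat.card (center G) := fun {P V Y} k => by
    have := H9.card_sup_mul_card_inf (A := commutator G) (B := Y) ((le_sup_left.trans k.z.le).trans (center_le_normalizer _))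
    rw [le_bot_iff.1 ((inf_le_inf_right _ k.le).trans k.ab.disj.le), card_bot, mul_one, k.z, k.card] at this
    exact this.symm
  have fx : ∀ {P V Y}, I2 2 F P V Y → ∀ α ∈ Aut F P, ∀ x ∈ P, Nat.card Y ≤ 2 → x⁻¹ * α x ∈ V := fun {P V Y} k α hα x hx c => by
    obtain ⟨y, hy, v, hv, rfl⟩ := (H9.mem_sup_of_le_normalizer (k.lY.trans (center_le_normalizer _))).1
      (sup_comm V Y ▸ k.ab.sup.symm ▸ hx)
    have ly := k.cr.center_le (k.lY hy)
    have : α y = y := by
      by_cases e : y = 1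
      · rw [e, (Aut.homOn hα).map_one]
      have e' : α y ≠ 1 := fun a => e (α.injective (a.trans (Aut.homOn hα).map_one.symm))
      by_contra a
      have : (3 : ℕ) ≤ Nat.card Y := by
        rw [← Nat.card_fin 3]
        refine Nat.card_le_card_of_injective ![1, ⟨y, hy⟩, ⟨α y, k.ab.invY α hα y hy⟩] fun i j => ?_
        fin_cases i <;> fin_cases j <;> simp [e, e', a, Ne.symm e, Ne.symm e', Ne.symm a, Subtype.ext_iff]
      omega
    rw [Aut.homOn hα y ly v (k.lV hv), this, mul_inv_rev, mul_assoc, inv_mul_cancel_left]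
    exact mul_mem (inv_mem hv) (k.ab.invV α hα v hv)
  have c2 : Nat.card Y ≤ 2 ∧ Nat.card Y' ≤ 2 := by
    have e1 := H9.card_sup_mul_card_inf (A := Y) (B := Y') (h.lY.trans (center_le_normalizer _))
    have e2 := card_le_of_le (sup_le h.lY h'.lY)
    rw [hW, card_bot, mul_one] at e1
    have e3 := cY h
    have e4 := cY h'
    have : 0 < Nat.card Y := Nat.card_pos
    constructor <;> nlinarith
  have nL : ∀ {X : Subgroup G}, commutator G ≤ X → ⊤ ≤ normalizer (X : Set G) := fun e =>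
    H9.le_normalizer_of_commutator_le e le_top
  have hL : V ⊔ V' = ⊤ := top_le_iff.1 (hh ▸ hF.hyp_le_of_essential (nL (h.le.trans le_sup_left)) (by
    rintro U (rfl | hU) α hα hc x hx
    · obtain ⟨a, ha, b, hb, rfl⟩ := (H9.mem_sup_of_le_normalizer (le_top.trans h'.n.ge)).1 ((h.sup_top h' hne).ge hx)
      obtain ⟨γ, c3, c4⟩ := rs (Aut.mor le_rfl hα) (st2 α hα hc)
      obtain ⟨δ, c5, c6⟩ := rs (Aut.mor le_rfl hα) (st hP hR hne (Aut.mor le_rfl hα) (st2 α hα hc))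
      rw [Aut.homOn hα a trivial b trivial, c4 a ha, c6 b hb,
        show (a * b)⁻¹ * (γ a * δ b) = b⁻¹ * (a⁻¹ * γ a) * b * (b⁻¹ * δ b) by group]
      exact mul_mem (mem_sup_left (H9.conj_mem_of_le_normalizer' (nL h.le) trivial (fx h γ c3 a ha c2.1)))
        (mem_sup_right (fx h' δ c5 b hb c2.2))
    rcases two hP hR hne (CR.of_ess hF hU) with rfl | rfl
    exacts [mem_sup_left (fx h α hα x hx c2.1), mem_sup_right (fx h' α hα x hx c2.2)]))
  have cG : Nat.card (⊤ : Subgroup G) ≤ 8 := by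
    have e1 := H9.card_sup_mul_card_inf (A := V) (B := V') (le_top.trans (nL h'.le))
    have e2 := card_le_of_le (le_inf h.le h'.le)
    rw [hL, h.ab.card, h'.ab.card] at e1
    rw [h.card] at e2
    nlinarith
  have fin : ∀ {P V Y}, I2 2 F P V Y → Y = ⊥ := fun {P V Y} k => by
    have e1 := cY k
    have e2 := H9.relIndex_mul_card k.cr.center_le
    have e3 := P.card_mul_index
    rw [k.i1] at e2
    rw [k.i2] at e3
    rw [card_top] at cG
    exact card_eq_one.1 (le_antisymm (by omega) Nat.card_pos)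
  exact h.final hF h' hne (fin h) (fin h')

theorem index_sq {Ω : Type u} [Group Ω] {S : Subgroup Ω} [Finite S] {F : FusionSystem S} (hF : Sat p F) (h1 : S ≠ ⊥)
    (h0 : F.core = ⊥) (hh : F.hyperfocalSubgroup p = S) (hZ : (center S).index ≤ p ^ 2) :
    IsExtraspecial p S ∧ Nat.card S = p ^ 3 ∧ (p ≠ 2 → Monoid.exponent S = p) ∧
      (p = 2 → Nonempty (S ≃* DihedralGroup 4)) := by
  obtain ⟨F', a, -, b, c⟩ := exists_top hF
  haveI := (nontrivial_iff_ne_bot S).2 h1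
  by_cases hp2 : p = 2
  · subst hp2; exact index_sq_two a (b h0) (c hh) hZ
  · exact index_sq_odd hp2 a (b h0) hZ

end FG
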