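import Cfsg.Agent.H9.ES4

/-!
H9.ES5: fusion systems on `p`-groups with a unique abelian subgroup of index `p`.
-/

set_option autoImplicit false
set_option linter.unusedSectionVars false

namespace FG

open Subgroup Cfsg Equiv H2
open scoped commutatorElement

universe u

variable {G : Type u} [Group G] [Finite G] {F : FusionSystem (⊤ : Subgroup G)} {p : ℕ} [hp : Fact p.Prime]
  {A B P R V Y : Subgroup G} {x : G}

/-- `A` is the unique abelian subgroup of index `p` -/
structure UA (p : ℕ) (A : Subgroup G) : Prop where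
  pg : IsPGroup p (⊤ : Subgroup G)
  ab : IsMulCommutative A
  idx : A.index = p
  uniq : ∀ B : Subgroup G, IsMulCommutative B → B.index = p → B = A
  na : ¬ IsMulCommutative G

namespace UA
variable (h : UA p A)
include h

theorem prime : (A.relIndex ⊤).Prime := by rw [relIndex_top_right, h.idx]; exact hp.out

theorem normal : A.Normal := H9.normal_of_top_le (L.le_normalizer_of_relIndex_prime h.pg le_top h.prime)

theorem sup (hx : x ∉ A) : A ⊔ zpowers x = ⊤ := L.sup_zpowers_eq_of_relIndex_prime h.prime le_top trivial hx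

theorem cent : centralizer (A : Set G) ≤ A := fun _ hx => by_contra fun e =>
  h.na (L.isMulCommutative_top_iff.1 (h.sup e ▸ L.isMulCommutative_sup_zpowers h.ab hx))

theorem center_le : center G ≤ A := (center_le_centralizer _).trans h.cent

theorem cx (hx : x ∉ A) : A ⊓ centralizer {x} = center G := by
  refine le_antisymm (fun a ha => ?_) (le_inf h.center_le (center_le_centralizer _))
  rw [← L.top_inf_centralizer_top, ← h.sup hx, H9.centralizer_sup, H9.centralizer_zpowers]
  exact ⟨mem_sup_left ha.1, L.le_centralizer_of_comm h.ab ha.1, ha.2⟩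

theorem ri (hB : ¬ B ≤ A) : (B ⊓ A).relIndex B = p := by
  rw [inf_relIndex_left]
  exact L.relIndex_eq_of_le (h.pg.to_le le_top) hB (h.idx ▸ relIndex_top_right A ▸
    relIndex_le_of_le_right le_top (L.relIndex_pos _ _).ne')

theorem card (hB : ¬ B ≤ A) : Nat.card B = p * Nat.card (B ⊓ A : Subgroup G) := by
  rw [← H9.relIndex_mul_card (inf_le_left : B ⊓ A ≤ B), h.ri hB]

theorem inf_eq (hx : x ∉ A) (h1 : center G ≤ B) (h2 : B ≤ A) (h3 : x ∈ normalizer (B : Set G)) :
    (B ⊔ zpowers x) ⊓ A = B := by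
  rw [H9.dedekind h2 (Or.inr (zpowers_le.2 h3)), sup_eq_left]
  exact fun y hy => h1 (h.cx hx ▸ mem_inf.2 ⟨hy.2, mem_centralizer_singleton_iff.2 (L.commute_of_mem_zpowers hy.1).eq⟩)

theorem ne_p : (center G).relIndex A ≠ p := fun e => by
  obtain ⟨x, -, hx⟩ := SetLike.exists_of_lt (lt_top_iff_ne_top.2 fun e : A = ⊤ => h.na (L.isMulCommutative_top_iff.1
    (e ▸ h.ab)))
  have nx : ¬ center G ⊔ zpowers x ≤ A := fun e => hx (e (mem_sup_right (mem_zpowers x)))
  have e1 := h.card nx
  rw [h.inf_eq hx le_rfl h.center_le (H9.top_le_normalizer _ trivial), ← e, H9.relIndex_mul_card h.center_le] at e1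
  refine nx (h.uniq _ (L.isMulCommutative_sup_zpowers inferInstance
    (mem_centralizer_iff.2 fun z hz => (mem_center_iff.1 hz x).symm)) ?_).le
  have e2 := (center G ⊔ zpowers x).card_mul_index
  rw [e1, ← A.card_mul_index, h.idx] at e2
  exact Nat.eq_of_mul_eq_mul_left Nat.card_pos e2

theorem mem_K (hx : x ∉ A) {a : G} (ha : a ∈ A) : a ∈ Subgroup.upperCentralSeries G 2 ↔ ⁅a, x⁆ ∈ center G := by
  rw [Subgroup.mem_upperCentralSeries_succ_iff, Subgroup.upperCentralSeries_one]
  refine ⟨fun e => e x, fun e y => ?_⟩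
  have : ⁅A ⊔ zpowers x, zpowers a⁆ ≤ center G := H9.commutator_sup_le (le_top.trans (H9.top_le_normalizer _))
    (le_top.trans (H9.top_le_normalizer _)) ((H9.le_centralizer_iff'.1 ((L.le_centralizer_of_comm h.ab).trans
      (H9.centralizer_anti (zpowers_le.2 ha)))).le.trans bot_le) (by
      rw [zpowers_eq_closure x]
      refine L.commutator_closure_le (fun _ _ => H9.top_le_normalizer _ trivial) ?_
      rintro x rfl _ hb
      obtain ⟨n, rfl⟩ := mem_powers_iff_mem_zpowers.2 hb
      have e' : ⁅x, a⁆ ∈ center G := commutatorElement_inv a x ▸ inv_mem e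
      exact L.commutatorElement_pow_right (mem_center_iff.1 e' a) n ▸ pow_mem e' n)
  exact this (commutator_comm (zpowers a) _ ▸ commutator_mem_commutator (mem_zpowers a) (h.sup hx ▸ mem_top y))

theorem comm (hx : x ∉ A) : Nat.card (commutator G) * Nat.card (center G) = Nat.card A ∧
    ∀ z ∈ commutator G, ∃ a ∈ A, z = ⁅a, x⁆ := by
  haveI := h.normal
  have := L.card_commutator_mul h.ab (H9.top_le_normalizer A (mem_top x))
  rwa [h.sup hx, h.cx hx] at this

theorem exists_x (hP : CR p F P) (hne : P ≠ A) : ∃ x ∈ P, x ∉ A := SetLike.not_le_iff_exists.1 fun e =>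
  hne (le_antisymm e (((L.le_centralizer_of_comm h.ab).trans (H9.centralizer_anti e)).trans hP.cent))

theorem ab_case (hF : Sat p F) (hP : CR p F P) (hx : x ∈ P) (hxA : x ∉ A) (hab : IsMulCommutative P) :
    P = center G ⊔ zpowers x ∧ (center G).relIndex (Subgroup.upperCentralSeries G 2 ⊓ A) = p ∧
      P ⊓ centralizer (normalizer (P : Set G) : Set G) = center G ∧ ∃ V Y, AbE p F P V Y := by
  haveI := h.normal
  have nP : ¬ P ≤ A := fun e => hxA (e hx)
  have e0 : P ⊓ A = center G := le_antisymm (fun a ha => h.cx hxA ▸ mem_inf.2 ⟨ha.2, mem_centralizer_singleton_iff.2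
    (H9.comm_of_mem_centralizer (L.le_centralizer_of_comm hab hx) ha.1)⟩) (le_inf hP.center_le h.center_le)
  have i1 := e0 ▸ h.ri nP
  have e1 := (L.eq_or_eq_of_relIndex_prime (K := P ⊓ centralizer (normalizer (P : Set G) : Set G)) (i1.symm ▸ hp.out)
    (le_inf hP.center_le (center_le_centralizer _)) inf_le_left).resolve_right fun e =>
      (hP.lt hF).not_ge ((le_centralizer_iff.1 (e.ge.trans inf_le_right)).trans hP.cent)
  obtain ⟨V, Y, hV⟩ := hP.abE hF hab (by rw [← inf_relIndex_left, e1, i1])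
  have eP := (L.sup_zpowers_eq_of_relIndex_prime (i1.symm ▸ hp.out) hP.center_le hx fun e => hxA (h.center_le e)).symm
  refine ⟨eP, ?_, e1, V, Y, hV⟩
  have e2 : Subgroup.upperCentralSeries G 2 ⊓ A = normalizer (P : Set G) ⊓ A := by
    refine le_antisymm (inf_le_inf_right _ (H9.le_normalizer_of_commutator_le (K := ⊤) ?_ le_top)) fun a ha => ⟨?_, ha.2⟩
    · refine commutator_le.2 fun g _ a ha => hP.center_le ?_
      rw [← commutatorElement_inv, ← Subgroup.upperCentralSeries_one]
      exact inv_mem (Subgroup.mem_upperCentralSeries_succ_iff.1 ha g)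
    · exact (h.mem_K hxA ha.2).2 (e0 ▸ mem_inf.2 ⟨H9.commutator_le_right' le_rfl (commutator_mem_commutator ha.1 hx),
        commutator_le_left A ⊤ (commutator_mem_commutator ha.2 trivial)⟩)
  have c1 := H9.relIndex_mul_card (le_normalizer (H := P))
  rw [hV.idx, h.card nP, h.card (mt le_normalizer.trans nP), e0, ← e2,
    ← H9.relIndex_mul_card (le_inf (Subgroup.upperCentralSeries_one G ▸ Subgroup.upperCentralSeries_mono G one_le_two) h.center_le)] at c1
  exact (Nat.eq_of_mul_eq_mul_right Nat.card_pos (Nat.eq_of_mul_eq_mul_left hp.out.pos c1)).symm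

theorem na_case (hF : Sat p F) (hP : CR p F P) (hx : x ∈ P) (hxA : x ∉ A) (hab : ¬ IsMulCommutative P) :
    P ⊓ A = Subgroup.upperCentralSeries G 2 ⊓ A ∧ (center G).relIndex (Subgroup.upperCentralSeries G 2 ⊓ A) = p ∧
      P ⊓ centralizer (P : Set G) = center G ∧ P.relIndex (normalizer (P : Set G)) = p := by
  haveI := h.normal
  have hG : ∀ H : Subgroup G, IsPGroup p H := fun H => h.pg.to_le le_top
  have nP : ¬ P ≤ A := fun e => hxA (e hx)
  have nN : ¬ normalizer (P : Set G) ≤ A := mt le_normalizer.trans nP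
  have gen : ∀ {B y}, y ∈ B → y ∉ A → B ⊓ A ⊔ zpowers y = B := fun {B y} a b =>
    L.sup_zpowers_eq_of_relIndex_prime ((h.ri fun e => b (e a)).symm ▸ hp.out) inf_le_left a fun e => b e.2
  have ab0 : IsMulCommutative (P ⊓ A : Subgroup G) := L.comm_of_le_centralizer
    ((inf_le_right.trans (L.le_centralizer_of_comm h.ab)).trans (H9.centralizer_anti inf_le_right))
  have lZ : center G ≤ P ⊓ A := le_inf hP.center_le h.center_le
  have eZ : P ⊓ centralizer (P : Set G) = center G := le_antisymm (fun y hy => h.cx hxA ▸ mem_inf.2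
    ⟨by_contra fun e => hab (gen hy.1 e ▸ L.isMulCommutative_sup_zpowers ab0 (H9.centralizer_anti inf_le_left hy.2)),
      mem_centralizer_singleton_iff.2 (H9.comm_of_mem_centralizer hy.2 hx).symm⟩)
    (le_inf hP.center_le (center_le_centralizer _))
  obtain ⟨a, ha, haP⟩ : ∃ a ∈ normalizer (P : Set G) ⊓ A, a ∉ P := SetLike.not_le_iff_exists.1 fun e =>
    (hP.lt hF).not_ge (gen (le_normalizer hx) hxA ▸ sup_le e (zpowers_le.2 hx))
  have i1 : (center G).relIndex (P ⊓ A) = p := by
    refine L.relIndex_eq_of_le (hG _) (fun e => hab (gen hx hxA ▸ L.isMulCommutative_sup_zpowers ab0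
      (mem_centralizer_iff.2 fun z hz => (mem_center_iff.1 (e hz) x).symm))) (not_lt.1 fun lt => haP (hP.two hF
        (X := A) (fun α hα y hy hyA => by_contra fun e => ?_) ha.1 (fun y hy => ?_) fun y _ hy => ?_))
    · have m := Aut.homOn hα
      have m0 := m.mono (inf_le_left : P ⊓ A ≤ P)
      have c1 := h.card (B := img α (P ⊓ A)) fun e' => e (e' (mem_img_of_mem ⟨hy, hyA⟩))
      have c2 := card_le_of_le (show img α (P ⊓ A) ⊓ A ≤ center G from fun b hb => h.cx e ▸ mem_inf.2 ⟨hb.2, by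
        obtain ⟨c, hc, rfl⟩ := m0.mem_img.1 hb.1
        rw [mem_centralizer_singleton_iff, ← m c hc.1 y hy, ← m y hy c hc.1,
          H9.comm_of_mem_centralizer (L.le_centralizer_of_comm h.ab hyA) hc.2]⟩)
      rw [m0.card_img', ← H9.relIndex_mul_card lZ] at c1
      have : 0 < Nat.card (center G) := Nat.card_pos
      nlinarith
    · rw [show y⁻¹ * (a * y * a⁻¹) = y⁻¹ * a * y⁻¹⁻¹ * a⁻¹ by group]
      exact mul_mem (Normal.conj_mem inferInstance _ ha.2 _) (inv_mem ha.2)
    · rw [← H9.comm_of_mem_centralizer (L.le_centralizer_of_comm h.ab ha.2) hy, mul_inv_cancel_right]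
  have z2 : ∀ b ∈ Subgroup.upperCentralSeries G 2, ∀ g, ⁅b, g⁆ ∈ center G := fun b hb g =>
    Subgroup.upperCentralSeries_one G ▸ Subgroup.mem_upperCentralSeries_succ_iff.1 hb g
  have e1 : P ⊓ A = Subgroup.upperCentralSeries G 2 ⊓ A := le_antisymm (fun b hb => ⟨(h.mem_K hxA hb.2).2
    (L.commutator_le_of_relIndex_prime (hG P) lZ inf_le_left (le_top.trans (H9.top_le_normalizer _))
      (H9.normalizer_inf le_normalizer (le_top.trans (H9.top_le_normalizer _))) (i1.symm ▸ hp.out)
      (commutator_mem_commutator hb hx)), hb.2⟩) fun b hb => ⟨hP.two hF (X := center G) (fun α hα y _ hy => by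
        rw [← eZ, ← Aut.img_eq hα, ← (Aut.homOn hα).img_center, eZ]; exact mem_img_of_mem hy)
      (H9.le_normalizer_of_commutator_le (K := ⊤) (commutator_le.2 fun g _ a ha => hP.center_le
        (commutatorElement_inv a g ▸ inv_mem (z2 a ha g))) le_top hb.1) (fun y _ => by
          rw [show y⁻¹ * (b * y * b⁻¹) = ⁅b, y⁻¹⁆⁻¹ by simp only [commutatorElement_def]; group]
          exact inv_mem (z2 b hb.1 _))
      (fun y _ hy => by rw [mem_center_iff.1 hy b, mul_inv_cancel_right]), hb.2⟩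
  refine ⟨e1, e1 ▸ i1, eZ, L.relIndex_eq_of_le (hG _) (hP.lt hF).not_ge ?_⟩
  set f := QuotientGroup.mk' (center G)
  have c1 := L.relIndex_centralizer_le (L := (normalizer (P : Set G) ⊓ A).map f) (N := (P ⊓ A).map f) (x := f x) (by
    rintro _ ⟨g, hg, rfl⟩
    exact map_commutatorElement f x g ▸ mem_map_of_mem f ⟨H9.commutator_le_left' le_rfl
      (commutator_mem_commutator hx hg.1), commutator_le_right ⊤ A (commutator_mem_commutator trivial hg.2)⟩)
  have c2 := H9.card_eq_card_map_mul f (P ⊓ A)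
  rw [QuotientGroup.ker_mk', inf_eq_left.2 lZ, ← H9.relIndex_mul_card lZ, i1] at c2
  rw [← Nat.eq_of_mul_eq_mul_right Nat.card_pos c2, ← relIndex_comap, ← inf_relIndex_right] at c1
  have c3 := (relIndex_le_of_le_left (K := P ⊓ A) (H := (centralizer {f x}).comap f ⊓ (normalizer (P : Set G) ⊓ A))
    (fun g hg => e1 ▸ mem_inf.2 ⟨(h.mem_K hxA hg.2.2).2
    ((QuotientGroup.eq_one_iff _).1 ((map_commutatorElement f g x).trans (commutatorElement_eq_one_iff_mul_comm.2
      (mem_centralizer_singleton_iff.1 hg.1)))), hg.2.2⟩) (L.relIndex_pos _ _).ne').trans c1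
  have c4 := H9.relIndex_mul_card (le_normalizer (H := P))
  rw [h.card nP, h.card nN, ← H9.relIndex_mul_card (inf_le_inf_right A (le_normalizer (H := P))), mul_left_comm] at c4
  exact Nat.eq_of_mul_eq_mul_right Nat.card_pos (Nat.eq_of_mul_eq_mul_left hp.out.pos c4) ▸ c3

theorem z2_le (hi : (center G).relIndex (Subgroup.upperCentralSeries G 2 ⊓ A) = p) : Subgroup.upperCentralSeries G 2 ≤ A :=
  fun y hy => by_contra fun e => h.ne_p (by
    rwa [inf_eq_right.2 fun a ha => (h.mem_K e ha).2 (commutatorElement_inv y a ▸ inv_mem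
      (Subgroup.upperCentralSeries_one G ▸ Subgroup.mem_upperCentralSeries_succ_iff.1 hy a))] at hi)

theorem ess (hF : Sat p F) (hP : CR p F P) : (P = A ∨ (∃ x, x ∉ A ∧ P = center G ⊔ zpowers x) ∨
    (Subgroup.upperCentralSeries G 2 ≤ A ∧ ∃ x, x ∉ A ∧ P = Subgroup.upperCentralSeries G 2 ⊔ zpowers x)) ∧
    P.relIndex (normalizer (P : Set G)) = p := by
  by_cases hne : P = A
  · exact ⟨Or.inl hne, by rw [hne, normalizer_eq_top_iff.2 h.normal, relIndex_top_right, h.idx]⟩
  obtain ⟨x, hx, hxA⟩ := h.exists_x hP hne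
  by_cases hab : IsMulCommutative P
  · obtain ⟨a, -, -, V, Y, b⟩ := h.ab_case hF hP hx hxA hab
    exact ⟨Or.inr (Or.inl ⟨x, hxA, a⟩), b.idx⟩
  obtain ⟨a, b, -, c⟩ := h.na_case hF hP hx hxA hab
  refine ⟨Or.inr (Or.inr ⟨h.z2_le b, x, hxA, ?_⟩), c⟩
  rw [← inf_eq_left.2 (h.z2_le b), ← a]
  exact (L.sup_zpowers_eq_of_relIndex_prime ((h.ri fun e => hxA (e hx)).symm ▸ hp.out) inf_le_left hx
    fun e => hxA e.2).symm

theorem str (hF : Sat p F) (hP : CR p F P) (hne : P ≠ A) : Subgroup.upperCentralSeries G 2 ≤ A ∧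
    Nat.card (center G ⊓ commutator G : Subgroup G) = p ∧ (center G ⊔ commutator G).relIndex A = p ∧
    (center G).relIndex (Subgroup.upperCentralSeries G 2) = p ∧
    ∀ m : ℕ, (center G).index = p ^ m → 3 ≤ m → ¬ (⊤ : Subgroup G).lowerCentralSeries (m - 2) ≤ center G := by
  haveI := h.normal
  obtain ⟨x, hx, hxA⟩ := h.exists_x hP hne
  have hi : (center G).relIndex (Subgroup.upperCentralSeries G 2 ⊓ A) = p := (em (IsMulCommutative P)).elim
    (fun e => (h.ab_case hF hP hx hxA e).2.1) fun e => (h.na_case hF hP hx hxA e).2.1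
  have l := h.z2_le hi
  rw [inf_eq_left.2 l] at hi
  set K := Subgroup.upperCentralSeries G 2
  have lZ : center G ≤ K := Subgroup.upperCentralSeries_one G ▸ Subgroup.upperCentralSeries_mono G one_le_two
  obtain ⟨c1, c2⟩ := h.comm hxA
  obtain ⟨d1, d2⟩ := L.card_commutator_mul (M := K) (L.comm_of_le_centralizer ((l.trans (L.le_centralizer_of_comm
    h.ab)).trans (H9.centralizer_anti l))) (H9.top_le_normalizer K (mem_top x))
  rw [show ⁅K ⊔ zpowers x, K ⊔ zpowers x⁆ = center G ⊓ commutator G from le_antisymm (le_inf (fun z hz => by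
      obtain ⟨a, ha, rfl⟩ := d2 z hz
      exact (h.mem_K hxA (l ha)).1 ha) (commutator_mono le_top le_top)) fun z hz => by
      obtain ⟨a, ha, rfl⟩ := c2 z hz.2
      exact commutator_mem_commutator (mem_sup_left ((h.mem_K hxA ha).2 hz.1)) (mem_sup_right (mem_zpowers x)),
    show K ⊓ centralizer {x} = center G from le_antisymm (h.cx hxA ▸ inf_le_inf_right _ l)
      (le_inf lZ (center_le_centralizer _)), ← H9.relIndex_mul_card lZ, hi] at d1
  have e1 := Nat.eq_of_mul_eq_mul_right Nat.card_pos d1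
  refine ⟨l, e1, ?_, hi, fun m hm h3 e => ?_⟩
  · have e2 := H9.card_sup_mul_card_inf (A := center G) (B := commutator G) (center_le_normalizer _)
    rw [e1, mul_comm (Nat.card (center G)), c1, ← H9.relIndex_mul_card (sup_le h.center_le (fun z hz => by
      obtain ⟨a, ha, rfl⟩ := c2 z hz
      exact commutator_le_left A ⊤ (commutator_mem_commutator ha trivial)) : center G ⊔ commutator G ≤ A), mul_comm] at e2
    exact (Nat.eq_of_mul_eq_mul_right Nat.card_pos e2).symm
  · obtain ⟨n, rfl⟩ : ∃ n, m = n + 2 := ⟨m - 2, by omega⟩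
    set f := QuotientGroup.mk' (center G)
    refine (L.nilpotencyClass_eq_iff hm).1 (L.max_class_of_centralizer n hm (f x) ?_) (by
      rw [← map_top_of_surjective f (QuotientGroup.mk'_surjective _), ← map_lowerCentralSeries,
        Subgroup.map_eq_bot_iff, QuotientGroup.ker_mk']; exact e)
    set D := (centralizer {f x}).comap f
    have e2 := H9.card_eq_card_map_mul f D
    have e3 : D ⊓ A = K := le_antisymm (fun g hg => (h.mem_K hxA hg.2).2 ((QuotientGroup.eq_one_iff _).1
      ((map_commutatorElement f g x).trans (commutatorElement_eq_one_iff_mul_comm.2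
        (mem_centralizer_singleton_iff.1 hg.1))))) fun g hg => ⟨mem_centralizer_singleton_iff.2
      (commutatorElement_eq_one_iff_mul_comm.1 ((map_commutatorElement f g x).symm.trans
        ((QuotientGroup.eq_one_iff _).2 ((h.mem_K hxA (l hg)).1 hg)))), l hg⟩
    rw [map_comap_eq_self_of_surjective (QuotientGroup.mk'_surjective _), QuotientGroup.ker_mk',
      inf_eq_left.2 (lZ.trans (e3.ge.trans inf_le_left)), h.card (B := D) fun e => hxA (e
        (mem_centralizer_singleton_iff.2 rfl)), e3, ← H9.relIndex_mul_card lZ, hi, ← mul_assoc, ← pow_two] at e2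
    exact (Nat.eq_of_mul_eq_mul_right Nat.card_pos e2).ge

theorem pearl (hp2 : p ≠ 2) (hF : Sat p F) (h0 : F.core = ⊥) (hA : ¬ F.IsEssential p A) :
    (∃ x, x ∉ A ∧ F.IsEssential p (center G ⊔ zpowers x)) ∧ center G ≤ commutator G ∧
      ∀ n : ℕ, Nat.card G = p ^ n → 3 ≤ n → (⊤ : Subgroup G).lowerCentralSeries (n - 2) ≠ ⊥ := by
  haveI : Nontrivial G := not_subsingleton_iff_nontrivial.1 fun _ => h.na ⟨⟨fun _ _ => Subsingleton.elim _ _⟩⟩
  have cen : ∀ R, R ⊓ centralizer (R : Set G) = center G → ∀ α ∈ Aut F R, ∀ x ∈ center G, α x ∈ center G :=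
    fun R e α hα y hy => by rw [← e, ← Aut.img_eq hα, ← (Aut.homOn hα).img_center, e]; exact mem_img_of_mem hy
  have ex : ∀ P, F.IsEssential p P → ∃ x ∈ P, x ∉ A := fun P hP => h.exists_x (CR.of_ess hF hP) fun e => hA (e ▸ hP)
  have good : ∀ P, F.IsEssential p P → IsMulCommutative P → ∃ V Y, AbE p F P V Y ∧ center G ⊓ commutator G ≤ V ∧
      center G ⊓ commutator G ⊔ Y = center G := fun P hP hab => by
    obtain ⟨x, hx, hxA⟩ := ex P hP
    obtain ⟨-, -, a, V, Y, b⟩ := h.ab_case hF (CR.of_ess hF hP) hx hxA hab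
    have e : ⁅P, normalizer (P : Set G)⁆ = center G ⊓ commutator G := eq_of_le_of_card_ge (le_inf
      (a ▸ le_sup_left.trans b.z.le) (commutator_mono le_top le_top))
      (by rw [b.cardc, (h.str hF (CR.of_ess hF hP) fun e => hA (e ▸ hP)).2.1])
    exact ⟨V, Y, b, e ▸ b.comm, e ▸ a ▸ b.z⟩
  have bad : ∀ P, F.IsEssential p P → ¬ IsMulCommutative P → P ⊓ centralizer (P : Set G) = center G := fun P hP hab =>
    let ⟨_, hx, hxA⟩ := ex P hP; (h.na_case hF (CR.of_ess hF hP) hx hxA hab).2.2.1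
  obtain ⟨P, hP, hab⟩ : ∃ P, F.IsEssential p P ∧ IsMulCommutative P := by
    by_contra e
    refine center_ne_bot' hF (le_bot_iff.1 (h0 ▸ le_core (hF.normal_of_essential ?_)))
    rintro R (rfl | hR)
    exacts [⟨le_top, cen ⊤ L.top_inf_centralizer_top⟩,
      ⟨(CR.of_ess hF hR).center_le, cen R (bad R hR fun e' => e ⟨R, hR, e'⟩)⟩]
  obtain ⟨x, hx, hxA⟩ := ex P hP
  obtain ⟨V, Y, b1, b2, b3⟩ := good P hP hab
  rw [center_eq_of_good hp2 hF h0 inf_le_left (fun τ hτ v hv => ⟨by
      rw [← L.top_inf_centralizer_top, ← hτ.homOn.img_eq_of_le fun _ _ => trivial, ← hτ.homOn.img_center,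
        L.top_inf_centralizer_top]; exact mem_img_of_mem hv.1, comm_inv hτ v hv.2⟩)
    (fun R hR => (em (IsMulCommutative R)).symm.imp (bad R hR) (good R hR)) b1 b2 b3 (CR.of_ess hF hP).center_le,
    sup_bot_eq] at b3
  refine ⟨⟨x, hxA, (h.ab_case hF (CR.of_ess hF hP) hx hxA hab).1 ▸ hP⟩, b3.ge.trans inf_le_right, fun m hm h3 => ?_⟩
  obtain ⟨n, rfl⟩ : ∃ n, m = n + 2 := ⟨m - 2, by omega⟩
  refine (L.nilpotencyClass_eq_iff hm).1 (L.max_class_of_centralizer n hm x ?_)
  rw [h.card fun e => hxA (e (mem_centralizer_singleton_iff.2 rfl)), inf_comm, h.cx hxA, ← b3,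
    (h.str hF (CR.of_ess hF hP) fun e => hA (e ▸ hP)).2.1, pow_two]

end UA

theorem ua_of {Ω : Type u} [Group Ω] {S : Subgroup Ω} [Finite S] (hS : IsPGroup p S) (hna : ¬ IsMulCommutative S)
    {A : Subgroup S} (h1 : IsMulCommutative (A.map S.subtype)) (h2 : ((A.map S.subtype).subgroupOf S).index = p)
    (h3 : ∀ B : Subgroup Ω, B ≤ S → IsMulCommutative B → (B.subgroupOf S).index = p → B = A.map S.subtype) :
    UA p A :=
  ⟨hS.to_subgroup ⊤, H9.subgroupOf_map_subtype' S A ▸ inferInstance, H9.subgroupOf_map_subtype' S A ▸ h2,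
    fun B a b => map_injective S.subtype_injective (h3 _ (map_subtype_le B) inferInstance
      ((H9.subgroupOf_map_subtype' S B).symm ▸ b)), hna⟩

end FG
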