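import Cfsg.Agent.H9.ES5

/-!
H9.ES6: essential subgroups of groups with a commutator subgroup of prime order.
-/

set_option autoImplicit false
set_option linter.unusedSectionVars false

namespace H9

open Subgroup Cfsg
open scoped commutatorElement

variable {G : Type*} [Group G] [Finite G] {p : ℕ} [hp : Fact p.Prime]

theorem cent_of_card_le {A K : Subgroup G} (hL : IsPGroup p K) (h1 : A ≤ K) (h2 : K ≤ normalizer (A : Set G))
    (h : Nat.card A ≤ p) : K ≤ centralizer (A : Set G) := by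
  obtain ⟨n, hn⟩ := L.exists_card_eq_pow (hL.to_le h1)
  have h3 : n ≤ 1 := (Nat.pow_le_pow_iff_right hp.out.one_lt).1 (by rwa [← hn, pow_one])
  have := L.relIndex_centralizer_le_pow hL n h1 h2 hn
  rw [Nat.choose_eq_zero_of_lt (by omega), pow_zero] at this
  exact relIndex_eq_one.1 (le_antisymm this (Nat.pos_of_ne_zero index_ne_zero_of_finite))

theorem dual_idx {Q U T : Subgroup G} [Q.Normal] (hT : Syl p T ⊤) (hc : centralizer (Q : Set G) ≤ Q) (h1 : Q ≤ U)
    (h2 : U ≤ T) (hW : Nat.card (⁅Q, U⁆ : Subgroup G) ≤ p) (hG : H2.Gam ⊤ Q T ≠ ⊤) : Q.relIndex U ≤ p := by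
  by_contra hlt
  obtain ⟨g, -, hg⟩ := SetLike.exists_of_lt (lt_top_iff_ne_top.2 hG)
  have nQ : ∀ X : Subgroup G, X ≤ normalizer (Q : Set G) := fun X => le_top.trans (top_le_normalizer Q)
  have hU := hT.isP.to_le h2
  have hQ := hU.to_le h1
  have lW : ∀ X : Subgroup G, ⁅Q, X⁆ ≤ Q := fun X => commutator_le_left' (nQ X)
  have cW := cent_of_card_le hU ((lW U).trans h1) (le_normalizer_commutator_right Q U) hW
  have eW : ⁅Q, cj g U⁆ = cj g ⁅Q, U⁆ := H1.cj_comm_left (nQ _ (mem_top g))
  have cW' : cj g U ≤ centralizer ((⁅Q, cj g U⁆ : Subgroup G) : Set G) := by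
    rw [eW, ← cj_centralizer]; exact cj_mono g cW
  obtain ⟨t, h3, h4, h5⟩ : ∃ t ∈ U, t ∉ Q ∧ t ∈ centralizer ((⁅Q, cj g U⁆ : Subgroup G) : Set G) := by
    by_cases e : ⁅Q, cj g U⁆ = ⊥
    · obtain ⟨t, a, b⟩ := SetLike.not_le_iff_exists.1 fun e : U ≤ Q =>
        hlt (by rw [relIndex_eq_one.2 e]; exact hp.out.one_le)
      exact ⟨t, a, b, by rw [e]; simp [mem_centralizer_iff]⟩
    obtain ⟨w, a, b⟩ := (bot_or_exists_ne_one _).resolve_left e
    have c : zpowers w = ⁅Q, cj g U⁆ := by
      refine eq_of_le_of_card_ge (zpowers_le.2 a) ((eW ▸ card_cj g _ ▸ hW).trans ?_)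
      obtain ⟨n, hn⟩ := L.exists_card_eq_pow (hQ.to_le (zpowers_le.2 (lW _ a)))
      rw [hn]
      refine Nat.le_self_pow (fun e => b ?_) p
      rw [e, pow_zero] at hn
      exact zpowers_eq_bot.1 (card_eq_one.1 hn)
    have d := (L.relIndex_centralizer_le (L := U) (N := ⁅Q, U⁆) fun u hu =>
      commutator_mem_commutator (lW _ a) hu).trans hW
    by_contra! hn
    refine hlt ((relIndex_le_of_le_left (H := centralizer {w} ⊓ U) (fun t ht => ?_) index_ne_zero_of_finite).trans
      (by rwa [inf_relIndex_right]))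
    by_contra e
    refine hn t ht.2 e ?_
    rw [← c, centralizer_zpowers]
    exact ht.1
  have hK : IsPGroup p (zpowers t ⊔ cj g U : Subgroup G) := by
    refine Tr.isP (D := Q) ((((Tr.start (nQ _)).step (X := ⁅Q, U⁆ ⊔ ⁅Q, cj g U⁆) hQ (nQ _) ?_).step
      (X := ⁅Q, cj g U⁆) hQ (nQ _) ?_).step hQ (nQ _) ?_) (hQ.to_le hc)
    · exact H1.comm_sup_le_of_le (sup_le (lW _) (lW _))
        ((commutator_mono le_rfl (zpowers_le.2 h3)).trans le_sup_left) le_sup_right
    · refine H1.comm_sup_le_of_le le_sup_right (le_trans (le_of_eq ?_) bot_le)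
        (commutator_mono (sup_le (lW _) (lW _)) le_rfl)
      rw [commutator_comm, commutator_eq_bot_iff_le_centralizer, le_centralizer_iff]
      exact sup_le (le_centralizer_iff.1 (zpowers_le.2 (cW h3))) (le_centralizer_iff.1 (zpowers_le.2 h5))
    · rw [commutator_comm, le_bot_iff, commutator_eq_bot_iff_le_centralizer]
      exact sup_le (zpowers_le.2 h5) cW'
  obtain ⟨k, -, hk⟩ := hT.exists_cj_le hK le_top
  have a := H2.mem_Gam_of hT.h2 (h1.trans h2) (nQ _) (mem_top k) (zpowers_le.2 (h2 h3))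
    ((cj_mono k le_sup_left).trans hk) fun e => h4 (zpowers_le.1 e)
  have b := H2.mem_Gam_of hT.h2 (h1.trans h2) (nQ _) (mem_top (k * g)) h2
    ((cj_mul k g U).le.trans ((cj_mono k le_sup_right).trans hk)) fun e => h4 (e h3)
  exact hg ((mul_mem_cancel_left a).1 b)

end H9

namespace FG

open Subgroup Cfsg Equiv H2
open scoped commutatorElement

universe u

variable {G : Type u} [Group G] [Finite G] {F : FusionSystem (⊤ : Subgroup G)} {p : ℕ} [hp : Fact p.Prime]
  {P U V Y : Subgroup G}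

theorem comm_inv' {α : Perm G} (hα : α ∈ Aut F P) : ∀ x ∈ ⁅P, P⁆, α x ∈ ⁅P, P⁆ := fun x hx => by
  have := mem_img_of_mem (f := α) hx
  rw [(Aut.homOn hα).img_commutator le_rfl le_rfl] at this
  have l : img α P ≤ P := img_le_iff.2 fun _ h => Aut.mem hα h
  exact commutator_mono l l this

theorem ess_idx (hF : Sat p F) (hP : F.IsEssential p P) (hab : IsMulCommutative P) (h1 : P ≤ U)
    (h2 : U ≤ normalizer (P : Set G)) (hW : Nat.card (⁅P, U⁆ : Subgroup G) ≤ p) : P.relIndex U ≤ p := by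
  have c := CR.of_ess hF hP
  obtain ⟨M, _, _, ι, h⟩ := loc_model hF c.f c.c c.r
  have lU : U ≤ ⊤ ⊓ normalizer (P : Set G) := le_inf le_top h2
  have l := h1.trans lU
  haveI : (H9.Op p (⊤ : Subgroup M)).Normal := H9.normal_of_top_le (H9.le_normalizer_Op p ⊤)
  have l' : H9.Op p ⊤ ≤ img (fn ι) U := h.core ▸ img_mono _ h1
  have := H9.dual_idx h.syl h.cons l' (img_le_range lU) (by
    rwa [h.core, ← (homOn_fn ι).img_commutator l lU, h.card_img ((H9.commutator_le_left' h2).trans l)]) (h.gam hF hP)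
  have e := H9.relIndex_mul_card l'
  rw [h.card_img lU, ← H9.relIndex_mul_card h1, h.core, h.card_img l, ← h.core] at e
  rwa [← Nat.eq_of_mul_eq_mul_right Nat.card_pos e]

theorem ess_small (hF : Sat p F) (hP : F.IsEssential p P) (h1 : P ≤ U) (hne : P ≠ U)
    (hW : Nat.card (⁅U, U⁆ : Subgroup G) ≤ p) :
    Nat.card U ≤ p ^ 2 * Nat.card (U ⊓ centralizer (U : Set G) : Subgroup G) := by
  have c := CR.of_ess hF hP
  have hU : IsPGroup p U := hF.pg.to_le le_top
  have cW := H9.cent_of_card_le hU (H9.commutator_le_left' le_normalizer) (H9.le_normalizer_commutator_right U U) hW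
  have lW : ⁅U, U⁆ ≤ P := (le_centralizer_iff.1 (h1.trans cW)).trans c.cent
  have n : U ≤ normalizer (P : Set G) := H9.le_normalizer_of_commutator_le ((commutator_mono h1 le_rfl).trans lW) le_rfl
  have hab : IsMulCommutative P := by
    by_contra hab
    have e : ⁅P, P⁆ = ⁅U, U⁆ := by
      refine eq_of_le_of_card_ge (commutator_mono h1 h1) (hW.trans ?_)
      obtain ⟨k, hk⟩ := L.exists_card_eq_pow (hU.to_le ((H9.commutator_le_left' (le_normalizer (H := P))).trans h1))
      rw [hk]
      refine Nat.le_self_pow (fun e => hab ?_) p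
      rw [e, pow_zero, card_eq_one, commutator_eq_bot_iff_le_centralizer] at hk
      exact le_centralizer_iff_isMulCommutative.1 hk
    refine hne (le_antisymm h1 fun a ha => c.two hF (X := ⁅P, P⁆) (fun α hα x _ => comm_inv' hα x) (n ha)
      (fun x hx => ?_) fun x _ hx => ?_)
    · rw [e]
      simpa [commutatorElement_def, mul_assoc] using commutator_mem_commutator (inv_mem (h1 hx)) ha
    · rw [← mem_centralizer_iff.1 (cW ha) x (e ▸ hx), mul_inv_cancel_right]
  have hi := L.relIndex_eq_of_le hU (fun e => hne (le_antisymm h1 e))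
    (ess_idx hF hP hab h1 n ((card_le_of_le (commutator_mono h1 le_rfl)).trans hW))
  obtain ⟨b, hb, hb'⟩ := SetLike.exists_of_lt (lt_of_le_of_ne h1 hne)
  have e := L.sup_zpowers_eq_of_relIndex_prime (hi.symm ▸ hp.out) h1 hb hb'
  have e1 := (L.card_commutator_mul hab (n hb)).1
  rw [e] at e1
  have l : P ⊓ centralizer {b} ≤ U ⊓ centralizer (U : Set G) := inf_le_inf h1 le_rfl |>.trans' (le_inf inf_le_left (by
    rw [← e, le_centralizer_iff]
    exact sup_le (le_centralizer_iff.1 (inf_le_left.trans (L.le_centralizer_of_comm hab)))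
      (le_centralizer_iff.1 (inf_le_right.trans (H9.centralizer_zpowers b).ge))))
  rw [← H9.relIndex_mul_card h1, hi, ← e1, pow_two, mul_assoc]
  exact Nat.mul_le_mul_left _ (Nat.mul_le_mul hW (card_le_of_le l))

theorem xs_down {Ω : Type*} [Group Ω] {S : Subgroup Ω} {Q : Subgroup S} (h : IsExtraspecial p (Q.map S.subtype)) :
    ⁅Q, Q⁆ = Q ⊓ centralizer (Q : Set S) ∧ Nat.card (Q ⊓ centralizer (Q : Set S) : Subgroup S) = p := by
  obtain ⟨-, -, a, b⟩ := L.isExtraspecial_iff.1 h
  rw [← H9.map_inf_centralizer_inj S.subtype_injective] at a b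
  exact ⟨map_injective S.subtype_injective (by rw [map_commutator, a]), (H9.card_map_subtype _).symm.trans b⟩

theorem xs_ess (hF : Sat p F)
    (hQ : ⁅U, U⁆ = U ⊓ centralizer (U : Set G) ∧ Nat.card (U ⊓ centralizer (U : Set G) : Subgroup G) = p) (hP : F.IsEssential p P) (h1 : P ≤ U) (hne : P ≠ U) :
    Nat.card U ≤ p ^ 3 := by
  obtain ⟨a, b⟩ := hQ
  simpa only [b, ← pow_succ] using ess_small hF hP h1 hne (a ▸ b.le)

theorem xs_center (hp2 : p ≠ 2) (hF : Sat p F) (h0 : F.core = ⊥)
    (hQ : ⁅U, U⁆ = U ⊓ centralizer (U : Set G) ∧ Nat.card (U ⊓ centralizer (U : Set G) : Subgroup G) = p)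
    (hi : U.index = p) :
    center G = U ⊓ centralizer (U : Set G) := by
  obtain ⟨a, b⟩ := hQ
  have hG := hF.pg
  have hU : IsPGroup p U := hG.to_le le_top
  have n : ⊤ ≤ normalizer (U : Set G) := L.le_normalizer_of_relIndex_prime hG le_top
    (by rw [relIndex_top_right, hi]; exact hp.out)
  refine le_antisymm (le_inf ?_ (center_le_centralizer _)) fun x hx => mem_center_iff.2 fun g =>
    (mem_centralizer_iff.1 (H9.cent_of_card_le hG le_top (a ▸ H9.normalizer_commutator n n) b.le (mem_top g)) x hx).symm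
  by_contra hZ
  obtain ⟨z, hz, hz'⟩ := SetLike.not_le_iff_exists.1 hZ
  have e := L.sup_zpowers_eq_of_relIndex_prime (by rw [relIndex_top_right, hi]; exact hp.out) le_top (mem_top z) hz'
  have e1 := H9.commutator_sup_central (N := U) ((zpowers_le.2 hz).trans (center_le_centralizer _))
  rw [e, a] at e1
  haveI : Nontrivial G := by
    by_contra hn
    exact hz' (by rw [not_nontrivial_iff_subsingleton] at hn; rw [Subsingleton.elim z 1]; exact one_mem _)
  obtain ⟨P, hP⟩ : ∃ P, F.IsEssential p P := by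
    by_contra! h
    exact top_ne_bot (le_bot_iff.1 (h0 ▸ le_core (hF.normal_top_of_essential h)))
  have c := ess_small hF hP le_top (hF.essential_ne hP) (e1 ▸ b.le)
  rw [top_inf_eq, coe_top, centralizer_univ, card_top, ← (center G).index_mul_card] at c
  have d := (index_sq_odd hp2 hF h0 (Nat.le_of_mul_le_mul_right c Nat.card_pos)).2.1
  rw [← U.index_mul_card, hi, pow_succ'] at d
  have := L.isMulCommutative_of_card_le_sq hU (Nat.eq_of_mul_eq_mul_left hp.out.pos d).le
  rw [← a, commutator_eq_bot_iff_le_centralizer.2 (L.le_centralizer_of_comm this), card_bot] at b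
  exact hp.out.one_lt.ne b

end FG
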