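import Cfsg.Agent.H9.ES6
import Cfsg.Agent.H1.ES3
import Cfsg.Agent.H1.Amb

/-!
H9.ES7: the isomorphism types of small centric radical subgroups.
-/

set_option autoImplicit false
set_option linter.unusedSectionVars false

namespace H9

open Subgroup Cfsg Multiplicative
open scoped commutatorElement MatrixGroups

variable {G : Type*} [Group G] [Finite G] {p : ℕ} [hp : Fact p.Prime] {Q T A B C D : Subgroup G}

theorem pow_hom {n : ℕ} (h : ∀ x ∈ A, ∀ y ∈ A, (x * y) ^ n = x ^ n * y ^ n) :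
    (∀ y, y ∈ mho n A ↔ ∃ x ∈ A, x ^ n = y) ∧ (∀ x, x ∈ omegaOne n A ↔ x ∈ A ∧ x ^ n = 1) ∧
      Nat.card A = Nat.card (mho n A) * Nat.card (omegaOne n A) := by
  let φ : A →* G := MonoidHom.mk' (fun x => (x : G) ^ n) fun x y => h x x.2 y y.2
  have e1 : im φ A = mho n A := le_antisymm (fun y hy => let ⟨x, a, b⟩ := (mem_im φ).1 hy; subset_closure ⟨x, a, b⟩)
    ((closure_le _).2 fun y ⟨x, a, b⟩ => (mem_im φ).2 ⟨⟨x, a⟩, a, b⟩)
  have e2 : kr φ ⊓ A = omegaOne n A := le_antisymm (fun x hx => let ⟨a, b⟩ := (mem_kr φ).1 hx.1; L.mem_omegaOne a b)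
    (L.omegaOne_le_iff.2 fun x a b => ⟨(mem_kr φ).2 ⟨a, b⟩, a⟩)
  refine ⟨fun y => e1 ▸ (mem_im φ).trans ⟨fun ⟨x, a, b⟩ => ⟨x, a, b⟩, fun ⟨x, a, b⟩ => ⟨⟨x, a⟩, a, b⟩⟩,
    fun x => e2 ▸ ⟨fun hx => let ⟨a, b⟩ := (mem_kr φ).1 hx.1; ⟨a, b⟩, fun ⟨a, b⟩ => ⟨(mem_kr φ).2 ⟨a, b⟩, a⟩⟩, ?_⟩
  rw [card_eq_card_im_mul φ le_rfl, e1, e2]

theorem pow_hom_ab (hab : IsMulCommutative A) (n : ℕ) :
    (∀ y, y ∈ mho n A ↔ ∃ x ∈ A, x ^ n = y) ∧ (∀ x, x ∈ omegaOne n A ↔ x ∈ A ∧ x ^ n = 1) ∧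
      Nat.card A = Nat.card (mho n A) * Nat.card (omegaOne n A) :=
  pow_hom fun _ hx _ hy => Commute.mul_pow (H1.comm_of_mem hab hx hy) n

instance mho_normal (n : ℕ) (A : Subgroup G) [A.Normal] : (mho n A).Normal :=
  normal_of_top_le (le_normalizer_of_cj_le fun g _ => by
    rw [mho, ← image_subset_iff_cj]
    rintro _ ⟨_, ⟨z, hz, rfl⟩, rfl⟩
    exact subset_closure ⟨_, Normal.conj_mem inferInstance z hz g, conj_pow⟩)

theorem mem_zp_pow {a x : G} {k : ℕ} (ho : orderOf a = p ^ (k + 1)) (hx : x ∈ zpowers a) (h : x ^ p = 1) :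
    x ∈ zpowers (a ^ p ^ k) := by
  obtain ⟨i, rfl⟩ := (mem_powers_iff_mem_zpowers.2 hx : ∃ i : ℕ, a ^ i = x)
  rw [← pow_mul, ← orderOf_dvd_iff_pow_eq_one, ho, pow_succ] at h
  obtain ⟨j, rfl⟩ := Nat.dvd_of_mul_dvd_mul_right hp.out.pos h
  exact ⟨j, by simp [pow_mul]⟩

theorem exists_ord_p (hA : IsPGroup p A) (h : A ≠ ⊥) : ∃ x ∈ A, x ≠ 1 ∧ x ^ p = 1 := by
  by_contra! h'
  refine L.omegaOne_ne_bot (p := p) (H := A) ?_ (le_bot_iff.1 (L.omegaOne_le_iff.2 fun x a b => by_contra fun c => h' x a c b))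
  obtain ⟨n, hn⟩ := L.exists_card_eq_pow hA
  exact hn ▸ dvd_pow_self p fun e => h (card_eq_one.1 (by rw [hn, e, pow_zero]))

theorem cyc_equiv {a : G} {n : ℕ} [NeZero n] (h : orderOf a = n) : Nonempty (zpowers a ≃* Multiplicative (ZMod n)) :=
  ⟨mulEquivOfCyclicCardEq (by rw [Nat.card_zpowers, h]; simp)⟩

theorem prod_eq (hA : A ≤ Q) (hB : B ≤ Q) (h : A ≤ centralizer (B : Set G)) (hd : A ⊓ B = ⊥)
    (hc : Nat.card Q ≤ Nat.card A * Nat.card B) {X Y : Type*} [Group X] [Group Y] (a : A ≃* X) (b : B ≃* Y) :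
    Nonempty (Q ≃* X × Y) :=
  (H1.sup_equiv_prod h hd).map fun f => (MulEquiv.subgroupCongr (eq_of_le_of_card_ge (sup_le hA hB)
    (by rwa [Nat.card_congr f.toEquiv, Nat.card_prod])).symm).trans (f.trans (a.prodCongr b))

theorem prime_equiv (h : Nat.card A = p) : Nonempty (A ≃* Multiplicative (ZMod p)) :=
  ⟨mulEquivOfPrimeCardEq h (by simp)⟩

theorem elem_sq_equiv (hA : IsElementaryAbelian p A) (h : Nat.card A = p ^ 2) :
    Nonempty (A ≃* Multiplicative (ZMod p × ZMod p)) := by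
  obtain ⟨B, h1, h2⟩ := L.exists_le_card (L.isPGroup_of_card h) 1 (h ▸ Nat.pow_le_pow_right hp.out.pos one_le_two)
  obtain ⟨U, hU⟩ := FT.exists_compl_elem hA h1
  have c := hU.card
  rw [pow_one] at h2
  obtain ⟨a⟩ := prime_equiv h2
  obtain ⟨b⟩ := prime_equiv (A := U) (Nat.eq_of_mul_eq_mul_left hp.out.pos (by rw [← pow_two, ← h, ← c, h2]))
  exact (prod_eq h1 hU.right_le (h1.trans ((L.le_centralizer_of_comm hA.1).trans (centralizer_le hU.right_le))) hU.inf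
    c.ge a b).map fun e => e.trans (MulEquiv.prodMultiplicative _ _).symm

theorem xs_equiv {X Y : Type*} [Group X] [Group Y] (e : X ≃* Y) (h : IsExtraspecial p X) : IsExtraspecial p Y := by
  obtain ⟨a, b, c, d⟩ := L.isExtraspecial_iff.1 (L.isExtraspecial_top_iff.2 h)
  have t : (⊤ : Subgroup X).map e.toMonoidHom = ⊤ := map_top_of_surjective _ e.surjective
  rw [← L.isExtraspecial_top_iff, ← t, L.isExtraspecial_iff, ← map_inf_centralizer_inj e.injective,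
    ← L.map_Phi_of_injective e.injective, ← map_commutator, b, c, card_map_of_injective e.injective]
  exact ⟨a.map _, rfl, rfl, d⟩

theorem pow_of_equiv {X Y : Type*} [Group X] [Group Y] {A : Subgroup X} {B : Subgroup Y} (e : A ≃* B) {n : ℕ}
    (h : ∀ x ∈ A, x ^ n = 1) : ∀ y ∈ B, y ^ n = 1 := fun y hy => congrArg Subtype.val (e.symm.injective
  (show e.symm (⟨y, hy⟩ ^ n) = e.symm 1 by rw [map_pow, map_one]; exact Subtype.ext (h _ (e.symm _).2)))

theorem comm_of_equiv {X Y : Type*} [Group X] [Group Y] (e : X ≃* Y) (h : IsMulCommutative X) : IsMulCommutative Y :=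
  ⟨⟨fun a b => e.symm.injective (by rw [map_mul, map_mul, h.1.1])⟩⟩

theorem elem_of_equiv {X Y : Type*} [Group X] [Group Y] {A : Subgroup X} {B : Subgroup Y} (e : A ≃* B) {n : ℕ}
    (h : IsElementaryAbelian n A) : IsElementaryAbelian n B := ⟨comm_of_equiv e h.1, pow_of_equiv e h.2⟩

theorem ws_of (hQ : IsPGroup p Q) (h : Nat.card (⁅Q, Q⁆ : Subgroup G) = p) : ∃ z, H1.WS p Q z ∧ zpowers z = ⁅Q, Q⁆ := by
  have l : ⁅Q, Q⁆ ≤ Q := commutator_le_left' le_normalizer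
  obtain ⟨z, hz, z1⟩ := (bot_or_exists_ne_one ⁅Q, Q⁆).resolve_left fun e => by
    rw [e, card_bot] at h; exact hp.out.one_lt.ne h
  have e := FT.eq_zpowers_of_card_prime (h.symm ▸ hp.out) hz z1
  exact ⟨z, ⟨l hz, by rw [← Nat.card_zpowers, e, h], fun x hx =>
    (cent_of_card_le hQ l (le_normalizer_commutator_right Q Q) h.le hx z hz).symm,
    fun x hx y hy => e.ge (commutator_mem_commutator hx hy)⟩, e⟩

theorem q8_of_ws {z : G} (w : H1.WS 2 Q z) (nd : H1.ND Q z) (hc : Nat.card Q = 2 ^ 3)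
    (h : ∀ x ∈ Q, x ∉ zpowers z → x ^ 2 = z) : Nonempty (Q ≃* QuaternionGroup 2) := by
  obtain h1 | ⟨x, hx, y, hy, e⟩ := w.cases
  · have := card_le_of_le fun x hx => nd x hx (h1 x hx)
    rw [hc, w.card_zp] at this
    omega
  have n : ¬ Commute x y := fun c => w.ne (e.symm.trans (H1.cm_iff.2 c))
  have a := h x hx fun c => n (H1.cm_of_zp (w.cen y hy) c).symm
  have b := h y hy fun c => n (H1.cm_of_zp (w.cen x hx) c)
  refine H5.quat_equiv_of_card two_ne_zero (⟨x, hx⟩ : Q) ⟨y, hy⟩ ?_ (Subtype.ext (by simp [← pow_two, a, b]))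
    (Subtype.ext ?_) (fun ⟨k, hk⟩ => n ((show x ^ k = y from congrArg Subtype.val hk) ▸ (Commute.refl x).zpow_right k)) hc
  · rw [← orderOf_coe]
    exact orderOf_eq_prime_pow (p := 2) (n := 1) (by simpa [a] using w.ne) (by rw [pow_succ, pow_mul, pow_one, a, w.zp])
  · have : y * x * y⁻¹ = ⁅x, y⁆⁻¹ * x := by rw [commutatorElement_def]; group
    simp [this, e, ← a, pow_two]

/-- the local data at a proper centric radical subgroup -/
structure Rd (p : ℕ) (Q T : Subgroup G) : Prop where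
  syl : Syl p T ⊤
  core : Op p ⊤ = Q
  cons : centralizer (Q : Set G) ≤ Q
  ne : ¬ T ≤ Q

namespace Rd
variable (h : Rd p Q T)
include h

theorem normal : Q.Normal := h.core ▸ normal_of_top_le (le_normalizer_Op p ⊤)
theorem le : Q ≤ T := h.core ▸ h.syl.Op_le
theorem isP : IsPGroup p Q := h.syl.isP.to_le h.le
theorem fin (hc : IsPGroup p (centralizer (D : Set G))) (t : Tr p (ncl T ⊤) D ⊥) : False := h.ne (h.core ▸ t.le_Op hc)

theorem chain (A B C : Subgroup G) [A.Normal] [B.Normal] [C.Normal] (hA : A ≤ Q) (hB : B ≤ A) (hC : C ≤ B)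
    (c1 : Nat.card Q ≤ p * Nat.card A) (c2 : Nat.card A ≤ p * Nat.card B) (c3 : Nat.card B ≤ p * Nat.card C)
    (c4 : Nat.card C ≤ p) : False :=
  haveI := h.normal
  h.fin (h.isP.to_le h.cons) (((((Tr.startN).stepC A h.isP h.syl.isP le_rfl hA c1).stepC B h.isP h.syl.isP hA hB c2).stepC
    C h.isP h.syl.isP (hB.trans hA) hC c3).stepC ⊥ h.isP h.syl.isP (hC.trans (hB.trans hA)) bot_le (by simpa using c4))

theorem cent_omega (hab : IsMulCommutative Q) : IsPGroup p (centralizer (omegaOne p Q : Set G)) :=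
  haveI := h.normal
  isPGroup_of_Ores_eq_bot (le_bot_iff.1 (Ores_le_iff.2 fun _ h1 h2 => (eq_bot_of_p_p' (h.isP.to_le
    ((le_centralizer_iff.1 (le_centralizer_of_omega_comm h2 h.isP hab (le_top.trans (top_le_normalizer Q))
      (le_centralizer_iff.1 h1))).trans h.cons)) h2).le))

theorem jump (hab : IsMulCommutative Q) : ∃ k, p ^ 2 * Nat.card (omegaOne p Q ⊓ mho (p ^ (k + 1)) Q : Subgroup G) ≤
    Nat.card (omegaOne p Q ⊓ mho (p ^ k) Q : Subgroup G) := by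
  haveI := h.normal
  by_contra! h'
  have hD := h.isP.to_le (L.omegaOne_le p Q)
  have l : ∀ k, omegaOne p Q ⊓ mho (p ^ (k + 1)) Q ≤ omegaOne p Q ⊓ mho (p ^ k) Q := fun k => inf_le_inf_left _ fun y hy => by
    obtain ⟨x, a, rfl⟩ := ((pow_hom_ab hab _).1 y).1 hy
    exact ((pow_hom_ab hab _).1 _).2 ⟨x ^ p, pow_mem a p, by rw [← pow_mul, pow_succ']⟩
  have t : ∀ k, Tr p (ncl T ⊤) (omegaOne p Q) (omegaOne p Q ⊓ mho (p ^ k) Q) := fun k => by
    induction k with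
    | zero =>
      rw [inf_eq_left.2 fun x hx => ((pow_hom_ab hab _).1 x).2 ⟨x, L.omegaOne_le p Q hx, by simp⟩]
      exact Tr.startN
    | succ k ih =>
      refine ih.stepC _ hD h.syl.isP inf_le_left (l k) ?_
      obtain ⟨a, ha⟩ := L.exists_relIndex_eq_pow (N := omegaOne p Q ⊓ mho (p ^ (k + 1)) Q)
        (hD.to_le (inf_le_left (b := mho (p ^ k) Q)))
      have := h' k
      rw [← relIndex_mul_card (l k), ha] at this ⊢
      have := (Nat.pow_lt_pow_iff_right hp.out.one_lt).1 (Nat.lt_of_mul_lt_mul_right this)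
      exact Nat.mul_le_mul_right _ ((Nat.pow_le_pow_right hp.out.pos (by omega : a ≤ 1)).trans_eq (pow_one p))
  obtain ⟨n, hn⟩ := L.exists_card_eq_pow h.isP
  refine h.fin (h.cent_omega hab) fun A a b => (t n A a b).trans (inf_le_right.trans fun y hy => ?_)
  obtain ⟨x, a, rfl⟩ := ((pow_hom_ab hab _).1 y).1 hy
  exact hn ▸ congrArg Subtype.val (pow_card_eq_one' (x := (⟨x, a⟩ : Q)))

theorem homo (hab : IsMulCommutative Q) (hr : Nat.card (omegaOne p Q) ≤ p ^ 2) :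
    ∃ k, Nat.card Q = p ^ (2 * (k + 1)) ∧ (∀ x ∈ Q, x ^ p ^ (k + 1) = 1) ∧ (k = 0 ∨ p ≤ 3) ∧
      Nonempty (Q ≃* Multiplicative (ZMod (p ^ (k + 1)) × ZMod (p ^ (k + 1)))) := by
  haveI := h.normal
  obtain ⟨k, hk⟩ := h.jump hab
  have lD := L.omegaOne_le p Q
  have c1 := hk.trans ((card_le_of_le inf_le_left).trans hr)
  have c2 : omegaOne p Q ⊓ mho (p ^ (k + 1)) Q = ⊥ := (card_le_one_iff_eq_bot _).1
    (Nat.le_of_mul_le_mul_left (c1.trans_eq (mul_one _).symm) (pow_pos hp.out.pos 2))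
  rw [c2, card_bot, mul_one] at hk
  have c3 : omegaOne p Q ≤ mho (p ^ k) Q := inf_eq_left.1 (eq_of_le_of_card_ge inf_le_left (hr.trans hk))
  have c4 : Nat.card (omegaOne p Q) = p ^ 2 := le_antisymm hr (hk.trans (card_le_of_le inf_le_left))
  have c5 : ∀ x ∈ Q, x ^ p ^ (k + 1) = 1 := fun x hx => by
    by_contra e
    obtain ⟨y, a, b, c⟩ := exists_ord_p (h.isP.to_le (mho_le (p ^ (k + 1)) Q)) fun e' =>
      e (mem_bot.1 (e' ▸ ((pow_hom_ab hab _).1 _).2 ⟨x, hx, rfl⟩))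
    exact b (mem_bot.1 (c2 ▸ mem_inf.2 ⟨L.mem_omegaOne (mho_le _ _ a) c, a⟩))
  have c6 : ∀ d ∈ omegaOne p Q, d ≠ 1 → ∃ a ∈ Q, a ^ p ^ k = d ∧ orderOf a = p ^ (k + 1) := fun d hd h1 => by
    obtain ⟨a, ha, rfl⟩ := ((pow_hom_ab hab _).1 d).1 (c3 hd)
    exact ⟨a, ha, rfl, orderOf_eq_prime_pow h1 (c5 a ha)⟩
  have od : ∀ d ∈ omegaOne p Q, d ≠ 1 → Nat.card (zpowers d) = p := fun d hd h1 => by
    rw [Nat.card_zpowers, orderOf_eq_prime (((pow_hom_ab hab _).2.1 d).1 hd).2 h1]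
  obtain ⟨d, hd, d1⟩ := (bot_or_exists_ne_one (omegaOne p Q)).resolve_left fun e => by
    rw [e, card_bot] at c4; exact (Nat.one_lt_pow two_ne_zero hp.out.one_lt).ne c4
  obtain ⟨d', hd', d2⟩ := SetLike.not_le_iff_exists.1 fun e : omegaOne p Q ≤ zpowers d => by
    have := card_le_of_le e
    rw [c4, od d hd d1] at this
    exact this.not_gt (lt_self_pow₀ hp.out.one_lt one_lt_two)
  have d3 : d' ≠ 1 := fun e => d2 (e ▸ one_mem _)
  obtain ⟨a, ha, rfl, oa⟩ := c6 d hd d1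
  obtain ⟨b, hb, rfl, ob⟩ := c6 d' hd' d3
  have l : zpowers a ⊔ zpowers b ≤ Q := sup_le (zpowers_le.2 ha) (zpowers_le.2 hb)
  obtain ⟨e⟩ := H1.sup_equiv_prod (A := zpowers a) (B := zpowers b)
    ((zpowers_le.2 ha).trans ((L.le_centralizer_of_comm hab).trans (centralizer_le (zpowers_le.2 hb)))) (by
      by_contra e
      obtain ⟨y, a, b, c⟩ := exists_ord_p (h.isP.to_le (inf_le_left.trans (le_sup_left.trans l))) e
      exact d2 (zpowers_le.2 (mem_zp_pow oa a.1 c) ((FT.eq_zpowers_of_card_prime ((od _ hd' d3).symm ▸ hp.out)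
        (mem_zp_pow ob a.2 c) b).ge (mem_zpowers _))))
  haveI : NeZero (p ^ (k + 1)) := ⟨pow_ne_zero _ hp.out.ne_zero⟩
  obtain ⟨e1⟩ := cyc_equiv oa
  obtain ⟨e2⟩ := cyc_equiv ob
  have c7 : ∀ j, Nat.card Q ≤ p ^ (2 * j) * Nat.card (mho (p ^ j) Q) := fun j => by
    induction j with
    | zero => simpa using card_le_of_le fun x hx => ((pow_hom_ab hab 1).1 x).2 ⟨x, hx, pow_one x⟩
    | succ j ih =>
      have hc := comm_of_le hab (mho_le (p ^ j) Q)
      rw [(pow_hom_ab hc p).2.2] at ih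
      refine ih.trans ((Nat.mul_le_mul_left _ (Nat.mul_le_mul (card_le_of_le (K := mho (p ^ (j + 1)) Q) fun y hy => ?_)
        ((card_le_of_le (L.omegaOne_mono p (mho_le _ _))).trans hr))).trans_eq (by ring))
      obtain ⟨x, a, rfl⟩ := ((pow_hom_ab hc _).1 y).1 hy
      obtain ⟨x, a', rfl⟩ := ((pow_hom_ab hab _).1 x).1 a
      exact ((pow_hom_ab hab _).1 _).2 ⟨x, a', by rw [← pow_mul, pow_succ]⟩
  have c8 : Nat.card (zpowers a ⊔ zpowers b : Subgroup G) = p ^ (2 * (k + 1)) := by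
    rw [Nat.card_congr e.toEquiv, Nat.card_prod, Nat.card_zpowers, Nat.card_zpowers, oa, ob]; ring
  have c9 : zpowers a ⊔ zpowers b = Q := eq_of_le_of_card_ge l (c8 ▸ (c7 (k + 1)).trans_eq (by
    rw [(eq_bot_iff_forall (mho (p ^ (k + 1)) Q)).2 fun y hy => ?_, card_bot, mul_one]
    obtain ⟨x, a, rfl⟩ := ((pow_hom_ab hab _).1 y).1 hy
    exact c5 x a))
  refine ⟨k, c9 ▸ c8, c5, ?_, ⟨(MulEquiv.subgroupCongr c9.symm).trans (e.trans ((e1.prodCongr e2).trans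
    (MulEquiv.prodMultiplicative _ _).symm))⟩⟩
  by_contra! h3
  obtain ⟨k, rfl⟩ := Nat.exists_eq_succ_of_ne_zero h3.1
  obtain ⟨g, g1, g2⟩ := SetLike.not_le_iff_exists.1 h.ne
  obtain ⟨t, t0, t1, t2⟩ := exists_step h.syl.isP g1 g2
  have lV := L.omegaOne_le (p ^ 2) Q
  have hV := comm_of_le hab lV
  have cV : Nat.card (omegaOne (p ^ 2) Q) ≤ p ^ 4 := by
    rw [(pow_hom_ab hV p).2.2]
    refine (Nat.mul_le_mul ((card_le_of_le fun y hy => ?_).trans hr)
      ((card_le_of_le (L.omegaOne_mono p lV)).trans hr)).trans_eq (by ring)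
    obtain ⟨x, a, rfl⟩ := ((pow_hom_ab hV _).1 y).1 hy
    exact L.mem_omegaOne (pow_mem (lV a) p) (by rw [← pow_mul, ← pow_two, (((pow_hom_ab hab _).2.1 x).1 a).2])
  have n : ∀ X : Subgroup G, X ≤ normalizer (omegaOne (p ^ 2) Q : Set G) := fun X => le_top.trans (top_le_normalizer _)
  have lc : (omegaOne (p ^ 2) Q ⊔ zpowers t).lowerCentralSeries (1 * (p - 1) + 1) = ⊥ := by
    by_contra e
    rw [one_mul, add_comm] at e
    have := L.pow_le_card_lcs (h.syl.isP.to_le (sup_le (lV.trans h.le) (zpowers_le.2 (zpowers_le.2 g1 t0)))) 1 _ e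
    have := this.trans ((card_le_of_le ((H1.commutator_sup_le_of_abelian hV inferInstance).trans
      (commutator_le_left' (n _)))).trans cV)
    rw [Nat.pow_le_pow_iff_right hp.out.one_lt] at this
    have := hp.out.eq_two_or_odd
    omega
  refine t1 (h.core ▸ le_Op le_top (top_le_normalizer _) (h.cent_omega hab) (mem_centralizer_iff.2 fun d hd => ?_))
  obtain ⟨x, a, rfl⟩ := ((pow_hom_ab hab _).1 d).1 (c3 hd)
  have := cent_pow hp.out le_sup_left (L.le_centralizer_of_comm hV) (mem_sup_right (mem_zpowers t)) (n _ (mem_top t))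
    (centralizer_le lV (L.le_centralizer_of_comm hab t2)) lc (L.mem_omegaOne (pow_mem a (p ^ k))
      (by rw [← pow_mul, ← pow_add]; exact c5 x a))
  rw [← pow_mul, ← pow_add, mul_inv_eq_iff_eq_mul] at this
  exact this.symm

section ws
variable {z : G} (w : H1.WS p Q z) (hz : zpowers z = ⁅Q, Q⁆)
  (cZ : Nat.card (Q ⊓ centralizer (Q : Set G) : Subgroup G) ≤ p ^ 2)
  (cQ : Nat.card Q = Nat.card (Q ⊓ centralizer (Q : Set G) : Subgroup G) * p ^ 2)
include w hz cZ cQ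

theorem top2 (K : Subgroup G) [K.Normal] (h1 : Q ⊓ centralizer (Q : Set G) ≤ K) (h2 : K ≤ Q)
    (h3 : Nat.card Q ≤ p * Nat.card K) : K = Q := by
  haveI := h.normal
  by_contra e
  have := L.mul_card_le_of_lt h.isP (lt_of_le_of_ne h2 e)
  refine h.chain K (Q ⊓ centralizer (Q : Set G)) ⁅Q, Q⁆ h2 h1 (hz ▸ zpowers_le.2 ⟨w.mem, w.cen⟩) h3
    (Nat.le_of_mul_le_mul_left (this.trans_eq (by rw [cQ]; ring)) hp.out.pos) ?_ ?_ <;> rw [← hz, w.card_zp]
  rwa [← pow_two]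

theorem ws_core (hZ : ∀ x ∈ Q ⊓ centralizer (Q : Set G), x ^ p = 1) : (∀ x ∈ Q, x ^ p ∈ zpowers z) ∧
    (p ≠ 2 → ∀ x ∈ Q, x ^ p = 1) ∧ (p = 2 → ∀ x ∈ Q, x ∉ centralizer (Q : Set G) → x ^ 2 = z) := by
  haveI := h.normal
  haveI : (zpowers z).Normal := hz ▸ inferInstance
  have lz : zpowers z ≤ Q ⊓ centralizer (Q : Set G) := zpowers_le.2 ⟨w.mem, w.cen⟩
  have a : ∀ x ∈ Q, x ^ p ∈ zpowers z := by
    set f := QuotientGroup.mk' (zpowers z)
    have hf := QuotientGroup.mk'_surjective (zpowers z)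
    haveI : (Q.map f).Normal := Normal.map inferInstance f hf
    have hA : IsMulCommutative (Q.map f) := L.comm_of_le_centralizer (map_le_centralizer_of_commutator_le_ker f
      (by rw [QuotientGroup.ker_mk', hz]))
    obtain ⟨b1, b2, b3⟩ := pow_hom_ab hA p
    have l : zpowers z ≤ (omegaOne p (Q.map f)).comap f := QuotientGroup.le_comap_mk' _ _
    have c1 := card_eq_card_map_mul f Q
    have c2 := card_eq_card_map_mul f (Q ⊓ centralizer (Q : Set G))
    have c3 := card_eq_card_map_mul f ((omegaOne p (Q.map f)).comap f)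
    rw [QuotientGroup.ker_mk', inf_eq_left.2 w.zle, w.card_zp] at c1
    rw [QuotientGroup.ker_mk', inf_eq_left.2 lz, w.card_zp] at c2
    rw [QuotientGroup.ker_mk', inf_eq_left.2 l, w.card_zp, map_comap_eq_self_of_surjective hf] at c3
    have c4 : Nat.card (mho p (Q.map f)) ≤ p := (card_le_of_le (K := (Q ⊓ centralizer (Q : Set G)).map f) fun y hy => by
      obtain ⟨_, ⟨x, hx, rfl⟩, rfl⟩ := (b1 y).1 hy
      exact ⟨x ^ p, ⟨pow_mem hx p, fun q hq => (w.pow_cen hx hq).symm⟩, map_pow f x p⟩).trans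
        (Nat.le_of_mul_le_mul_right (by rwa [← c2, ← pow_two]) hp.out.pos)
    have e := h.top2 w hz cZ cQ ((omegaOne p (Q.map f)).comap f)
      (fun x hx => (b2 _).2 ⟨mem_map_of_mem f hx.1, by rw [← map_pow, hZ x hx, map_one]⟩)
      ((comap_mono (L.omegaOne_le p _)).trans (by rw [comap_map_eq, QuotientGroup.ker_mk', sup_eq_left.2 w.zle]))
      (by rw [c1, c3, b3, ← mul_assoc]; exact Nat.mul_le_mul_right _ (Nat.mul_le_mul_right _ c4))
    exact fun x hx => (QuotientGroup.eq_one_iff _).1 ((map_pow f x p).trans ((b2 _).1 (e.ge hx)).2)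
  refine ⟨a, fun hp2 => ?_, fun hp2 u hu hu' => ?_⟩
  · obtain ⟨b1, b2, b3⟩ := pow_hom (A := Q) (n := p) fun x hx y hy =>
      w.mul_pow (hp.out.dvd_choose_self two_ne_zero (lt_of_le_of_ne hp.out.two_le hp2.symm)) hx hy
    have e := h.top2 w hz cZ cQ (omegaOne p Q) (fun x hx => (b2 x).2 ⟨hx.1, hZ x hx⟩) (L.omegaOne_le p Q)
      (b3.trans_le (Nat.mul_le_mul_right _ ((card_le_of_le fun y hy => by
        obtain ⟨x, hx, rfl⟩ := (b1 y).1 hy; exact a x hx).trans_eq w.card_zp)))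
    exact fun x hx => ((b2 x).1 (e.ge hx)).2
  subst hp2
  refine ((H1.zp2 w.zp).1 (a u hu)).resolve_left fun u2 => ?_
  have eZ : IsElementaryAbelian 2 (Q ⊓ centralizer (Q : Set G)) :=
    ⟨L.comm_of_le_centralizer (inf_le_right.trans (centralizer_le inf_le_left)), hZ⟩
  have l1 : Q ⊓ centralizer (Q : Set G) ⊔ zpowers u ≤ Q ⊓ centralizer {u} :=
    sup_le (inf_le_inf_left _ (centralizer_le (by simpa))) (zpowers_le.2 ⟨hu, by simp [mem_centralizer_iff]⟩)
  have l2 : Q ⊓ centralizer {u} < Q := lt_of_le_of_ne inf_le_left fun e => hu' fun q hq =>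
    ((e.ge hq).2 u rfl).symm
  have c1 := L.mul_card_le_of_lt h.isP l2
  have c2 := L.mul_card_le_of_lt (h.isP.to_le (l1.trans inf_le_left)) (left_lt_sup.2 fun e =>
    hu' (e (mem_zpowers u)).2 : Q ⊓ centralizer (Q : Set G) < _ ⊔ zpowers u)
  have s : ∀ x ∈ Q, Commute u x → x ^ 2 = 1 := fun x hx e => (elem_sup eZ (B := zpowers u)
    (elem_zpowers u2) (inf_le_right.trans (centralizer_le (zpowers_le.2 hu)))).2 x
      ((eq_of_le_of_card_ge l1 (by omega)).ge ⟨hx, by rintro _ rfl; exact e⟩)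
  obtain ⟨r, hr, r2⟩ : ∃ r ∈ Q, r ^ 2 ≠ 1 := by
    by_contra! e
    exact hu' fun q hq => by
      have := e _ (mul_mem hq hu)
      rw [pow_two, mul_eq_one_iff_eq_inv, mul_inv_rev, ← eq_inv_of_mul_eq_one_left ((pow_two u).symm.trans u2),
        ← eq_inv_of_mul_eq_one_left ((pow_two q).symm.trans (e q hq))] at this
      exact this
  have cz : ∀ x ∈ Q, x ^ 2 ≠ 1 → ⁅x, u⁆ = z ∧ x⁻¹ = x * z := fun x hx e =>
    ⟨((H1.zp2 w.zp).1 (w.comm x hx u hu)).resolve_left fun e' => e (s x hx (H1.cm_iff.1 e').symm), by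
      rw [inv_eq_iff_mul_eq_one, ← mul_assoc, ← pow_two, ((H1.zp2 w.zp).1 (a x hx)).resolve_left e, ← pow_two, w.zp]⟩
  haveI : (closure {x | x ∈ Q ∧ x ^ 2 ≠ 1}).Normal := normal_of_top_le (le_normalizer_of_cj_le fun g _ => by
    rw [← image_subset_iff_cj]
    rintro _ ⟨x, hx, rfl⟩
    exact subset_closure ⟨Normal.conj_mem inferInstance x hx.1 g, by simpa [conj_pow] using hx.2⟩)
  have l3 : closure {x | x ∈ Q ∧ x ^ 2 ≠ 1} ⊔ Q ⊓ centralizer (Q : Set G) ≤ Q :=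
    sup_le ((closure_le _).2 fun _ h => h.1) inf_le_left
  have c3 := L.mul_card_le_of_lt (h.isP.to_le l3) (right_lt_sup.2 fun e => r2 (hZ r (e (subset_closure ⟨hr, r2⟩))))
  have e := h.top2 w hz cZ cQ _ le_sup_right l3 (by omega)
  refine r2 (s r hr (H1.commute_of_mem_sup (B := Q ⊓ centralizer (Q : Set G)) (fun x hx => ?_) (fun x hx => hx.2 r hr)
    (e.ge hu)).symm)
  refine ((closure_le (K := centralizer {r})).2 (fun x hx => ?_) hx r rfl)
  rintro _ rfl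
  have := s _ (mul_mem hx.1 hr) (H1.cm_iff.1 (by
    rw [H1.cm_mul (cz _ hr r2).1 (w.cen x hx.1), (cz x hx.1 hx.2).1, ← pow_two, w.zp])).symm
  rw [pow_two, mul_eq_one_iff_eq_inv, mul_inv_rev, (cz _ hr r2).2, (cz x hx.1 hx.2).2, mul_assoc, ← mul_assoc z,
    ← (w.cen x hx.1).eq, mul_assoc, ← pow_two, w.zp, mul_one] at this
  exact this.symm

end ws

theorem omega_eq {k : ℕ} (hc : Nat.card Q = p ^ (k + 1)) (hr : ¬ Nat.card (omegaOne p Q) ≤ p ^ k) : omegaOne p Q = Q :=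
  by_contra fun e => hr (Nat.le_of_mul_le_mul_left ((L.mul_card_le_of_lt h.isP
    (lt_of_le_of_ne (L.omegaOne_le p Q) e)).trans_eq (by rw [hc, pow_succ'])) hp.out.pos)

theorem sq (hc : Nat.card Q = p ^ 2) : IsElementaryAbelian p Q := by
  have hab := L.isMulCommutative_of_card_le_sq h.isP hc.le
  obtain ⟨k, a, b, -⟩ := h.homo hab ((card_le_of_le (L.omegaOne_le p Q)).trans hc.le)
  obtain rfl : k = 0 := by have := Nat.pow_right_injective hp.out.two_le (hc.symm.trans a); omega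
  exact ⟨hab, by simpa using b⟩

theorem cube (hc : Nat.card Q = p ^ 3) : IsElementaryAbelian p Q ∨ (p ≠ 2 ∧ IsExtraspecial p Q ∧ ∀ x ∈ Q, x ^ p = 1) ∨
    (p = 2 ∧ Nonempty (Q ≃* QuaternionGroup 2)) := by
  by_cases hab : IsMulCommutative Q
  · refine Or.inl (h.omega_eq hc (fun hr => ?_) ▸ L.isElem_omegaOne_of_comm hab)
    obtain ⟨k, a, -⟩ := h.homo hab hr
    have := Nat.pow_right_injective hp.out.two_le (hc.symm.trans a)
    omega
  obtain ⟨-, a, b⟩ := FT.card_der_of_le_cube h.isP hc.le hab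
  obtain ⟨z, w, hz⟩ := ws_of h.isP a
  have nd : H1.ND Q z := fun x hx e => hz ▸ b ▸ H1.mem_ZZ.2 ⟨hx, e⟩
  obtain ⟨-, c, d⟩ := h.ws_core w hz (by rw [b, a]; exact Nat.le_self_pow two_ne_zero p) (by rw [b, a, hc]; ring)
    fun x hx => (elem_zpowers w.zp).2 x (hz ▸ b ▸ hx)
  by_cases hp2 : p = 2
  · subst hp2
    exact Or.inr (Or.inr ⟨rfl, q8_of_ws w nd hc fun x hx e => d rfl x hx fun e' => e (hz ▸ b ▸ mem_inf.2 ⟨hx, e'⟩)⟩)
  · exact Or.inr (Or.inl ⟨hp2, w.extra nd fun e => hab (e ▸ inferInstance), c hp2⟩)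

theorem card_der (hc : Nat.card Q = p ^ 4) (hab : ¬ IsMulCommutative Q) : Nat.card (⁅Q, Q⁆ : Subgroup G) = p := by
  haveI := h.normal
  have l : ⁅Q, Q⁆ ≤ Q := commutator_le_left' le_normalizer
  have n0 : ⁅Q, Q⁆ ≠ ⊥ := fun e => hab (L.comm_of_le_centralizer (commutator_eq_bot_iff_le_centralizer.1 e))
  have c1 := L.sq_le_relIndex_of_le_Phi h.isP (L.commutator_le_Phi h.isP) fun _ => hab inferInstance
  have c2 : Nat.card (⁅Q, Q⁆ : Subgroup G) ≤ p ^ 2 := Nat.le_of_mul_le_mul_left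
    ((Nat.mul_le_mul_right _ c1).trans_eq (by rw [relIndex_mul_card l, hc]; ring)) (pow_pos hp.out.pos 2)
  obtain ⟨a, ha⟩ := L.exists_card_eq_pow (h.isP.to_le l)
  have a0 : a ≠ 0 := fun e => n0 (card_eq_one.1 (by rw [ha, e, pow_zero]))
  have a2 := (Nat.pow_le_pow_iff_right hp.out.one_lt).1 (ha ▸ c2)
  by_contra hne
  obtain rfl : a = 2 := by
    have : a ≠ 1 := fun e => hne (by rw [ha, e, pow_one])
    omega
  have p3 : ∀ X < Q, Nat.card X ≤ p * p ^ 2 := fun X hX => Nat.le_of_mul_le_mul_left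
    ((L.mul_card_le_of_lt h.isP hX).trans_eq (by rw [hc]; ring)) hp.out.pos
  by_cases e : ⁅⁅Q, Q⁆, Q⁆ = ⊥
  · have lZ : ⁅Q, Q⁆ ≤ Q ⊓ centralizer (Q : Set G) := le_inf l (commutator_eq_bot_iff_le_centralizer.1 e)
    obtain ⟨x, hx, hx'⟩ := SetLike.not_le_iff_exists.1 fun e => hab (L.comm_of_le_centralizer e)
    have hA : IsMulCommutative (Q ⊓ centralizer (Q : Set G) ⊔ zpowers x : Subgroup G) := comm_sup
      (L.comm_of_le_centralizer (inf_le_right.trans (centralizer_le inf_le_left))) inferInstance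
      (inf_le_right.trans (centralizer_le (zpowers_le.2 hx)))
    have lA : Q ⊓ centralizer (Q : Set G) ⊔ zpowers x < Q :=
      lt_of_le_of_ne (sup_le inf_le_left (zpowers_le.2 hx)) fun e => hab (e ▸ hA)
    have c3 := L.mul_card_le_of_lt (h.isP.to_le lA.le)
      (left_lt_sup.2 fun e => hx' (e (mem_zpowers x)).2 : Q ⊓ centralizer (Q : Set G) < _ ⊔ zpowers x)
    have c4 := ha ▸ card_le_of_le lZ
    obtain ⟨b, hb, hb'⟩ := SetLike.exists_of_lt lA
    have i := L.relIndex_eq_of_le h.isP lA.not_ge (Nat.le_of_mul_le_mul_right (by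
      rw [relIndex_mul_card lA.le, hc]
      exact le_trans (le_of_eq (by ring)) (Nat.mul_le_mul_left p ((Nat.mul_le_mul_left p c4).trans c3))) Nat.card_pos)
    have c5 := (L.card_commutator_mul hA (le_normalizer_of_commutator_le
      ((commutator_mono lA.le le_rfl).trans (lZ.trans le_sup_left)) le_rfl hb)).1
    rw [L.sup_zpowers_eq_of_relIndex_prime (i.symm ▸ hp.out) lA.le hb hb', ha] at c5
    have c6 := (Nat.mul_le_mul_left _ (c4.trans (card_le_of_le (le_inf le_sup_left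
      (inf_le_right.trans (centralizer_le (by simpa))))))).trans (c5.le.trans (p3 _ lA))
    rw [← pow_add, ← pow_succ', Nat.pow_le_pow_iff_right hp.out.one_lt] at c6
    omega
  have c3 := L.relIndex_centralizer_le_pow h.isP 2 l (le_normalizer_commutator_right Q Q) ha
  have lt := commutator_lt_of_p (h.isP.to_le l) h.isP (le_normalizer_commutator_right Q Q) n0
  refine h.chain (Q ⊓ centralizer ((⁅Q, Q⁆ : Subgroup G) : Set G)) ⁅Q, Q⁆ ⁅⁅Q, Q⁆, Q⁆ inf_le_left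
    (le_inf l (L.le_centralizer_of_comm (L.isMulCommutative_of_card_le_sq (h.isP.to_le l) c2))) lt.le ?_
    (ha ▸ p3 _ (lt_of_le_of_ne inf_le_left fun e' => e ?_)) ?_ ?_
  · rw [← relIndex_mul_card_inf (centralizer ((⁅Q, Q⁆ : Subgroup G) : Set G)) Q, inf_comm]
    exact Nat.mul_le_mul_right _ (by simpa using c3)
  · rw [commutator_comm, commutator_eq_bot_iff_le_centralizer]
    exact inf_eq_left.1 e'
  · rw [ha, pow_two]
    exact Nat.mul_le_mul_left _ (L.le_card_of_ne_bot (h.isP.to_le (lt.le.trans l)) e)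
  · exact Nat.le_of_mul_le_mul_left ((L.mul_card_le_of_lt (h.isP.to_le l) lt).trans_eq (by rw [ha, pow_two])) hp.out.pos

theorem four (hc : Nat.card Q = p ^ 4) : IsElementaryAbelian p Q ∨
      Nonempty (Q ≃* Multiplicative (ZMod (p ^ 2) × ZMod p × ZMod p)) ∨
      (p ≤ 3 ∧ Nonempty (Q ≃* Multiplicative (ZMod (p ^ 2) × ZMod (p ^ 2)))) ∨
      (p ≠ 2 ∧ ∃ (E : Type) (_ : Group E) (_ : Finite E), IsExtraspecial p E ∧ Nat.card E = p ^ 3 ∧
        (∀ x : E, x ^ p = 1) ∧ Nonempty (Q ≃* E × Multiplicative (ZMod p))) ∨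
      (p = 2 ∧ Nonempty (Q ≃* QuaternionGroup 2 × Multiplicative (ZMod 2))) ∨
      (¬ IsMulCommutative Q ∧ (∀ x ∈ Q, x ^ (p ^ 2) = 1) ∧ IsCyclic (center Q) ∧ Nat.card (center Q) = p ^ 2) := by
  haveI := h.normal
  by_cases hab : IsMulCommutative Q
  · by_cases hr : Nat.card (omegaOne p Q) ≤ p ^ 2
    · obtain ⟨k, a, -, b, c⟩ := h.homo hab hr
      obtain rfl : k = 1 := by have := Nat.pow_right_injective hp.out.two_le (hc.symm.trans a); omega
      exact Or.inr (Or.inr (Or.inl ⟨b.resolve_left one_ne_zero, c⟩))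
    by_cases hr' : Nat.card (omegaOne p Q) ≤ p ^ 3
    swap
    · exact Or.inl (h.omega_eq hc hr' ▸ L.isElem_omegaOne_of_comm hab)
    obtain ⟨b1, b2, b3⟩ := pow_hom_ab hab p
    have lD := L.omegaOne_le p Q
    obtain ⟨k, hk⟩ := L.exists_card_eq_pow (h.isP.to_le lD)
    obtain rfl : k = 3 := by
      rw [hk, Nat.pow_le_pow_iff_right hp.out.one_lt] at hr hr'; omega
    obtain ⟨a, ha, ha'⟩ := SetLike.not_le_iff_exists.1 fun e : Q ≤ omegaOne p Q => by
      have := card_le_of_le e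
      rw [hc, hk, Nat.pow_le_pow_iff_right hp.out.one_lt] at this
      omega
    have a1 : a ^ p ≠ 1 := fun e => ha' ((b2 a).2 ⟨ha, e⟩)
    have a2 : (a ^ p) ^ p = 1 := by
      have : Nat.card (mho p Q) = p := Nat.eq_of_mul_eq_mul_right (pow_pos hp.out.pos 3) (by rw [← hk, ← b3, hc, hk]; ring)
      exact congrArg Subtype.val (this ▸ pow_card_eq_one' (x := (⟨_, (b1 _).2 ⟨a, ha, rfl⟩⟩ : mho p Q)))
    have oa : orderOf a = p ^ (1 + 1) := orderOf_eq_prime_pow (by simpa) (by rwa [pow_succ, pow_one, pow_mul])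
    obtain ⟨U, hU⟩ := FT.exists_compl_elem (L.isElem_omegaOne_of_comm hab) (zpowers_le.2 ((b2 _).2 ⟨pow_mem ha p, a2⟩))
    have c := hU.card
    rw [Nat.card_zpowers, orderOf_eq_prime a2 a1, hk, pow_succ'] at c
    have c := Nat.eq_of_mul_eq_mul_left hp.out.pos c
    obtain ⟨e1⟩ := cyc_equiv oa
    obtain ⟨e2⟩ := elem_sq_equiv (elem_of_le (L.isElem_omegaOne_of_comm hab) hU.right_le) c
    exact Or.inr (Or.inl ((prod_eq (zpowers_le.2 ha) (hU.right_le.trans lD) ((zpowers_le.2 ha).trans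
      ((L.le_centralizer_of_comm hab).trans (centralizer_le (hU.right_le.trans lD)))) ((eq_bot_iff_forall _).2 fun x hx =>
        mem_bot.1 (hU.inf ▸ mem_inf.2 ⟨pow_one p ▸ mem_zp_pow oa hx.1 ((b2 x).1 (hU.right_le hx.2)).2, hx.2⟩))
      (by rw [Nat.card_zpowers, oa, c, hc]; exact le_of_eq (by ring)) e1 e2).map
        fun e => e.trans (MulEquiv.prodMultiplicative _ _).symm))
  obtain ⟨z, w, hz⟩ := ws_of h.isP (h.card_der hc hab)
  set Z := Q ⊓ centralizer (Q : Set G) with hZ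
  have lz : zpowers z ≤ Z := zpowers_le.2 ⟨w.mem, w.cen⟩
  have aZ : IsMulCommutative Z := L.comm_of_le_centralizer (inf_le_right.trans (centralizer_le inf_le_left))
  have cZ : Nat.card Z = p ^ 2 := by
    obtain ⟨r, hr⟩ := w.card
    obtain ⟨k, hk⟩ := L.exists_card_eq_pow (h.isP.to_le (inf_le_left : Z ≤ Q))
    have k0 := (Nat.pow_le_pow_iff_right hp.out.one_lt).1 (show p ^ 1 ≤ p ^ k by
      rw [← hk, pow_one, ← w.card_zp]; exact card_le_of_le lz)
    have r0 : r ≠ 0 := fun e => hab (eq_of_le_of_card_ge (inf_le_left : Z ≤ Q) (by rw [hr, e]; simp) ▸ aZ)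
    rw [← hZ, hk, hc, ← pow_add] at hr
    have := Nat.pow_right_injective hp.out.two_le hr
    rw [hk, show k = 2 by omega]
  have cQ : Nat.card Q = Nat.card Z * p ^ 2 := by rw [cZ, hc]; ring
  by_cases cy : IsCyclic Z
  · refine Or.inr (Or.inr (Or.inr (Or.inr (Or.inr ⟨hab, ?_, ?_, by rw [← card_map_subtype, map_center_subtype, cZ]⟩))))
    · obtain ⟨b1, b2, b3⟩ := pow_hom (A := Q) (n := p ^ 2) fun x hx y hy => w.mul_pow (hp.out.dvd_choose_pow two_ne_zero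
        (lt_of_le_of_lt hp.out.two_le (lt_self_pow₀ hp.out.one_lt one_lt_two)).ne) hx hy
      obtain ⟨d1, d2, d3⟩ := pow_hom_ab aZ p
      have e := h.top2 w hz cZ.le cQ (omegaOne (p ^ 2) Q) (fun x hx => (b2 x).2 ⟨hx.1,
        congrArg Subtype.val (cZ ▸ pow_card_eq_one' (x := (⟨x, hx⟩ : Z)))⟩) (L.omegaOne_le _ Q)
        (b3.trans_le (Nat.mul_le_mul_right _ ((card_le_of_le (K := mho p Z) fun y hy => by
          obtain ⟨x, hx, rfl⟩ := (b1 y).1 hy
          exact (d1 _).2 ⟨x ^ p, ⟨pow_mem hx p, fun q hq => (w.pow_cen hx hq).symm⟩, by rw [← pow_mul, pow_two]⟩).trans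
            (Nat.le_of_mul_le_mul_right ((Nat.mul_le_mul_left _ (w.card_zp.ge.trans (card_le_of_le
              (zpowers_le.2 ((d2 z).2 ⟨lz (mem_zpowers z), w.zp⟩))))).trans_eq (by rw [← d3, cZ, pow_two])) hp.out.pos))))
      exact fun x hx => ((b2 x).1 (e.ge hx)).2
    · exact isCyclic_of_surjective _ ((MulEquiv.subgroupCongr (map_center_subtype Q).symm).trans
        ((center Q).equivMapOfInjective _ Q.subtype_injective).symm).surjective
  have eZ : IsElementaryAbelian p Z := ⟨aZ, fun x hx => L.pow_eq_one_of_card_sq cZ cy hx⟩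
  obtain ⟨a, b, c⟩ := h.ws_core w hz cZ.le cQ eZ.2
  obtain ⟨E, h1, h2, nd, h3⟩ := w.exists_nd a
  obtain ⟨U, hU⟩ := FT.exists_compl_elem eZ lz
  have cU : Nat.card U = p := Nat.eq_of_mul_eq_mul_left hp.out.pos (by rw [← pow_two, ← cZ, ← hU.card, w.card_zp])
  have nd' : ∀ x ∈ E, x ∈ centralizer (Q : Set G) → x ∈ zpowers z := fun x hx e =>
    nd x hx fun y hy => (e y (h1 hy)).symm
  obtain ⟨f⟩ := H1.sup_equiv_prod (A := E) (B := U) (le_centralizer_iff.1 (hU.right_le.trans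
    (inf_le_right.trans (centralizer_le h1)))) ((eq_bot_iff_forall _).2 fun x hx =>
      mem_bot.1 (hU.inf ▸ mem_inf.2 ⟨nd' x hx.1 (hU.right_le hx.2).2, hx.2⟩))
  rw [← hZ, ← hU.sup, ← sup_assoc, sup_eq_left.2 (zpowers_le.2 h2)] at h3
  have cE : Nat.card E = p ^ 3 := Nat.eq_of_mul_eq_mul_right hp.out.pos (by
    rw [← pow_succ, ← hc, ← h3, Nat.card_congr f.toEquiv, Nat.card_prod, cU])
  obtain ⟨e2⟩ := prime_equiv cU
  have g := (MulEquiv.subgroupCongr h3.symm).trans f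
  by_cases hp2 : p = 2
  · subst hp2
    obtain ⟨e1⟩ := q8_of_ws (w.sub h1 h2) nd cE fun x hx e => c rfl x (h1 hx) fun e' => e (nd' x hx e')
    exact Or.inr (Or.inr (Or.inr (Or.inr (Or.inl ⟨rfl, ⟨g.trans (e1.prodCongr e2)⟩⟩))))
  have e1 := (Shrink.mulEquiv.{0} (α := E)).symm
  refine Or.inr (Or.inr (Or.inr (Or.inl ⟨hp2, _, _, Finite.of_equiv _ e1.toEquiv, xs_equiv e1 ((w.sub h1 h2).extra nd fun e => ?_),
    (Nat.card_congr e1.toEquiv).symm.trans cE, fun x => e1.symm.injective (Subtype.ext ?_), ⟨g.trans (e1.prodCongr e2)⟩⟩)))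
  · rw [e, w.card_zp] at cE
    exact (lt_self_pow₀ hp.out.one_lt (by omega)).ne cE
  · rw [map_pow, map_one]
    exact b hp2 _ (h1 (e1.symm x).2)

theorem sl2 (hc : Nat.card Q = p ^ 2) : ∃ K : Subgroup G, ∃ θ : K →* SL(2, ZMod p), Function.Surjective θ ∧
    θ.ker = (centralizer (Q : Set G)).subgroupOf K := by
  haveI := h.normal
  obtain ⟨g, hg⟩ : ∃ g, ¬ IsPGroup p (T ⊔ cj g T : Subgroup G) := by
    by_contra! e
    exact h.ne (h.core ▸ le_Op le_top (le_normalizer_of_cj_le fun g _ =>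
      le_sup_right.trans (h.syl.maximal (e g) le_top le_sup_left).le) h.syl.isP)
  have hT' := (h.syl.cj g).isP
  obtain ⟨θ, hθ⟩ := H1.plane_hom (h.sq hc) hc (le_top.trans (top_le_normalizer Q)) (H1.Pe_sup h.syl.isP hT')
  have e := im_sup θ le_sup_left le_sup_right
  refine ⟨_, θ, MonoidHom.range_eq_top.1 ?_, Subgroup.ext fun x => ?_⟩
  · rw [← im_self_eq_range, e]
    refine H1.sl2_gen (isPGroup_im θ h.syl.isP) (isPGroup_im θ hT') fun c => hg ?_
    obtain ⟨a, ha⟩ := L.exists_card_eq_pow (e ▸ c)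
    obtain ⟨b, hb⟩ := L.exists_card_eq_pow (h.isP.to_le (inf_le_left.trans (hθ.le.trans (inf_le_right.trans h.cons)) :
      kr θ ⊓ (T ⊔ cj g T) ≤ Q))
    exact L.isPGroup_of_card (by rw [card_eq_card_im_mul θ le_rfl, ha, hb, ← pow_add])
  · rw [MonoidHom.mem_ker, ← coe_mem_kr, hθ, mem_subgroupOf, mem_inf, and_iff_right x.2]

end Rd

end H9

namespace FG

open Subgroup Cfsg Equiv H2
open scoped commutatorElement MatrixGroups

universe u

variable {Ω : Type u} [Group Ω] {S R : Subgroup Ω} {F : FusionSystem S} {p : ℕ} [hp : Fact p.Prime] [Finite S]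

theorem LocM.equiv {M : Type*} [Group M] {ι : (S ⊓ normalizer (R : Set Ω) : Subgroup Ω) →* M} (h : LocM p F R ι)
    (hR : R ≤ S) : ∃ e : R ≃* H9.Op p (⊤ : Subgroup M), ∀ x : R, (e x : M) = fn ι x := by
  have l : R ≤ S ⊓ normalizer (R : Set Ω) := le_inf hR le_normalizer
  have e : (ι.comp (inclusion l)).range = H9.Op p ⊤ := by
    rw [h.core]
    exact le_antisymm (by rintro _ ⟨x, rfl⟩; exact (mem_img_fn l).2 ⟨x, x.2, fn_apply ι (l x.2)⟩) fun y hy =>
      let ⟨x, a, b⟩ := (mem_img_fn l).1 hy; ⟨⟨x, a⟩, (fn_apply ι (l a)).symm.trans b⟩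
  exact ⟨(MonoidHom.ofInjective (f := ι.comp (inclusion l)) (h.inj.comp (inclusion_injective l))).trans (MulEquiv.subgroupCongr e),
    fun x => (fn_apply ι (l x.2)).symm⟩

theorem ess_rd (hF : Sat p F) (hR : F.IsEssential p R) : ∃ (M : Type u) (_ : Group M) (_ : Finite M) (Q T : Subgroup M)
    (_ : R ≃* Q), H9.Rd p Q T ∧ ∃ ψ : M →* F.autGroup R, ψ.ker = centralizer (Q : Set M) := by
  obtain ⟨M, _, _, ι, h⟩ := loc_model hF hR.2.1 hR.1 (hF.radical_of_essential hR)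
  obtain ⟨e, he⟩ := h.equiv hR.1.1
  have l : R ≤ S ⊓ normalizer (R : Set Ω) := le_inf hR.1.1 le_normalizer
  haveI : (H9.Op p (⊤ : Subgroup M)).Normal := H9.normal_of_top_le (H9.le_normalizer_Op p ⊤)
  let ψ : M →* MulAut R := (MulAut.congr e.symm).toMonoidHom.comp MulAut.conjNormal
  have hψ : ∀ g x, fn ι (ψ g x) = g * fn ι x * g⁻¹ := fun g x => by rw [← he, ← he]; simp [ψ]
  refine ⟨M, _, inferInstance, _, _, e, ⟨h.syl, rfl, h.cons, h.not_le hF.pg hR.1.1 (hF.essential_ne hR)⟩,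
    ψ.codRestrict _ fun g => ?_, Subgroup.ext fun g => ?_⟩
  · obtain ⟨σ, a, b⟩ := h.mor R l g fun x hx => hψ g ⟨x, hx⟩ ▸ mem_range_fn (l (ψ g ⟨x, hx⟩).2)
    exact (mem_autGroup hR.1.1).2 (a.congr fun x hx => h.inj' (b x hx).1 (ext_apply _ hx ▸ l (ψ g ⟨x, hx⟩).2)
      (by rw [(b x hx).2, ext_apply _ hx, hψ]))
  · rw [MonoidHom.ker_codRestrict, MonoidHom.mem_ker, MulEquiv.ext_iff]
    refine ⟨fun a y hy => ?_, fun a x => Subtype.ext (h.inj' (l (ψ g x).2) (l x.2) ?_)⟩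
    · obtain ⟨x, hx⟩ := e.surjective ⟨y, hy⟩
      have := hψ g x
      rw [show ψ g x = x from a x, ← he, hx] at this
      exact eq_mul_inv_iff_mul_eq.1 this
    · rw [hψ, ← he, ← a _ (e x).2, mul_inv_cancel_right, he]
      rfl

theorem top_inner (hF : Sat p F) (h : ∀ (M : Type u) [Group M] [Finite M] (Q : Subgroup M) [Q.Normal], S ≃* Q →
    ∀ g : M, (orderOf g).Coprime p → g ∈ centralizer (Q : Set M)) :
    ∀ α ∈ Aut F S, ∃ s ∈ S, ∀ x ∈ S, α x = s * x * s⁻¹ := fun α hα => by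
  obtain ⟨M, _, _, ι, m⟩ := loc_model hF (fn_top F) (centric_top F) hF.radical_top
  obtain ⟨e, -⟩ := m.equiv le_rfl
  have l : S ≤ S ⊓ normalizer (S : Set Ω) := le_inf le_rfl le_normalizer
  haveI : (H9.Op p (⊤ : Subgroup M)).Normal := H9.normal_of_top_le (H9.le_normalizer_Op p ⊤)
  have hM : IsPGroup p (⊤ : Subgroup M) := H9.isPGroup_of_Ores_eq_bot (le_bot_iff.1 (H9.Ores_le_iff.2 fun A _ h2 =>
    (H9.eq_bot_of_p_p' ((H9.Op_p p ⊤).to_le fun g hg => m.cons (h M _ e g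
      (h2.coprime_dvd_left (orderOf_dvd_natCard A hg)))) h2).le))
  obtain ⟨g, hg⟩ := m.conj α hα
  obtain ⟨s, rfl⟩ := (m.syl.eq_of_isPGroup hM).ge (mem_top g)
  refine ⟨s, s.2.1, fun x hx => m.inj' (l (Aut.mem hα hx)) (mul_mem (mul_mem s.2 (l hx)) (inv_mem s.2)) ?_⟩
  rw [hg x hx, (homOn_fn ι).map_conj s.2 (l hx), fn_coe]

end FG
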