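import Cfsg.Agent.H9.ES7

/-!
H9.ES8: fusion systems on groups of maximal class; supersoluble fusion systems.
-/

set_option autoImplicit false
set_option linter.unusedSectionVars false

namespace H9

open Subgroup Cfsg
open scoped commutatorElement

variable {G : Type*} [Group G] [Finite G] {p : ℕ} [hp : Fact p.Prime]

theorem card_center_le (hG : IsPGroup p G) {m : ℕ} (hc : Nat.card G ≤ p ^ (m + 3))
    (h : (⊤ : Subgroup G).lowerCentralSeries (m + 1) ≠ ⊥) : Nat.card (center G) ≤ p := by
  by_contra hn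
  obtain ⟨a, ha⟩ := L.exists_card_eq_pow (hG.to_subgroup (center G))
  have a2 : 2 ≤ a := by
    rw [ha, not_le] at hn
    exact (Nat.pow_lt_pow_iff_right hp.out.one_lt).1 ((pow_one p).trans_lt hn)
  have i : (center G).index ≤ p ^ (m + 1) := Nat.le_of_mul_le_mul_right
    (((Nat.mul_le_mul_left _ (ha ▸ Nat.pow_le_pow_right hp.out.pos a2)).trans_eq (center G).index_mul_card).trans
      (hc.trans_eq (by ring))) (pow_pos hp.out.pos 2)
  refine h ?_
  cases m with
  | zero =>
    by_cases e : ⊤ ≤ center G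
    · exact commutator_eq_bot_iff_le_centralizer.2 (e.trans (center_le_centralizer _))
    · exact L.commutator_eq_bot_iff_comm.2 (L.isMulCommutative_of_relIndex_prime (M := ⊤) (by
        rw [L.relIndex_eq_of_le (hG.to_subgroup ⊤) e (by simpa using i)]; exact hp.out) le_top (center_le_centralizer _))
  | succ m => exact commutator_eq_bot_iff_le_centralizer.2 ((L.lcs_le_of_index_le hG _ m i).trans (center_le_centralizer _))

theorem card_z2_le (hG : IsPGroup p G) {m : ℕ} (hc : Nat.card G ≤ p ^ (m + 4))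
    (h : (⊤ : Subgroup G).lowerCentralSeries (m + 2) ≠ ⊥) : Nat.card (Subgroup.upperCentralSeries G 2) ≤ p ^ 2 := by
  have c1 := card_center_le hG (m := m + 1) hc h
  have hf := QuotientGroup.mk'_surjective (center G)
  have c2 := L.le_card_of_ne_bot (hG.to_subgroup _) (L.center_ne_bot hG fun e => h (by
    haveI := (Nat.card_eq_one_iff_unique.1 e).1
    exact Subsingleton.elim _ _))
  have c3 := card_center_le (hG.to_quotient (center G)) (m := m) (Nat.le_of_mul_le_mul_right
    ((Nat.mul_le_mul_left _ c2).trans ((card_eq_card_quotient_mul_card_subgroup _).ge.trans (hc.trans_eq (by ring))))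
    hp.out.pos) fun e => h (by
      rw [← map_top_of_surjective _ hf, ← map_lowerCentralSeries, Subgroup.map_eq_bot_iff, QuotientGroup.ker_mk'] at e
      exact commutator_eq_bot_iff_le_centralizer.2 (e.trans (center_le_centralizer _)))
  have c4 := card_eq_card_map_mul (QuotientGroup.mk' (center G)) (Subgroup.upperCentralSeries G 2)
  rw [c4, pow_two, QuotientGroup.ker_mk']
  refine Nat.mul_le_mul (le_trans (card_le_of_le ?_) c3) ((card_le_of_le inf_le_left).trans c1)
  rw [map_le_iff_le_comap, ← Subgroup.upperCentralSeries_one (G := G ⧸ center G),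
    Subgroup.comap_upperCentralSeries_quotient_center]

end H9

namespace FG

open Subgroup Cfsg Equiv H2
open scoped commutatorElement

universe u

variable {Ω : Type u} [Group Ω] {S A : Subgroup Ω} {F : FusionSystem S} {p : ℕ} [hp : Fact p.Prime] [Finite S]

theorem mor_cent {R P : Subgroup Ω} {τ : Perm Ω} {x : Ω} (h : Mor F R τ) (hP : P ≤ R) (hs : τ ∈ Stab P) (hx : x ∈ R)
    (hc : x ∈ centralizer (P : Set Ω)) : τ x ∈ S ⊓ centralizer (P : Set Ω) :=
  ⟨h.mem hx, (h.homOn.mono hP).mem_Stab_iff.1 hs ▸ h.homOn.img_centralizer_le hP hx hc⟩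

theorem ess_cent (hF : Sat p F) (hn : S ≤ normalizer (A : Set Ω)) (hab : A ≤ centralizer (A : Set Ω))
    (hm : ∀ Q, S ⊓ centralizer (A : Set Ω) < Q → Q ≤ S → Q = S) {f : Ω → Ω} (hf : Mor F A f) (hr : img f A = A) {z : Ω}
    (h1 : z ∈ A) (h2 : z ∈ S ⊓ centralizer (S : Set Ω)) (h3 : f z ∉ S ⊓ centralizer (S : Set Ω)) :
    F.IsEssential p (S ⊓ centralizer (A : Set Ω)) := by
  have hA := hf.le
  have l : A ≤ S ⊓ centralizer (A : Set Ω) := le_inf hA hab
  obtain ⟨τ, a, b⟩ := hF.extend_centralizer hf (hr.symm ▸ hF.fc_of_fn (fn_of_normal F hA hn))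
  rw [sup_eq_right.2 l] at a
  have c := a.mem_Stab le_rfl fun x hx =>
    mor_cent a l (a.mem_Stab l fun x hx => b x hx ▸ hr.le (mem_img_of_mem hx)) hx hx.2
  have fn := fn_of_normal F inf_le_left (H9.normalizer_inf le_normalizer (H9.normalizer_centralizer hn))
  have lZ : S ⊓ centralizer (S : Set Ω) ≤ S ⊓ centralizer (A : Set Ω) := inf_le_inf_left _ (centralizer_le hA)
  refine hF.essential_iff.2 ⟨centric_of_fc (hF.fc_of_fn fn) (inf_le_inf_left _ (centralizer_le l)), fn, fun e => h3 ?_,
    fun e => h3 ?_⟩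
  · have := hr.le (mem_img_of_mem h1)
    exact ⟨hA this, le_centralizer_iff.1 (inf_eq_left.1 e) this⟩
  have := hF.Gam_le (hF.fc_of_fn fn) (Y := Stab (S ⊓ centralizer (S : Set Ω))) fun α hα Q σ d1 _ d2 d3 => by
    obtain rfl := hm Q d1 d2.le
    exact (Aut.mor inf_le_left hα).mem_Stab lZ fun x hx => d3 x (lZ hx) ▸ mor_cent d2 le_rfl
      (d2.mem_Stab le_rfl fun _ => d2.mem) hx.1 hx.2
  rw [← b z h1, ← res_apply c (l h1)]
  exact ((this (e.ge (a.res_mem c))) z).2 h2

end FG
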