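import Cfsg.Agent.H9.LE2
import Cfsg.Agent.H1.Btw
import Cfsg.Agent.H1.Super
import Cfsg.Agent.H1.Gaschutz
import Cfsg.Agent.H2.Fus13
import Cfsg.Agent.L.PG3

/-!
H9.HS: subgroups strongly closed in their normalizers; p-nilpotence and supersolvability criteria.
-/

set_option autoImplicit false

namespace H9

open Cfsg Subgroup
open scoped commutatorElement

universe u

variable {G : Type u} [Group G] [Finite G] {p : ℕ} [hp : Fact p.Prime] {A E F L M P Q X Y : Subgroup G}

def KK (p : ℕ) (X : Subgroup G) : Subgroup G := ⁅X, X⁆ ⊔ closure {y | ∃ x ∈ X, x ^ (p - 1) = y}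

omit [Finite G] hp in
theorem KK_le_iff : KK p X ≤ Y ↔ ⁅X, X⁆ ≤ Y ∧ ∀ x ∈ X, x ^ (p - 1) ∈ Y := by
  rw [KK, sup_le_iff, closure_le]
  exact and_congr_right fun _ => ⟨fun h x hx => h ⟨x, hx, rfl⟩, fun h _ ⟨x, hx, e⟩ => e ▸ h x hx⟩

omit [Finite G] hp in
theorem KK_le : KK p X ≤ X := KK_le_iff.2 ⟨commutator_le_of_le le_rfl le_rfl, fun _ h => pow_mem h _⟩

theorem le_KK (h : ∀ q : ℕ, q.Prime → q ∣ Nat.card L → p ≤ q) (l : X ≤ L) : X ≤ KK p X := fun x hx => by
  refine zpowers_le.2 ((KK_le_iff.1 le_rfl).2 x hx) (mem_zpowers_pow_iff.2 (Nat.coprime_of_dvd fun q a b c => ?_))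
  have := h q a (c.trans (orderOf_dvd_card_of_mem (l hx)))
  have := hp.out.two_le
  have := Nat.le_of_dvd (by omega) b
  omega

theorem kk_step (hF : IsPGroup p F) (l : M ≤ F) (c : Nat.card F = p * Nat.card M)
    (n1 : X ≤ normalizer (F : Set G)) (n2 : X ≤ normalizer (M : Set G)) : ⁅KK p X, F⁆ ≤ M := by
  have i : M.relIndex F = p := Nat.eq_of_mul_eq_mul_right Nat.card_pos ((relIndex_mul_card l).trans c)
  obtain ⟨Γ, _, _, f, -, f2, -⟩ := exists_quot (l.trans (le_sup_left : F ≤ F ⊔ X))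
    (sup_le (_root_.L.le_normalizer_of_relIndex_prime hF l (i ▸ hp.out)) n2)
  have d : Nat.card (im f F) = p := by
    have := card_eq_card_im_mul f (le_sup_left : F ≤ F ⊔ X)
    rw [f2, inf_eq_left.2 l, c] at this
    exact (Nat.eq_of_mul_eq_mul_right Nat.card_pos this).symm
  have x : X ≤ F ⊔ X := le_sup_right
  rw [← f2, ← im_le_centralizer_iff f (KK_le.trans x) le_sup_left, im_le_iff f (KK_le.trans x), KK_le_iff]
  refine ⟨(im_le_iff f (commutator_le_of_le x x)).1 ?_, fun y hy => (mem_pre f).2 ⟨x (pow_mem hy _), ?_⟩⟩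
  · rw [im_commutator f x x]
    exact H1.commutator_le_centralizer_of_isCyclic (isCyclic_of_prime_card d) (im_le_normalizer f n1)
  · have := H1.pow_mem_centralizer_of_card_prime hp.out d (im_le_normalizer f n1 (mem_im_of_mem f (x := ⟨y, x hy⟩) hy))
    rwa [← map_pow] at this

theorem kk_all (hF : IsPGroup p F) (a : A ≤ KK p X) (c : (Nat.card A).Coprime p) (n1 : X ≤ normalizer (F : Set G))
    (n2 : ∀ M ≤ F, Nat.card F = p * Nat.card M → X ≤ normalizer (M : Set G)) : F ≤ centralizer (A : Set G) := by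
  have n := (a.trans KK_le).trans n1
  refine cop_le_centralizer_of_Phi n (copA_of_p' hF c) fun x hx => H1.mem_Phi_of hF (commutator_le_left' n hx)
    fun M l e => kk_step hF l e n1 (n2 M l e) (commutator_mono a le_rfl ?_)
  rwa [commutator_comm]

theorem kk_cyc (hF : IsPGroup p F) (a : A ≤ KK p X) (c : (Nat.card A).Coprime p) (n1 : X ≤ normalizer (F : Set G))
    (h : IsCyclic F) : F ≤ centralizer (A : Set G) :=
  kk_all hF a c n1 fun _ l _ => n1.trans (_root_.L.normalizer_le_of_le_cyclic h l)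

theorem kk_cent (hQ : IsPGroup p Q) (a : A ≤ KK p X) (c : (Nat.card A).Coprime p) (n1 : X ≤ normalizer (Q : Set G))
    {k : ℕ} (k1 : 1 < p ^ k) (k2 : p ^ k < Nat.card Q)
    (h : ∀ E ≤ Q, Nat.card E = p ^ k ∨ (p ^ k = 2 ∧ Nat.card E = 4) → X ≤ normalizer (E : Set G)) :
    Q ≤ centralizer (A : Set G) := by
  have k3 : p ^ (k + 1) ≤ Nat.card Q := by
    obtain ⟨n, hn⟩ := _root_.L.exists_card_eq_pow hQ
    rw [hn] at k2 ⊢
    exact Nat.pow_le_pow_right hp.out.pos ((Nat.pow_lt_pow_iff_right hp.out.one_lt).1 k2)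
  have k4 : p ^ k ≤ p ^ (k + 1) := Nat.pow_le_pow_right hp.out.pos k.le_succ
  have s : ∀ E ≤ Q, Nat.card E = p ^ k → E ≤ centralizer (A : Set G) := fun E l e => by
    obtain ⟨F, f1, f2, f3⟩ := H1.exists_between hQ l (e.le.trans k4) k3
    by_cases y : IsCyclic F
    · exact kk_cyc (hQ.to_le l) a c (h E l (.inl e)) (isCyclic_of_le f1)
    refine f1.trans (kk_all (hQ.to_le f2) a c (le_normalizer_of_cj_le fun g hg => cj_le_iff.2 fun x hx => ?_)
      fun M m e => h M (m.trans f2) (.inl (Nat.eq_of_mul_eq_mul_left hp.out.pos (by rw [← e, f3, pow_succ']))))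
    obtain ⟨E, e1, e2, e3⟩ := H1.exists_between (hQ.to_le f2) (zpowers_le.2 hx)
      (H1.card_zpowers_le_of_not_cyclic f3 y hx) (f3 ▸ k4)
    rw [mem_cj, inv_inv]
    exact e2 (conj_mem_of_le_normalizer (h E (e2.trans f2) (.inl e3)) hg (e1 (mem_zpowers x)))
  have t : ∀ x ∈ Q, orderOf x ≤ p ^ k → x ∈ centralizer (A : Set G) := fun x hx o => by
    obtain ⟨E, e1, e2, e3⟩ := H1.exists_between hQ (zpowers_le.2 hx) (by rwa [Nat.card_zpowers]) k2.le
    exact s E e2 e3 (e1 (mem_zpowers x))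
  have k5 : p ≤ p ^ k := Nat.le_self_pow (by rintro rfl; simp at k1) p
  have n := (a.trans KK_le).trans n1
  by_cases p2 : p = 2
  · subst p2
    refine _root_.L.le_centralizer_of_omega_four c hQ n fun x hx e => ?_
    by_cases o : orderOf x ≤ 2 ^ k
    · exact t x hx o
    have o1 := orderOf_dvd_of_pow_eq_one e
    have o2 := Nat.le_of_dvd (by norm_num) o1
    have o3 : 2 ^ k = 2 := by
      rcases k with _ | _ | k
      · simp at k1
      · rfl
      · have : 0 < 2 ^ k := by positivity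
        rw [pow_succ, pow_succ] at o; omega
    have o4 : orderOf x = 4 := by
      have : orderOf x ≠ 3 := fun r => by rw [r] at o1; exact absurd o1 (by decide)
      omega
    have l := zpowers_le.2 hx
    exact kk_cyc (hQ.to_le l) a c (h _ l (.inr ⟨o3, by rwa [Nat.card_zpowers]⟩)) inferInstance (mem_zpowers x)
  · exact _root_.L.le_centralizer_of_omega_odd p2 c hQ n (_root_.L.omegaOne_le_iff.2 fun x hx e =>
      t x hx ((Nat.le_of_dvd hp.out.pos (orderOf_dvd_of_pow_eq_one e)).trans k5))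

/-- `E` is strongly closed in its normalizer with respect to `L`. -/
def HS (L E : Subgroup G) : Prop := ∀ g ∈ L, cj g E ⊓ normalizer (E : Set G) ≤ E

theorem HS.le_norm (h : HS L E) (hQ : IsPGroup p Q) (l : E ≤ Q) (l' : Q ≤ L) : Q ≤ normalizer (E : Set G) := by
  by_contra n
  obtain ⟨g, ⟨g1, g2⟩, g3⟩ := SetLike.exists_of_lt (lt_inf_normalizer_of_p hQ
    (inf_lt_left.2 n : Q ⊓ normalizer (E : Set G) < Q))
  exact g3 ⟨g1, mem_normalizer_of_cj_le ((le_inf le_rfl ((cj_le_of_nm g2 (le_inf l le_normalizer)).trans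
    inf_le_right)).trans (h g (l' g1)))⟩

theorem HS.norm (h : HS L E) (hQ : IsPGroup p Q) (l : E ≤ Q) (l' : Q ≤ L) :
    L ⊓ normalizer (Q : Set G) ≤ normalizer (E : Set G) := fun g hg =>
  mem_normalizer_of_cj_le ((le_inf le_rfl ((cj_le_of_nm hg.2 l).trans (h.le_norm hQ l l'))).trans (h g hg.1))

theorem HS.map {G' : Type*} [Group G'] {f : G →* G'} (hf : Function.Surjective f) (h : HS ⊤ E) (hE : IsPGroup p E) :
    HS ⊤ (E.map f) := by
  intro g _ x ⟨x1, x2⟩
  obtain ⟨g, rfl⟩ := hf g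
  rw [← map_cj] at x1
  obtain ⟨y, y1, rfl⟩ := x1
  have n : (E.map f).comap f ⊔ zpowers y ≤ normalizer (((E.map f).comap f : Subgroup G) : Set G) :=
    sup_le le_normalizer (zpowers_le.2 (comap_le_normalizer_comap f le_rfl x2))
  obtain ⟨R, r1, r2⟩ := exists_syl_ge hE ((le_comap_map f E).trans (le_sup_left (b := zpowers y)))
  obtain ⟨c, c1, c2⟩ := r1.exists_cj_le (isPGroup_zpowers_of_mem (isPGroup_cj g hE) y1) le_sup_right
  have := h (c * g) (mem_top _) ⟨(cj_mul c g E).ge (conj_mem_cj y1),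
    h.le_norm r1.isP r2 le_top (c2 (conj_mem_cj (mem_zpowers y)))⟩
  simpa [mul_assoc] using conj_mem_of_le_normalizer' n c1 (le_comap_map f E this)

theorem inf_Ores_le (hP : IsPGroup p P) (l : P ≤ L) : P ⊓ Ores p L ≤ ⁅L, L⁆ := by
  obtain ⟨Γ, _, _, f, -, f2, -⟩ := exists_quot (commutator_le_of_le le_rfl le_rfl : ⁅L, L⁆ ≤ L)
    (normalizer_commutator le_normalizer le_normalizer)
  obtain ⟨S, hS⟩ := exists_syl p (im f L)
  have n : NPC p (im f L) := npc_of_central_syl hS (inf_le_left.trans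
    (((im_le_centralizer_iff f le_rfl le_rfl).2 f2.ge).trans (centralizer_anti hS.le)))
  rw [← f2, ← im_eq_bot_iff f (inf_le_left.trans l)]
  exact eq_bot_of_p_p' (isPGroup_im f (hP.to_le inf_le_left)) (cop_of_le (Op'_cop p _) ((im_mono f inf_le_right).trans
    ((im_le_iff f (Ores_le p L)).2 (Ores_le_iff.2 fun Q a b =>
      (im_le_iff f a).1 (n.le_Op' (im_mono f a) (cop_im f b))))))

/-- the Skiba-type hypothesis -/
def Sk (L P : Subgroup G) : Prop := IsCyclic P ∨ ∃ D ≤ P, 1 < Nat.card D ∧ Nat.card D < Nat.card P ∧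
  ∀ E ≤ P, Nat.card E = Nat.card D ∨ (Nat.card D = 2 ∧ Nat.card E = 4) → HS L E

theorem Sk.npc (h : Sk L P) (hP : Syl p P L) (hm : ∀ q : ℕ, q.Prime → q ∣ Nat.card L → p ≤ q) : NPC p L := by
  rcases h with h | ⟨D, d1, d2, d3, h⟩
  · refine npc_of_central_syl hP ?_
    rw [← (hP.mono (le_inf hP.le le_normalizer) inf_le_left).Ores_sup]
    exact sup_le (Ores_le_iff.2 fun A a b => le_centralizer_iff.1 (kk_cyc hP.isP (a.trans (le_KK hm inf_le_left)) b
      inf_le_right h)) (le_centralizer_of_le_comm (IsCyclic.isMulCommutative) le_rfl le_rfl)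
  obtain ⟨k, hk⟩ := _root_.L.exists_card_eq_pow (hP.isP.to_le d1)
  rw [hk] at d2 d3 h
  refine npc_iff.2 (H2.tate_group hP.h2 ?_)
  rw [← Ores_eq_H2]
  refine fun x hx => H1.mem_Phi_of hP.isP hx.1 fun M m1 m2 => (rall_Rt_iff hP).1
    (alperin hP (frel_Rt M P L) fun Q q1 q2 g g1 g2 => ?_) ⟨hx.1, inf_Ores_le hP.isP hP.le hx⟩
  have hQ := hP.isP.to_le q1
  have i : M.relIndex P = p := Nat.eq_of_mul_eq_mul_right Nat.card_pos ((relIndex_mul_card m1).trans m2)
  suffices s : ⁅L ⊓ normalizer (Q : Set G), Q⁆ ≤ M from fun y hy => s (commutator_mem_commutator ⟨g1, g2⟩ hy)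
  have mn := _root_.L.le_normalizer_of_relIndex_prime hP.isP m1 (i ▸ hp.out)
  by_cases c : p ^ k < Nat.card Q
  · have o : Ores p (L ⊓ normalizer (Q : Set G)) ≤ centralizer (Q : Set G) := Ores_le_iff.2 fun A a b =>
      le_centralizer_iff.1 (kk_cent hQ (a.trans (le_KK hm inf_le_left)) b inf_le_right d2 c fun E e1 e2 =>
        (h E (e1.trans q1) e2).norm hQ e1 (q1.trans hP.le))
    refine le_trans ?_ (inf_le_right : Q ⊓ M ≤ M)
    rw [← q2.Ores_sup]
    refine commutator_sup_le (o.trans ((centralizer_anti inf_le_left).trans (centralizer_le_normalizer' _)))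
      (normalizer_inf inf_le_right (inf_le_left.trans mn))
      ((commutator_eq_bot_iff_le_centralizer.2 o).le.trans bot_le) (le_inf (commutator_le_right' inf_le_right)
      ((commutator_mono inf_le_left q1).trans (_root_.L.commutator_le_of_relIndex_prime hP.isP m1 le_rfl mn le_normalizer
        (i ▸ hp.out))))
  by_cases c' : Q ≤ M
  · exact (commutator_le_right' inf_le_right).trans c'
  have k3 : p ^ k ≤ Nat.card M := by
    have := _root_.L.mul_card_le_of_lt hP.isP (lt_of_le_of_ne d1 fun e => by rw [← e, hk] at d3; exact d3.false)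
    rw [hk, m2] at this
    exact Nat.le_of_mul_le_mul_left this hp.out.pos
  obtain ⟨E, e1, e2, e3⟩ := H1.exists_between (hP.isP.to_le m1) (inf_le_left : M ⊓ Q ≤ M)
    ((card_le_of_le' inf_le_right).trans (not_lt.1 c)) k3
  have he := h E (e2.trans m1) (.inl e3)
  refine ((commutator_mono (le_KK hm inf_le_left) le_rfl).trans (kk_step hQ (inf_le_right : M ⊓ Q ≤ Q) ?_
    inf_le_right (le_normalizer_of_cj_le fun g hg => ?_))).trans inf_le_left
  · rw [← relIndex_mul_card_inf M Q, _root_.L.relIndex_eq_of_le hQ c' (i ▸ relIndex_le_of_le_right q1 (i ▸ hp.out.ne_zero))]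
  · have := cj_le_of_nm hg.2 (inf_le_right : M ⊓ Q ≤ Q)
    exact le_inf (((le_inf (cj_mono g e1) (this.trans (q1.trans (he.le_norm hP.isP (e2.trans m1) hP.le)))).trans
      (he g hg.1)).trans e2) this

theorem Sk.ssc (h : Sk ⊤ P) (hP : IsPGroup p P) [P.Normal] : H1.SSC ⊥ P := by
  rcases h with h | ⟨D, d1, d2, d3, h⟩
  · exact H1.ssc_of_isCyclic h
  obtain ⟨k, hk⟩ := _root_.L.exists_card_eq_pow (hP.to_le d1)
  rw [hk] at d2 d3 h
  have o : Ores p (KK p ⊤) ≤ centralizer (P : Set G) := Ores_le_iff.2 fun A a b =>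
    le_centralizer_iff.1 (kk_cent hP a b le_normalizer_of_normal d2 d3 fun E e1 e2 =>
      (le_inf le_rfl le_normalizer_of_normal).trans ((h E e1 e2).norm hP e1 le_top))
  refine H1.ssc_of_forall inferInstance bot_le fun K _ _ l => ?_
  obtain ⟨Z, z1, z2⟩ := exists_chief_above l
  have := z2.2.1
  have hZ := hP.to_le z1
  have : (KK p (⊤ : Subgroup G)).Normal := ⟨fun x hx g => by
    have : g * x * g⁻¹ = ⁅g, x⁆ * x := by rw [commutatorElement_def]; group
    rw [this]
    exact mul_mem ((KK_le_iff.1 le_rfl).1 (commutator_mem_commutator (mem_top g) (mem_top x))) hx⟩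
  have c : ⁅KK p ⊤, Z⁆ ≤ K := (chief_le_or z2 (commutator_le_right _ _)).resolve_right fun e => by
    obtain ⟨S, hS⟩ := exists_syl p (KK p (⊤ : Subgroup G))
    have o' := o.trans (centralizer_anti z1)
    refine z2.1.not_ge (le_of_le_commutator_sup' hZ hS.isP le_normalizer_of_normal le_normalizer_of_normal
      le_normalizer_of_normal (e.trans (sup_le_sup_right ?_ _)))
    rw [← hS.Ores_sup]
    exact commutator_sup_le (o'.trans ((centralizer_anti (commutator_le_left _ _)).trans (centralizer_le_normalizer' _)))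
      (normalizer_commutator le_normalizer_of_normal le_normalizer)
      ((commutator_eq_bot_iff_le_centralizer.2 o').le.trans bot_le) (commutator_comm S Z).le
  have f := QuotientGroup.mk'_surjective K
  have b : ∀ X Y : Subgroup G, ⁅X, Y⁆ ≤ K → X.map (QuotientGroup.mk' K) ≤
      centralizer (Y.map (QuotientGroup.mk' K) : Set (G ⧸ K)) := fun X Y e => by
    rw [← commutator_eq_bot_iff_le_centralizer, ← map_commutator, Subgroup.map_eq_bot_iff, QuotientGroup.ker_mk']; exact e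
  have z3 := chief_map f z2 (QuotientGroup.ker_mk' K).le
  have := z3.2.1
  have c' := KK_le_iff.1 (map_le_iff_le_comap.1 (b _ _ c))
  obtain ⟨g, -, hg⟩ := H1.exists_le_sup_zpowers_of_isCyclic_map (QuotientGroup.mk' K)
    (H1.isCyclic_of_irreducible_of_pow (p := p) (A := ⊤)
      (_root_.L.comm_of_le_centralizer (b _ _ (chief_commutator_le z2 hZ hZ)))
      (by rintro _ ⟨a, ha, rfl⟩; rw [← map_pow]; exact (QuotientGroup.eq_one_iff _).2 (chief_pow_mem z2 hZ ha))
      le_normalizer_of_normal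
      (by rw [← map_top_of_surjective _ f, ← map_commutator]; exact map_le_iff_le_comap.2 c'.1)
      (fun a _ => by obtain ⟨a, rfl⟩ := f a; rw [← map_pow]; exact c'.2 a (mem_top a))
      fun N n1 n2 => by
        have e : K.map (QuotientGroup.mk' K) = ⊥ := (Subgroup.map_eq_bot_iff _).2 (QuotientGroup.ker_mk' K).ge
        rw [← e]
        exact z3.2.2.2 N (normalizer_eq_top_iff.1 (top_le_iff.1 n1)) (e ▸ bot_le) n2)
  rw [QuotientGroup.ker_mk'] at hg
  exact ⟨Z, z2.1, z1, H1.ssc_of_le_sup_zpowers inferInstance inferInstance z2.1.le hg⟩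

theorem Sk.tower (L : Subgroup G) : L ≠ ⊥ → (∀ (p : ℕ) [Fact p.Prime] P, Syl p P L → Sk ⊤ P) →
    ∃ q, ∃ _ : Fact (Nat.Prime q), ∃ Q, Syl q Q L ∧ Q ≠ ⊥ ∧ normalizer (L : Set G) ≤ normalizer (Q : Set G) := by
  induction L using WellFoundedLT.induction with | ind L ih =>
  intro n h
  have : Fact (Nat.card L).minFac.Prime := ⟨Nat.minFac_prime fun e => n (card_eq_one.1 e)⟩
  obtain ⟨p, hp⟩ : ∃ p, p = (Nat.card L).minFac := ⟨_, rfl⟩
  rw [← hp] at this
  obtain ⟨P, hP⟩ := exists_syl p L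
  have c : NPC p L := Sk.npc ((h p P hP).imp_right fun ⟨D, a, b, c, d⟩ => ⟨D, a, b, c, fun E e f g _ =>
    d E e f g (mem_top g)⟩) hP fun q a b => hp ▸ Nat.minFac_le_of_dvd a.two_le b
  by_cases o : Op' p L = ⊥
  · exact ⟨p, this, L, syl_self (c.isPGroup o), n, le_rfl⟩
  have s : ∀ (q : ℕ) [Fact q.Prime] Q, Syl q Q (Op' p L) → Q ≠ ⊥ → Syl q Q L := fun q _ Q a b =>
    a.trans_index (Op'_le p L) fun d => b (eq_bot_of_p_p' a.isP (cop_of_le (by
      have := relIndex_sup_of_le_normalizer (hP.le.trans (le_normalizer_Op' p L))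
      rw [sup_comm, c.eq_sup hP] at this
      obtain ⟨k, hk⟩ := _root_.L.exists_relIndex_eq_pow (N := Op' p L) hP.isP
      rw [this, hk] at d
      rw [(Nat.prime_dvd_prime_iff_eq Fact.out Fact.out).1 (Nat.Prime.dvd_of_dvd_pow Fact.out d)]
      exact Op'_cop p L) a.le))
  obtain ⟨q, _, Q, q1, q2, q3⟩ := ih (Op' p L) (lt_of_le_of_ne (Op'_le p L) fun e =>
    cop_iff.1 (e ▸ Op'_cop p L) (hp ▸ Nat.minFac_dvd _)) o fun q _ Q a => by
      by_cases b : Q = ⊥
      · exact .inl (b ▸ inferInstance)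
      · exact h q Q (s q Q a b)
  exact ⟨q, inferInstance, Q, s q Q q1 q2, q2, (normalizer_Op' le_rfl).trans q3⟩

theorem Sk.super (G : Type u) [Group G] [Finite G] : ∀ E : Subgroup G, E.Normal → H1.SSC E ⊤ →
    (∀ (p : ℕ) [Fact p.Prime] P, Syl p P E → Sk ⊤ P) → IsSupersolvable G := by
  refine card_induction (P := fun Δ _ _ => ∀ E : Subgroup Δ, E.Normal → H1.SSC E ⊤ →
    (∀ (p : ℕ) [Fact p.Prime] P, Syl p P E → Sk ⊤ P) → IsSupersolvable Δ) (fun G _ _ ih E _ s h => ?_) G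
  by_cases n : E = ⊥
  · exact H1.isSupersolvable_iff.2 (n ▸ s)
  obtain ⟨q, _, Q, q1, q2, q3⟩ := Sk.tower E n h
  have : Q.Normal := normalizer_eq_top_iff.1 (top_le_iff.1 (le_normalizer_of_normal.trans q3))
  have f := QuotientGroup.mk'_surjective Q
  refine H1.isSupersolvable_iff.2 (((h q Q q1).ssc q1.isP).trans (H1.ssc_of_quotient Q
    (ih ⊤ _ _ (onTop_surjective f) (card_quot_lt' q2) (E.map (QuotientGroup.mk' Q)) (Normal.map inferInstance _ f)
    (map_top_of_surjective _ f ▸ s.map f) fun p _ P' a => ?_)))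
  obtain ⟨P, p1, rfl⟩ := a.exists_of_map
  by_cases e : p = q
  · subst e
    obtain ⟨g, -, rfl⟩ := q1.conj p1
    rw [cj_eq_of_normal, (Subgroup.map_eq_bot_iff _).2 (QuotientGroup.ker_mk' Q).ge]
    exact .inl inferInstance
  have c : ∀ X ≤ P, Nat.card (X.map (QuotientGroup.mk' Q)) = Nat.card X := fun X l => by
    rw [card_eq_card_map_mul (QuotientGroup.mk' Q) X, QuotientGroup.ker_mk',
      inf_eq_bot_of_p_p' q1.isP (cop_of_isPGroup_ne e (p1.isP.to_le l)), card_bot, mul_one]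
  rcases h p P p1 with h | ⟨D, d1, d2, d3, h⟩
  · exact .inl (isCyclic_of_surjective _ ((QuotientGroup.mk' Q).subgroupMap_surjective P))
  refine .inr ⟨_, map_mono d1, by rwa [c D d1], by rwa [c D d1, c P le_rfl], fun F f1 f2 => ?_⟩
  rw [← map_comap_inf _ f1] at f2 ⊢
  rw [c D d1, c _ inf_le_right] at f2
  exact (h _ inf_le_right f2).map f (p1.isP.to_le inf_le_right)

end H9
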