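import Cfsg.Agent.H9.ES8
import Cfsg.Agent.H9.HS

/-!
H9.ES9: supersoluble fusion systems.
-/

set_option autoImplicit false
set_option linter.unusedSectionVars false

namespace H9

open Subgroup Cfsg
open scoped commutatorElement

section
variable {G : Type*} [Group G]

theorem cyc_step {C : Type*} [Group C] {Q T X : Subgroup G} (hT : T ≤ Q) (φ : Q →* C)
    (hc : IsCyclic ((T.subgroupOf Q).map φ)) (h : ∀ x : Q, (x : G) ∈ T → φ x = 1 → (x : G) ∈ X) :
    ∃ y ∈ T, T ≤ (X ⊓ T) ⊔ zpowers y := by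
  obtain ⟨g, hg, e⟩ := H1.exists_le_sup_zpowers_of_isCyclic_map φ hc
  refine ⟨g, hg, fun t ht => ?_⟩
  obtain ⟨k, hk, _, ⟨n, rfl⟩, e'⟩ := (mem_sup_of_le_normalizer' le_normalizer_of_normal).1
    (e (show (⟨t, hT ht⟩ : Q) ∈ T.subgroupOf Q from ht))
  have e2 : (k : G) * (g : G) ^ n = t := congrArg Subtype.val e'
  have hkT : (k : G) ∈ T := by
    rw [eq_mul_inv_of_mul_eq e2]; exact mul_mem ht (inv_mem (zpow_mem hg n))
  exact e2 ▸ mul_mem (mem_sup_left ⟨h k hkT hk, hkT⟩) (mem_sup_right ⟨n, rfl⟩)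

theorem inf_step {S X R : Subgroup G} {x : G} (hX : X ≤ S) (hn : S ≤ normalizer (X : Set G)) (hx : x ∈ S) :
    ∃ y ∈ (X ⊔ zpowers x) ⊓ R, (X ⊔ zpowers x) ⊓ R ≤ (X ⊓ R) ⊔ zpowers y := by
  haveI := H2.normal_subgroupOf_of hn
  have l : X ⊔ zpowers x ≤ S := sup_le hX (zpowers_le.2 hx)
  obtain ⟨y, a, b⟩ := cyc_step (X := X) (inf_le_left.trans l : (X ⊔ zpowers x) ⊓ R ≤ S)
    (QuotientGroup.mk' (X.subgroupOf S)) (H1.isCyclic_map_of_le_sup_zpowers _ (g := ⟨x, hx⟩) (by
      rw [QuotientGroup.ker_mk', ← map_le_map_iff_of_injective S.subtype_injective, Subgroup.map_sup,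
        map_subgroupOf_eq_of_le hX, MonoidHom.map_zpowers, subgroupOf_map_subtype]
      exact inf_le_left.trans inf_le_left)) fun y _ e => (QuotientGroup.eq_one_iff y).1 e
  exact ⟨y, a, b.trans (sup_le_sup_right (inf_le_inf_left _ inf_le_right) _)⟩

/-- coprime automorphism groups are abelian of exponent dividing `p - 1` -/
def AutC (p : ℕ) (K : Type*) [Group K] : Prop :=
  ∀ H : Subgroup (MulAut K), (Nat.card H).Coprime p → IsMulCommutative H ∧ ∀ h ∈ H, h ^ (p - 1) = 1

theorem autC_iff {p : ℕ} : AutC p G ↔ ∀ H : Subgroup (MulAut G), (Nat.card H).Coprime p → KK p H = ⊥ := by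
  refine forall₂_congr fun H _ => ?_
  rw [← le_bot_iff, KK_le_iff, le_bot_iff, comm_iff_commutator]; rfl

theorem map_KK {G' : Type*} [Group G'] (f : G →* G') (p : ℕ) (X : Subgroup G) : (KK p X).map f = KK p (X.map f) := by
  rw [KK, KK, Subgroup.map_sup, map_commutator, MonoidHom.map_closure]
  congr 2
  ext y
  exact ⟨fun ⟨_, ⟨x, hx, e⟩, e'⟩ => ⟨_, mem_map_of_mem f hx, by rw [← map_pow, e, e']⟩,
    fun ⟨_, ⟨x, hx, e⟩, e'⟩ => ⟨_, ⟨x, hx, rfl⟩, by rw [map_pow, e, e']⟩⟩

theorem AutC.equiv {p : ℕ} {G' : Type*} [Group G'] (h : AutC p G) (e : G ≃* G') : AutC p G' :=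
  autC_iff.2 fun H hH => by
    have f := (MulAut.congr e.symm).injective
    have := autC_iff.1 h (H.map (MulAut.congr e.symm).toMonoidHom) (by rwa [card_map_of_injective f])
    rwa [← map_KK, map_eq_bot_iff_of_injective _ f] at this

instance KK_top_normal (p : ℕ) : (KK p (⊤ : Subgroup G)).Normal := ⟨fun x hx g => by
  have : g * x * g⁻¹ = ⁅g, x⁆ * x := by rw [commutatorElement_def]; group
  rw [this]
  exact mul_mem ((KK_le_iff.1 le_rfl).1 (commutator_mem_commutator (mem_top g) (mem_top x))) hx⟩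

end

variable {G : Type*} [Group G] [Finite G] {p : ℕ} [hp : Fact p.Prime] {A P Q T U : Subgroup G}

theorem ssc_cent (h : H1.SSC ⊥ Q) (hQ : IsPGroup p Q) (hA : (Nat.card A).Coprime p)
    (hK : ∀ N M : Subgroup G, N.Normal → M.Normal → N ≤ M → M ≤ Q → Nat.card M = p * Nat.card N → ⁅M, A⁆ ≤ N) :
    A ≤ centralizer (Q : Set G) := by
  haveI := h.normal
  obtain ⟨n, hn⟩ := L.exists_card_eq_pow hQ
  refine H1.le_centralizer_of_chief (hn ▸ hA.pow_right n) fun N _ l => ?_
  obtain ⟨M, a, b, c, d⟩ := h.exists_normal_prime_between l le_rfl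
  refine ⟨M, a, H1.lt_of_prime_relIndex b d, c, hK N M inferInstance a b c ?_⟩
  obtain ⟨k, hk⟩ := L.exists_relIndex_eq_pow (N := N) (hQ.to_le c)
  rw [← relIndex_mul_card b, ← (Nat.prime_dvd_prime_iff_eq d hp.out).1 (d.dvd_of_dvd_pow (dvd_of_eq hk))]

theorem ssc_kk (h : H1.SSC ⊥ Q) (hQ : IsPGroup p Q) : Ores p (KK p ⊤) ≤ centralizer (Q : Set G) :=
  Ores_le_iff.2 fun _ a b => ssc_cent h hQ b fun N M _ _ l m c => by
    rw [commutator_comm]
    exact (commutator_mono a le_rfl).trans (kk_step (hQ.to_le m) l c (top_le_normalizer M) (top_le_normalizer N))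

theorem ssc_ncl (h : H1.SSC ⊥ Q) (hQ : IsPGroup p Q) (hU : IsPGroup p U)
    (hc : IsPGroup p (centralizer (Q : Set G))) : U ≤ Op p ⊤ :=
  Tr.le_Op (D := Q) (fun _ a b => (le_centralizer_iff''.1 (ssc_cent h hQ b fun N M _ _ l m c =>
    (commutator_mono le_rfl a).trans (commutator_ncl_le (comm1_le (hQ.to_le m) l hU c.le) (top_le_normalizer M)
      (top_le_normalizer N) (le_top.trans (top_le_normalizer N))))).le) hc

theorem ssc_of_kk (hP : IsPGroup p P) [P.Normal] (o : Ores p (KK p ⊤) ≤ centralizer (P : Set G)) :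
    H1.SSC ⊥ P := by
  refine H1.ssc_of_forall inferInstance bot_le fun K _ _ l => ?_
  obtain ⟨Z, z1, z2⟩ := exists_chief_above l
  have := z2.2.1
  have hZ := hP.to_le z1
  have c : ⁅KK p ⊤, Z⁆ ≤ K := (chief_le_or z2 (commutator_le_right _ _)).resolve_right fun e => by
    obtain ⟨S, hS⟩ := exists_syl p (KK p (⊤ : Subgroup G))
    have o' := o.trans (centralizer_anti z1)
    refine z2.1.not_ge (le_of_le_commutator_sup' hZ hS.isP le_normalizer_of_normal le_normalizer_of_normal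
      le_normalizer_of_normal (e.trans (sup_le_sup_right ?_ _)))
    rw [← hS.Ores_sup]
    exact commutator_sup_le (o'.trans ((centralizer_anti (commutator_le_left _ _)).trans (centralizer_le_normalizer' _)))
      (normalizer_commutator le_normalizer_of_normal le_normalizer)
      ((commutator_eq_bot_iff_le_centralizer.2 o').le.trans bot_le) (commutator_comm S Z).le
  have f := QuotientGroup.mk'_surjective K
  have b : ∀ X Y : Subgroup G, ⁅X, Y⁆ ≤ K → X.map (QuotientGroup.mk' K) ≤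
      centralizer (Y.map (QuotientGroup.mk' K) : Set (G ⧸ K)) := fun X Y e => by
    rw [← commutator_eq_bot_iff_le_centralizer, ← map_commutator, Subgroup.map_eq_bot_iff, QuotientGroup.ker_mk']; exact e
  have z3 := chief_map f z2 (QuotientGroup.ker_mk' K).le
  have := z3.2.1
  have c' := KK_le_iff.1 (map_le_iff_le_comap.1 (b _ _ c))
  obtain ⟨g, -, hg⟩ := H1.exists_le_sup_zpowers_of_isCyclic_map (QuotientGroup.mk' K)
    (H1.isCyclic_of_irreducible_of_pow (p := p) (A := ⊤)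
      (L.comm_of_le_centralizer (b _ _ (chief_commutator_le z2 hZ hZ)))
      (by rintro _ ⟨a, ha, rfl⟩; rw [← map_pow]; exact (QuotientGroup.eq_one_iff _).2 (chief_pow_mem z2 hZ ha))
      le_normalizer_of_normal
      (by rw [← map_top_of_surjective _ f, ← map_commutator]; exact map_le_iff_le_comap.2 c'.1)
      (fun a _ => by obtain ⟨a, rfl⟩ := f a; rw [← map_pow]; exact c'.2 a (mem_top a))
      fun N n1 n2 => by
        have e : K.map (QuotientGroup.mk' K) = ⊥ := (Subgroup.map_eq_bot_iff _).2 (QuotientGroup.ker_mk' K).ge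
        rw [← e]
        exact z3.2.2.2 N (normalizer_eq_top_iff.1 (top_le_iff.1 n1)) (e ▸ bot_le) n2)
  rw [QuotientGroup.ker_mk'] at hg
  exact ⟨Z, z2.1, z1, H1.ssc_of_le_sup_zpowers inferInstance inferInstance z2.1.le hg⟩

theorem ker_conjNormal (T : Subgroup G) [T.Normal] :
    (MulAut.conjNormal : G →* MulAut T).ker = centralizer (T : Set G) := by
  ext g
  rw [MonoidHom.mem_ker, MulEquiv.ext_iff]
  exact ⟨fun a y hy => eq_mul_inv_iff_mul_eq.1 (congrArg Subtype.val (a ⟨y, hy⟩)).symm, fun a x =>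
    Subtype.ext (by rw [MulAut.conjNormal_apply, ← a _ x.2, mul_inv_cancel_right]; rfl)⟩

theorem AutC.ssc [T.Normal] (h : AutC p T) (hT : Syl p T ⊤) (hc : centralizer (T : Set G) ≤ T) : H1.SSC ⊥ T := by
  obtain ⟨H, -, -, e, c⟩ := H1.exists_complement_rel (le_top : T ≤ ⊤) (top_le_normalizer T) (by
    obtain ⟨n, hn⟩ := L.exists_card_eq_pow hT.isP
    exact hn ▸ (cop_iff.2 hT.not_dvd).symm.pow_left n)
  have c' : (Nat.card H).Coprime p := c ▸ cop_iff.2 hT.not_dvd
  have k := autC_iff.1 h (H.map MulAut.conjNormal) (cop_map _ c')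
  rw [← map_KK, Subgroup.map_eq_bot_iff, ker_conjNormal] at k
  have k2 : KK p ⊤ ≤ T := by
    rw [← QuotientGroup.ker_mk' T, ← Subgroup.map_eq_bot_iff, map_KK, ← e, Subgroup.map_sup,
      (Subgroup.map_eq_bot_iff T).2 (QuotientGroup.ker_mk' T).ge, sup_bot_eq, ← map_KK, Subgroup.map_eq_bot_iff,
      QuotientGroup.ker_mk']
    exact k.trans hc
  exact ssc_of_kk hT.isP (Ores_le_iff.2 fun A a b => (eq_bot_of_p_p' (hT.isP.to_le (a.trans k2)) b).le.trans bot_le)

end H9

namespace FG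

open Subgroup Cfsg Equiv H2
open scoped commutatorElement

universe u

variable {Ω : Type u} [Group Ω] {S R X Z : Subgroup Ω} {F : FusionSystem S} {p : ℕ} [hp : Fact p.Prime] [Finite S]

/-- `X` is reached by a chain of strongly closed subgroups with cyclic steps -/
inductive SS (F : FusionSystem S) : Subgroup Ω → Prop
  | bot : SS F ⊥
  | step {X : Subgroup Ω} {x : Ω} : SS F X → x ∈ S → F.StronglyClosed (X ⊔ zpowers x) → SS F (X ⊔ zpowers x)

theorem SS.sc (h : SS F X) : F.StronglyClosed X := by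
  cases h
  exacts [sc_bot F, ‹_›]

theorem ss_iff : SS F X ↔ ∃ (m : ℕ) (c : Fin (m + 1) → Subgroup Ω), c 0 = ⊥ ∧ c (Fin.last m) = X ∧
    (∀ i, F.StronglyClosed (c i)) ∧
      ∀ i : Fin m, c i.castSucc ≤ c i.succ ∧ ∃ x ∈ S, c i.succ = c i.castSucc ⊔ zpowers x := by
  constructor
  · intro h
    induction h with
    | bot => exact ⟨0, fun _ => ⊥, rfl, rfl, fun _ => sc_bot F, fun i => i.elim0⟩
    | @step X x _ h1 h2 ih =>
      obtain ⟨n, T, k1, k2, k3, k4⟩ := ih
      refine ⟨n + 1, Fin.snoc T (X ⊔ zpowers x), by simpa using k1, by simp, fun i => ?_, fun i => ?_⟩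
      · refine Fin.lastCases ?_ (fun j => ?_) i
        · simpa using h2
        · simpa using k3 j
      · refine Fin.lastCases ?_ (fun j => ?_) i
        · exact ⟨by simp [k2], x, h1, by simp [k2]⟩
        · rw [Fin.succ_castSucc, Fin.snoc_castSucc, Fin.snoc_castSucc]; exact k4 j
  · rintro ⟨n, T, k1, k2, k3, k4⟩
    have : ∀ i, SS F (T i) := fun i => by
      induction i using Fin.induction with
      | zero => exact k1 ▸ SS.bot
      | succ i ih =>
        obtain ⟨-, x, a, b⟩ := k4 i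
        exact b ▸ ih.step a (b ▸ k3 _)
    exact k2 ▸ this _

theorem SS.ssc {M : Type*} [Group M] {f : Ω → M} (h : SS F X) (hf : HomOn R f)
    (hn : ∀ Z, F.StronglyClosed Z → (img f (Z ⊓ R)).Normal) : H1.SSC ⊥ (img f (X ⊓ R)) := by
  induction h with
  | bot => rw [bot_inf_eq, img_bot hf.map_one]; exact .refl inferInstance
  | @step X x h0 h1 h2 ih =>
    obtain ⟨y, a, b⟩ := H9.inf_step (R := R) h0.sc.1 (sc_normalizer h0.sc) h1
    have l := zpowers_le.2 a.2
    refine ih.trans (H1.ssc_of_le_sup_zpowers ih.normal (hn _ h2) (img_mono f (inf_le_inf_right R le_sup_left))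
      (g := f y) ?_)
    rw [← (hf.mono l).img_zpowers, ← (hf.mono (sup_le inf_le_right l)).img_sup]
    exact img_mono f b

theorem SS.img {Ω' : Type*} [Group Ω'] {S' : Subgroup Ω'} {F' : FusionSystem S'} {θ : S →* Ω'} (h : SS F X)
    (k : SurjM F F' θ) (hF : Sat p F) : haveI := k.finite; SS F' (img (fn θ) X) := by
  have := k.finite
  induction h with
  | bot => rw [img_bot (homOn_fn θ).map_one]; exact .bot
  | @step X x h0 h1 h2 ih =>
    have e := k.sc_img hF h2
    rw [((homOn_fn θ).mono h2.1).img_sup, ((homOn_fn θ).mono (zpowers_le.2 h1)).img_zpowers] at e ⊢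
    exact ih.step (k.mem h1) e

theorem LocM.normal_img {M : Type*} [Group M] [Finite M] {ι : (S ⊓ normalizer (R : Set Ω) : Subgroup Ω) →* M}
    (h : LocM p F R ι) (hR : R ≤ S) (hZ : F.StronglyClosed Z) : (img (fn ι) (Z ⊓ R)).Normal := by
  have l : R ≤ S ⊓ normalizer (R : Set Ω) := le_inf hR le_normalizer
  haveI : (img (fn ι) R).Normal := h.core ▸ H9.normal_of_top_le (H9.le_normalizer_Op p ⊤)
  refine ⟨fun y hy g => ?_⟩
  obtain ⟨x, hx, rfl⟩ := (mem_img_fn (inf_le_right.trans l)).1 hy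
  have c : ∀ x ∈ R, g * fn ι x * g⁻¹ ∈ img (fn ι) R := fun x hx => Normal.conj_mem inferInstance _ (mem_img_of_mem hx) g
  obtain ⟨σ, a, b⟩ := h.mor R l g fun x hx => range_eq_img_fn ι ▸ img_mono _ l (c x hx)
  rw [← (b x hx.2).2]
  exact mem_img_of_mem ⟨sc_apply hZ a hx.2 hx.1, (h.mem l (b x hx.2).1).1 ((b x hx.2).2 ▸ c x hx.2)⟩

theorem SS.normal (h : SS F S) (hF : Sat p F) : F.IsNormal S := hF.normal_top_of fun R h1 h2 h3 => by
  by_contra n
  obtain ⟨M, _, _, ι, m⟩ := loc_model hF h1 h2 h3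
  have s := h.ssc ((homOn_fn ι).mono (le_inf h1.1 le_normalizer)) fun Z => m.normal_img h1.1
  rw [inf_eq_right.2 h1.1, ← m.core] at s
  exact m.not_le hF.pg h1.1 (fun e => n e.ge) (H9.ssc_ncl s (H9.Op_p p ⊤) m.syl.isP ((H9.Op_p p ⊤).to_le m.cons))

theorem ss_group (h : ∀ F : FusionSystem S, Sat p F → SS F S) {M : Type*} [Group M] [Finite M] {T : Subgroup M}
    (hT : H9.Syl p T ⊤) (e : S ≃* T) : SS (groupFusionSystem T) T := by
  have hθ : Function.Injective (S.subtype.comp e.symm.toMonoidHom) := S.subtype_injective.comp e.symm.injective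
  obtain ⟨F, k⟩ := exists_factor (S' := S) (groupFusionSystem T) (S.subtype.comp e.symm.toMonoidHom) (by
    rw [MonoidHom.range_comp, MonoidHom.range_eq_top.2 e.symm.surjective, ← MonoidHom.range_eq_map, range_subtype])
    (by rw [pre_bot_of_inj hθ]; exact wc_of_sc (sc_bot _))
  rw [pre_bot_of_inj hθ, iso_iff] at k
  have s := k.sat (sat_group' hT.h2)
  obtain ⟨θ, k', -⟩ := k.exists_symm
  have := (h F s).img k'.toSurjM s
  rwa [k'.toSurjM.img_top] at this

theorem SS.ssc_group {M : Type*} [Group M] [Finite M] {T Q : Subgroup M} [Q.Normal] (h : SS (groupFusionSystem T) T)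
    (hQ : Q ≤ T) : H1.SSC ⊥ Q := by
  have := h.ssc (R := Q) (f := fun x => x) (fun _ _ _ _ => rfl) fun Z hZ => by
    rw [img_id]
    exact H9.normal_of_top_le (sc_sub_normalizer hQ (H9.top_le_normalizer Q) (group_eq_sub T ▸ hZ))
  rwa [img_id, inf_eq_right.2 hQ] at this

theorem autC_of_ss (hS : IsPGroup p S) (h : ∀ F : FusionSystem S, Sat p F → SS F S) : H9.AutC p S :=
  H9.autC_iff.2 fun H hH => by
    obtain ⟨Γ, _, _, i, j, a, b, c, d, e, _⟩ := H1.exists_ambient H.subtype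
    have hi : IsPGroup p i.range := hS.of_surjective _ i.rangeRestrict_surjective
    have hj : (Nat.card j.range).Coprime p := by rwa [← Nat.card_congr (MonoidHom.ofInjective b).toEquiv]
    have hT : H9.Syl p i.range ⊤ := ⟨le_top, hi, fun k => H9.cop_iff.1 hj (by
      rw [← e, relIndex_sup_right] at k
      exact k.trans (relIndex_dvd_card _ _))⟩
    have s := H9.Ores_le_iff.1 (H9.ssc_kk ((ss_group h hT (MonoidHom.ofInjective a)).ssc_group le_rfl) hi)
      (H9.KK p j.range) (H9.KK_le_iff.2 ⟨(commutator_mono le_top le_top).trans (H9.KK_le_iff.1 le_rfl).1,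
        fun x _ => (H9.KK_le_iff.1 le_rfl).2 x trivial⟩) (H9.cop_of_le hj H9.KK_le)
    rw [MonoidHom.range_eq_map j, ← H9.map_KK] at s
    nth_rw 1 [← H.range_subtype]
    rw [MonoidHom.range_eq_map, ← H9.map_KK, eq_bot_iff]
    rintro _ ⟨x, hx, rfl⟩
    refine MulEquiv.ext fun k => a ?_
    rw [← c, ← s (mem_map_of_mem j hx) _ ⟨k, rfl⟩, mul_inv_cancel_right]
    rfl

theorem ss_of_model (hF : Sat p F) (hN : F.IsNormal S) (h : ∀ (M : Type u) [Group M] [Finite M] (T : Subgroup M)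
    [T.Normal], S ≃* T → H9.Syl p T ⊤ → centralizer (T : Set M) ≤ T → H1.SSC ⊥ T) : SS F S := by
  obtain ⟨M, _, _, ι, m⟩ := loc_model hF (fn_top F) (centric_top F) hF.radical_top
  obtain ⟨e, -⟩ := m.equiv le_rfl
  have l : S ⊓ normalizer (S : Set Ω) = S := inf_eq_left.2 le_normalizer
  have r : ι.range = H9.Op p ⊤ := by rw [m.core, range_eq_img_fn]; exact congrArg _ l
  haveI : (H9.Op p (⊤ : Subgroup M)).Normal := H9.normal_of_top_le (H9.le_normalizer_Op p ⊤)
  have key : ∀ Y, H1.SSC ⊥ Y → Y ≤ ι.range → SS F (pre ι Y) := fun Y hY => by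
    induction hY with
    | refl => exact fun _ => (pre_bot_of_inj m.inj).symm ▸ .bot
    | step Y g _ hn ih =>
      intro k
      obtain ⟨x, rfl⟩ := k (mem_sup_right (mem_zpowers g))
      have a : pre ι Y ⊔ zpowers (x : Ω) ≤ S ⊓ normalizer (S : Set Ω) := sup_le (pre_le _ _) (zpowers_le.2 x.2)
      have b : pre ι (Y ⊔ zpowers (ι x)) = pre ι Y ⊔ zpowers (x : Ω) := by
        rw [← pre_img_of_le (θ := ι) a (by rw [pre_bot_of_inj m.inj]; exact bot_le), ((homOn_fn ι).mono a).img_sup,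
          ((homOn_fn ι).mono (zpowers_le.2 x.2)).img_zpowers, img_pre (le_sup_left.trans k), fn_coe]
      refine b ▸ (ih (le_sup_left.trans k)).step x.2.1 (b ▸ sc_of_autExt le_rfl (fun P hP σ hσ =>
        normal_autExt hN hσ hP) ((pre_le _ _).trans inf_le_left) fun α hα y hy => ?_)
      obtain ⟨g, hg⟩ := m.conj α hα
      have c := mem_pre.1 hy
      exact mem_pre.2 ⟨l.ge (Aut.mem hα c.1.1), hg y c.1.1 ▸ hn.conj_mem _ c.2 g⟩
  have := key _ (r ▸ h M _ e (r ▸ m.syl) m.cons) le_rfl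
  rwa [pre_range, l] at this

theorem all_ss_iff (hS : IsPGroup p S) : (∀ F : FusionSystem S, F.IsSaturated p → SS F S) ↔
    (∀ F : FusionSystem S, F.IsSaturated p → F.IsNormal S) ∧ H9.AutC p S :=
  ⟨fun h => ⟨fun F hF => (h F hF).normal ⟨hS, hF⟩, autC_of_ss hS fun F hF => h F hF.2⟩, fun h F hF =>
    ss_of_model ⟨hS, hF⟩ (h.1 F hF) fun _ _ _ _ _ e => (h.2.equiv e).ssc⟩

end FG
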