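import Cfsg.Agent.H9.ES9

/-!
H9.ESa: abelian `p`-groups with distinct invariants.
-/

set_option autoImplicit false
set_option linter.unusedSectionVars false

namespace H9

open Subgroup Cfsg Multiplicative
open scoped commutatorElement

variable {G : Type*} [Group G] {p : ℕ} [hp : Fact p.Prime]

/-- `K` has a repeated invariant -/
def Dbl (p : ℕ) (K : Type*) [Group K] : Prop := ∃ (n : ℕ) (H : Type) (_ : CommGroup H), 0 < n ∧
  Nonempty (K ≃* (Multiplicative (ZMod (p ^ n)) × Multiplicative (ZMod (p ^ n))) × H)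

theorem Dbl.equiv {G' : Type*} [Group G'] (h : Dbl p G) (e : G' ≃* G) : Dbl p G' :=
  let ⟨n, H, i, a, ⟨b⟩⟩ := h; ⟨n, H, i, a, ⟨e.trans b⟩⟩

/-- the rotation and the swap -/
def rot (C H : Type*) [CommGroup C] [CommGroup H] (k : ℤ) : MulAut ((C × C) × H) where
  toFun x := ((x.1.2⁻¹, x.1.1 * x.1.2 ^ k), x.2)
  invFun x := ((x.1.2 * x.1.1 ^ k, x.1.1⁻¹), x.2)
  left_inv x := by simp
  right_inv x := by simp
  map_mul' x y := by simp [mul_zpow, mul_comm, mul_left_comm, mul_assoc]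

theorem not_autC_prod {C H : Type*} [CommGroup C] [CommGroup H] [Finite ((C × C) × H)] (c : C) (c1 : c ≠ 1)
    (c2 : p ≠ 2 → c * c ≠ 1) : ¬ AutC p ((C × C) × H) := fun k => by
  have k := autC_iff.1 k
  rcases eq_or_ne p 2 with rfl | p2
  · have h3 : rot C H (-1) ^ 3 = 1 := by ext x <;> simp [rot, pow_succ]
    have := (KK_le_iff.1 (k (zpowers (rot C H (-1))) (by
      rw [Nat.card_zpowers]
      exact Nat.Coprime.coprime_dvd_left (orderOf_dvd_of_pow_eq_one h3) (by decide))).le).2 _ (mem_zpowers _)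
    have := congrArg (fun f : MulAut ((C × C) × H) => (f ((c, 1), 1)).1.1) (mem_bot.1 this)
    exact c1 (by simpa [rot] using this.symm)
  · let s : MulAut ((C × C) × H) := MulEquiv.prodCongr MulEquiv.prodComm (MulEquiv.refl H)
    have hs : ∀ x, s x = ((x.1.2, x.1.1), x.2) := fun _ => rfl
    haveI : Fact (Nat.Prime 2) := ⟨Nat.prime_two⟩
    have h4 : rot C H 0 ^ 2 ^ 2 = 1 := by ext x <;> simp [rot, pow_succ]
    have h2 : s ^ 2 ^ 1 = 1 := by ext x <;> simp [hs, pow_succ]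
    have h1 : s * rot C H 0 * s⁻¹ = (rot C H 0)⁻¹ := by
      rw [mul_inv_eq_iff_eq_mul, eq_inv_mul_iff_mul_eq]
      ext x <;> simp [hs, rot]
    have z : ∀ (f : MulAut ((C × C) × H)) m, f ^ 2 ^ m = 1 → IsPGroup 2 (zpowers f) := fun f m hf =>
      let ⟨_, _, b⟩ := (Nat.dvd_prime_pow Nat.prime_two).1 (orderOf_dvd_of_pow_eq_one hf)
      IsPGroup.of_card (by rw [Nat.card_zpowers, b])
    have := (KK_le_iff.1 (k (zpowers (rot C H 0) ⊔ zpowers s) (cop_of_isPGroup_ne p2.symm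
      ((z _ _ h4).to_sup_of_normal_left' (z _ _ h2) (zpowers_le.2 (mem_normalizer_of_cj_le (by
        rw [cj_zpowers, h1, zpowers_inv])))))).le).1
      (commutator_mem_commutator (mem_sup_right (mem_zpowers s)) (mem_sup_left (mem_zpowers _)))
    rw [mem_bot, commutatorElement_def, h1, ← mul_inv_rev, inv_eq_one] at this
    have := congrArg (fun f : MulAut ((C × C) × H) => (f ((c, 1), 1)).1.1) this
    exact c2 p2 (by simpa [rot, inv_eq_iff_mul_eq_one] using this)

theorem Dbl.not_autC [Finite G] (h : Dbl p G) : ¬ AutC p G := fun k => by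
  obtain ⟨n, H, _, a, ⟨e⟩⟩ := h
  haveI := Finite.of_equiv _ e.toEquiv
  haveI : Fact (1 < p ^ n) := ⟨Nat.one_lt_pow a.ne' hp.out.one_lt⟩
  refine not_autC_prod (ofAdd (1 : ZMod (p ^ n))) (by simp) (fun p2 h => p2 ?_) (k.equiv e)
  exact (Nat.prime_dvd_prime_iff_eq hp.out Nat.prime_two).1 ((dvd_pow_self p a.ne').trans
    ((ZMod.natCast_eq_zero_iff 2 _).1 (by simpa [one_add_one_eq_two] using congrArg toAdd h)))

theorem cyc_root {a k : ℕ} {x y : Multiplicative (ZMod (p ^ a))} (e : y ^ p ^ k = x) (h : x ^ p = 1)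
    (h' : a = k + 1 → x = 1) : ∃ z, z ^ p ^ (k + 1) = x := by
  haveI : NeZero (p ^ a) := ⟨pow_ne_zero _ hp.out.ne_zero⟩
  rcases lt_trichotomy a (k + 1) with l | l | l
  · refine ⟨1, ?_⟩
    obtain ⟨m, rfl⟩ := Nat.exists_eq_add_of_le (Nat.lt_succ_iff.1 l)
    rw [one_pow, ← e, pow_add, pow_mul, show y ^ p ^ a = 1 by simpa using pow_card_eq_one' (x := y), one_pow]
  · exact ⟨1, by rw [one_pow, h' l]⟩
  · obtain ⟨m, rfl⟩ := Nat.exists_eq_add_of_lt l
    obtain ⟨j, hj⟩ := mem_zp_pow (a := ofAdd (1 : ZMod (p ^ (k + 1 + m + 1)))) (k := k + 1 + m)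
      (by simp [ZMod.addOrderOf_one]) (x := x) ⟨(toAdd x).val, by simp [← ofAdd_zsmul]⟩ h
    refine ⟨(ofAdd 1 ^ p ^ m) ^ j, ?_⟩
    rw [← hj]
    simp only [← zpow_natCast, ← zpow_mul]
    congr 1
    push_cast
    ring

theorem dist_hom [Finite G] (hG : IsPGroup p G) (hab : IsMulCommutative G) (h : ¬ Dbl p G) (k : ℕ) :
    ∃ (a : ℕ) (φ : G →* Multiplicative (ZMod (p ^ a))), ∀ x y : G, y ^ p ^ k = x → x ^ p = 1 → φ x = 1 →
      ∃ z, z ^ p ^ (k + 1) = x := by
  classical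
  letI : CommGroup G := { ‹Group G› with mul_comm := hab.1.1 }
  obtain ⟨ι, _, n, h1, ⟨e⟩⟩ := CommGroup.equiv_prod_multiplicative_zmod_of_finite G
  obtain ⟨a, rfl⟩ : ∃ a : ι → ℕ, n = fun i => p ^ a i := by
    refine ⟨fun i => _, funext fun i => Classical.choose_spec (p := fun a => n i = p ^ a) ?_⟩
    haveI : NeZero (n i) := ⟨(zero_lt_one.trans (h1 i)).ne'⟩
    obtain ⟨m, hm⟩ := IsPGroup.iff_card.1 (hG.of_surjective ((Pi.evalMonoidHom _ i).comp e.toMonoidHom)
      ((Function.surjective_eval i).comp e.surjective))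
    exact ⟨m, by simpa using hm⟩
  have key : ∀ x y : G, y ^ p ^ k = x → x ^ p = 1 → (∀ i, a i = k + 1 → e x i = 1) → ∃ z, z ^ p ^ (k + 1) = x :=
    fun x y h1 h2 h3 => by
      choose z hz using fun i => cyc_root (x := e x i) (y := e y i) (by rw [← h1, map_pow]; rfl)
        (by rw [← Pi.pow_apply, ← map_pow, h2, map_one]; rfl) (h3 i)
      exact ⟨e.symm z, e.injective (by rw [map_pow, e.apply_symm_apply]; exact funext hz)⟩
  by_cases c : ∃ i, a i = k + 1
  · obtain ⟨i, hi⟩ := c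
    refine ⟨a i, (Pi.evalMonoidHom _ i).comp e.toMonoidHom, fun x y h1 h2 h3 => key x y h1 h2 fun j hj => ?_⟩
    obtain rfl : j = i := by
      by_contra ne
      let C := fun l => Multiplicative (ZMod (p ^ a l))
      let f : (∀ l, C l) →* (C i × C j) × ∀ l : {l // l ≠ i ∧ l ≠ j}, C l :=
        ((Pi.evalMonoidHom C i).prod (Pi.evalMonoidHom C j)).prod (Pi.monoidHom fun l => Pi.evalMonoidHom C l)
      have f1 : Function.Bijective f := ⟨fun u v w => funext fun l => by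
        by_cases b : l = i
        · exact b ▸ congrArg (·.1.1) w
        by_cases b' : l = j
        · exact b' ▸ congrArg (·.1.2) w
        exact congrFun (congrArg (·.2) w) ⟨l, b, b'⟩, fun ⟨⟨u, v⟩, w⟩ =>
        ⟨Function.update (Function.update (fun l => if b : l ≠ i ∧ l ≠ j then w ⟨l, b⟩ else 1) i u) j v, by
          ext l
          · simp [f, Ne.symm ne]
          · simp [f]
          · simp [f, Pi.monoidHom, l.2.1, l.2.2]⟩⟩
      have q : C j ≃* C i := by simp only [C]; rw [hi, hj]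
      exact h ⟨a i, _, inferInstance, by omega, ⟨(e.trans (MulEquiv.ofBijective f f1)).trans
        (((MulEquiv.refl _).prodCongr q).prodCongr (MulEquiv.refl _))⟩⟩
    exact h3
  · exact ⟨0, 1, fun x y h1 h2 _ => key x y h1 h2 fun i hi => (c ⟨i, hi⟩).elim⟩

theorem ssc_abelian [Finite G] {Q : Subgroup G} [Q.Normal] (hQ : IsPGroup p Q) (hab : IsMulCommutative Q)
    (h : ¬ Dbl p Q) : H1.SSC ⊥ Q := by
  have m := fun n => (pow_hom_ab hab n).1
  have t : ∀ k, H1.SSC (omegaOne p Q ⊓ mho (p ^ k) Q) (omegaOne p Q) := fun k => by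
    induction k with
    | zero =>
      rw [inf_eq_left.2 fun x hx => (m _ x).2 ⟨x, L.omegaOne_le p Q hx, by simp⟩]
      exact .refl inferInstance
    | succ k ih =>
      obtain ⟨a, φ, hφ⟩ := dist_hom hQ hab h k
      haveI : NeZero (p ^ a) := ⟨pow_ne_zero _ hp.out.ne_zero⟩
      obtain ⟨y, -, b⟩ := cyc_step (X := omegaOne p Q ⊓ mho (p ^ (k + 1)) Q) (inf_le_right.trans (mho_le _ Q) :
        omegaOne p Q ⊓ mho (p ^ k) Q ≤ Q) φ inferInstance fun x hx e => by
          obtain ⟨y, c, d⟩ := (m _ _).1 hx.2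
          obtain ⟨z, hz⟩ := hφ x ⟨y, c⟩ (Subtype.ext d) (Subtype.ext (((pow_hom_ab hab p).2.1 _).1 hx.1).2) e
          exact ⟨hx.1, (m _ _).2 ⟨z, z.2, congrArg Subtype.val hz⟩⟩
      refine (H1.ssc_of_le_sup_zpowers inferInstance inferInstance (inf_le_inf_left _ fun y hy => ?_)
        (b.trans (sup_le_sup_right inf_le_left _))).trans ih
      obtain ⟨x, a, rfl⟩ := (m _ y).1 hy
      exact (m _ _).2 ⟨x ^ p, pow_mem a p, by rw [← pow_mul, pow_succ']⟩
  obtain ⟨n, hn⟩ := L.exists_card_eq_pow hQ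
  have s := t n
  rw [show omegaOne p Q ⊓ mho (p ^ n) Q = ⊥ from le_bot_iff.1 fun y hy => by
    obtain ⟨x, a, rfl⟩ := (m _ y).1 hy.2
    exact hn ▸ congrArg Subtype.val (pow_card_eq_one' (x := (⟨x, a⟩ : Q)))] at s
  exact ssc_of_kk hQ (Ores_le_iff.2 fun A a b => le_centralizer_iff.1 (le_centralizer_of_omega_comm b hQ hab
    (le_top.trans (top_le_normalizer Q)) (le_centralizer_iff.1
      (Ores_le_iff.1 (ssc_kk s (hQ.to_le (L.omegaOne_le p Q))) A a b))))

end H9

namespace FG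

open Subgroup Cfsg H2

variable {Ω : Type*} [Group Ω] {S : Subgroup Ω} {F : FusionSystem S} {p : ℕ} [hp : Fact p.Prime] [Finite S]

theorem ss_abelian (hF : Sat p F) (hab : IsMulCommutative S) (h : ¬ H9.Dbl p S) : SS F S :=
  ss_of_model hF (hF.normal_top_of_abelian fun _ a _ b => H1.comm_of_mem hab a b) fun _ _ _ _ _ e a _ =>
    H9.ssc_abelian a.isP (H9.comm_of_equiv e hab) fun k => h (k.equiv e)

end FG
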