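import Cfsg.Agent.H9.ESa
import Cfsg.Agent.H2.Meta2
import Cfsg.Agent.H2.MaxC

/-!
H9.ESb: strongly closed metacyclic `2`-subgroups.
-/

set_option autoImplicit false
set_option linter.unusedSectionVars false

namespace H9

open Subgroup Cfsg Multiplicative
open scoped commutatorElement

variable {G : Type*} [Group G]

theorem meta_map {G' : Type*} [Group G'] (f : G →* G') {R : Subgroup G} (h : FT.Meta R) : FT.Meta (R.map f) := by
  obtain ⟨a, b, h1, rfl⟩ := h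
  exact ⟨f a, f b, MonoidHom.map_zpowers f a ▸ map_le_normalizer_map f h1, by
    rw [Subgroup.map_sup, MonoidHom.map_zpowers, MonoidHom.map_zpowers]⟩

theorem meta_inj {G' : Type*} [Group G'] [Finite G] [Finite G'] (h : IsMetacyclic G') (f : G →* G')
    (hf : Function.Injective f) : FT.Meta (⊤ : Subgroup G) :=
  map_top_of_surjective (MonoidHom.ofInjective hf).symm.toMonoidHom (MonoidHom.ofInjective hf).symm.surjective ▸
    meta_map _ (FT.meta_top_iff.2 (FT.meta_iff.1 ((FT.meta_top_iff.2 h).le le_top)))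

/-- dihedral, semidihedral or quaternion -/
def DSQ (K : Type*) [Group K] : Prop :=
  (∃ n : ℕ, 2 ≤ n ∧ Nonempty (K ≃* DihedralGroup n)) ∨ IsQuasiDihedral K ∨ ∃ n : ℕ, 2 ≤ n ∧ Nonempty (K ≃* QuaternionGroup n)

variable [Finite G] {P D U : Subgroup G}

theorem dsq_of_cent (hG : IsPGroup 2 G) (h8 : 4 < Nat.card G) {x : G} (hx : Nat.card (centralizer {x}) ≤ 2 ^ 2) :
    DSQ G := by
  obtain ⟨n, hn⟩ := IsPGroup.iff_card.1 hG
  obtain ⟨n, rfl⟩ := Nat.exists_eq_add_of_le' ((Nat.pow_lt_pow_iff_right one_lt_two (n := 2)).1 (hn ▸ h8))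
  obtain ⟨a, b, h1, h2, h3, h4⟩ := L.dqs_of_max_class hn
    ((L.nilpotencyClass_eq_iff (n := n + 1) hn).1 (L.max_class_of_centralizer (n + 1) hn x hx))
  rcases h4.equiv h1 h2 h3 with ⟨-, -, e⟩ | e | ⟨-, e⟩
  exacts [.inl ⟨_, Nat.le_self_pow (by omega) 2, e⟩, .inr (.inr ⟨_, Nat.le_self_pow (by omega) 2, e⟩), .inr (.inl e)]

theorem Meta.comm_le_Phi (h : FT.Meta U) (hU : IsPGroup 2 U) (hD : D ≤ U) (hn : U ≤ normalizer (D : Set G))
    (hab : IsMulCommutative D) (h2 : ∀ u ∈ U, u ^ 2 ∈ D) (hr : ∀ x ∈ D, x ^ 2 = 1 → x ∈ L.Phi D) (hne : ¬ U ≤ D) :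
    ∃ t ∈ U, t ∉ D ∧ ⁅D, zpowers t⁆ ≤ L.Phi D := by
  obtain ⟨a, b, h1, e⟩ := h
  have ha : a ∈ U := e.le (mem_sup_left (mem_zpowers a))
  by_cases c : a ∈ D
  · obtain ⟨t, ht, ht'⟩ := SetLike.not_le_iff_exists.1 hne
    refine ⟨t, ht, ht', (commutator_mono (hD.trans e.ge) ((zpowers_le.2 ht).trans e.ge)).trans
      ((H1.commutator_sup_le_of_abelian inferInstance inferInstance).trans
        ((commutator_mono le_rfl (le_sup_right.trans e.le)).trans fun y hy => ?_))⟩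
    obtain ⟨k, rfl⟩ : ∃ i : ℕ, a ^ i = y := mem_powers_iff_mem_zpowers.2 (commutator_le_left' h1 hy)
    rcases k.even_or_odd' with ⟨k, rfl | rfl⟩
    · rw [pow_mul']; exact L.pow_mem_Phi (hU.to_le hD) (pow_mem c k)
    by_cases a1 : a = 1
    · rw [a1, one_pow]; exact one_mem _
    refine ((commutator_lt_of_p (hU.to_le (zpowers_le.2 ha)) hU h1 (by simpa using a1)).not_ge
      (zpowers_le.2 (zpowers_le.2 hy (mem_zpowers_pow_iff.2 ?_)))).elim
    obtain ⟨m, hm⟩ := IsPGroup.iff_orderOf.1 hU ⟨a, ha⟩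
    rw [← orderOf_coe] at hm
    exact hm ▸ Nat.Coprime.pow_right m (by simp)
  · refine ⟨a, ha, c, ?_⟩
    rw [commutator_comm, zpowers_eq_closure]
    refine L.commutator_closure_le (fun s hs => hs ▸ L.normalizer_Phi hn ha) fun s hs x hx => hs ▸ ?_
    have c1 : ⁅a, x⁆ ∈ zpowers a := commutator_le_left' h1 (commutator_mem_commutator (mem_zpowers a) (hD hx))
    have c2 : ⁅a, x⁆ ∈ D := commutator_le_right' hn (commutator_mem_commutator ha hx)
    obtain ⟨k, hk⟩ := c1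
    refine hr _ c2 ?_
    rw [← L.commutatorElement_pow_left (by rw [← hk]; exact ((Commute.refl a).zpow_right k).eq) 2]
    exact commutatorElement_eq_one_iff_mul_comm.2 (H1.comm_of_mem hab (h2 a ha) hx)

theorem rd_meta (hP : IsPGroup 2 P) (hm : FT.Meta P) (hc : centralizer (Op 2 (⊤ : Subgroup G) : Set G) ≤ Op 2 ⊤)
    (hn : Op 2 ⊤ ≤ normalizer (P : Set G)) [D.Normal] (hD : D = P ⊓ Op 2 ⊤) (hne : ¬ P ≤ Op 2 ⊤) :
    P ⊓ centralizer (D : Set G) ≤ D ∧ (Nat.card D = 2 ^ 2 ∨ Nat.card D = 2 ^ 3 ∧ ¬ IsMulCommutative D) := by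
  set Q := Op 2 (⊤ : Subgroup G)
  have hQ : IsPGroup 2 Q := Op_p 2 ⊤
  haveI : Q.Normal := normal_of_top_le (le_normalizer_Op 2 ⊤)
  have l : D ≤ P := hD ▸ inf_le_left
  have dp := hP.to_le l
  have nD : ∀ X : Subgroup G, X ≤ normalizer (D : Set G) := fun X => le_top.trans (top_le_normalizer D)
  have k0 : ∀ U ≤ P, (∀ A ≤ ncl U ⊤, (Nat.card A).Coprime 2 → D ≤ centralizer (A : Set G)) → U ≤ Q := fun U a h =>
    Tr.le_Op (D := Q) (fun A b c => (le_centralizer_iff'.1 (cop_le_centralizer (le_top.trans (top_le_normalizer Q))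
      (copA_of_p' hQ c) ((Tr.startN.stepN D hQ (hD ▸ le_inf ((commutator_mono le_rfl a).trans (commutator_le_right' hn))
        (commutator_le_left _ _))) A b c) (h A b c))).le) (hQ.to_le hc)
  haveI : (L.Phi D).Normal := normal_of_top_le (L.normalizer_Phi (nD _))
  have k1 : ∀ t ∈ P, ⁅D, zpowers t⁆ ≤ L.Phi D → t ∈ D := fun t a h => hD ▸ ⟨a, zpowers_le.1 (k0 _ (zpowers_le.2 a)
    fun A b c => cop_le_centralizer_of_Phi (nD _) (copA_of_p' dp c) (Tr.startN.stepN _ dp h A b c))⟩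
  refine ⟨fun t ht => k1 t ht.1 ((le_centralizer_iff''.1 (zpowers_le.2 ht.2)).le.trans bot_le), ?_⟩
  obtain ⟨N, _, c1, c2⟩ := FT.meta_iff.1 (hm.le l)
  rcases Cfsg.Agent.H2.meta_two dp c1 c2 (fun h => hne (k0 P le_rfl fun A _ c => le_centralizer_iff.1 (by
    rw [← ker_conjNormal, ← Subgroup.map_eq_bot_iff]
    exact eq_bot_of_p_p' (h.to_subgroup _) (cop_map _ c)))) with ⟨⟨e⟩⟩ | ⟨n, ⟨e⟩⟩
  · exact .inr ⟨by rw [Nat.card_congr e.toEquiv, Nat.card_eq_fintype_card]; rfl, fun h =>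
      absurd ((comm_of_equiv e h).1.1 (.a 1) (.xa 0)) (by decide)⟩
  refine .inl (by_contra fun c => ?_)
  have n1 : n ≠ 0 + 1 := by rintro rfl; exact c (by rw [Nat.card_congr e.toEquiv]; simp)
  obtain ⟨t, t1, t2, t3, -⟩ := L.exists_central_mod_pow hP (lt_of_le_not_ge l fun h => hne (h.trans (hD ▸ inf_le_right)))
    le_rfl (nD _) le_normalizer
  have lU : D ⊔ zpowers t ≤ P := sup_le l (zpowers_le.2 t1)
  obtain ⟨s, s1, s2, s3⟩ := Meta.comm_le_Phi (hm.le lU) (hP.to_le lU) le_sup_left (nD _)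
    (comm_of_equiv e.symm ⟨⟨mul_comm⟩⟩) (fun u hu => by
      obtain ⟨d, hd, _, ⟨k, rfl⟩, rfl⟩ := (mem_sup_of_le_normalizer' (nD _)).1 hu
      rw [show (d * t ^ k) ^ 2 = d * (t ^ k * d * (t ^ k)⁻¹) * (t ^ 2) ^ k by
        rw [← zpow_natCast t, ← zpow_mul, mul_comm _ k, zpow_mul, zpow_natCast, pow_two, pow_two]; group]
      exact mul_mem (mul_mem hd (Normal.conj_mem inferInstance _ hd _)) (zpow_mem t3 k))
    (fun x hx h => by
      have h' : e ⟨x, hx⟩ ^ 2 = 1 := by rw [← map_pow, show (⟨x, hx⟩ : D) ^ 2 = 1 from Subtype.ext h, map_one]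
      obtain ⟨y, hy⟩ := cyc_root (k := 0) (x := (e ⟨x, hx⟩).1) (pow_one _) (congrArg Prod.fst h') fun h => (n1 h).elim
      obtain ⟨z, hz⟩ := cyc_root (k := 0) (x := (e ⟨x, hx⟩).2) (pow_one _) (congrArg Prod.snd h') fun h => (n1 h).elim
      have : e.symm (y, z) ^ 2 = ⟨x, hx⟩ := e.injective (by rw [map_pow, e.apply_symm_apply]; exact Prod.ext hy hz)
      exact (show (e.symm (y, z) : G) ^ 2 = x from congrArg Subtype.val this) ▸ L.pow_mem_Phi dp (e.symm (y, z)).2)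
    fun h => t2 (h (mem_sup_right (mem_zpowers t)))
  exact s2 (k1 s (lU s1) s3)

end H9

namespace FG

open Subgroup Cfsg H2

variable {Ω : Type*} [Group Ω] {S P : Subgroup Ω} {F : FusionSystem S} [Finite S]

theorem sc_meta (hF : Sat 2 F) (hP : F.StronglyClosed P) (hm : IsMetacyclic P) (h : ¬ H9.DSQ P) : F.IsNormal P := by
  refine hF.normal_of_wc (wc_of_sc hP) fun R h1 h2 h3 => by_contra fun n => h ?_
  obtain ⟨M, _, _, ι, m⟩ := loc_model hF h1 h2 h3
  have := finite_of_le hP.1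
  have l : P ⊓ normalizer (R : Set Ω) ≤ S ⊓ normalizer (R : Set Ω) := inf_le_inf_right _ hP.1
  have lR : R ≤ S ⊓ normalizer (R : Set Ω) := le_inf h1.1 le_normalizer
  have hι := homOn_fn ι
  have nP := h1.1.trans (sc_normalizer hP)
  have := finite_of_le (inf_le_left : P ⊓ normalizer (R : Set Ω) ≤ P)
  haveI := m.normal_img h1.1 hP
  have l2 : P ⊓ R ≤ P ⊓ normalizer (R : Set Ω) := inf_le_inf_left _ le_normalizer
  obtain ⟨a, b⟩ := H9.rd_meta (P := img (fn ι) (P ⊓ normalizer (R : Set Ω))) (D := img (fn ι) (P ⊓ R))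
    ((hι.mono l).isPGroup_img (hF.pg.to_le (inf_le_left.trans hP.1))) (by
      rw [(hι.mono l).img_eq_range, MonoidHom.range_eq_map]
      exact H9.meta_map _ (H9.meta_inj hm (inclusion inf_le_left) (inclusion_injective _))) m.cons
    (by
      rw [m.core]
      refine le_normalizer_of_conj fun _ hx' _ hy' => ?_
      obtain ⟨x, hx, rfl⟩ := (mem_img_fn lR).1 hx'
      obtain ⟨y, hy, rfl⟩ := (mem_img_fn l).1 hy'
      rw [← hι.map_conj (lR hx) (l hy)]
      exact mem_img_of_mem (H9.conj_mem_of_le_normalizer (H9.normalizer_inf nP (le_normalizer.trans le_normalizer)) hx hy))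
    (by
      rw [m.core]
      refine le_antisymm (le_inf (img_mono _ l2) (img_mono _ inf_le_right)) fun y hy => ?_
      obtain ⟨x, hx, rfl⟩ := (mem_img_fn l).1 hy.1
      exact mem_img_of_mem ⟨hx.1, (m.mem lR (l hx)).1 hy.2⟩)
    fun k => n (le_of_inf_normalizer_le hF.pg h1.1 hP.1 nP fun x hx =>
      (m.mem lR (l hx)).1 (m.core ▸ k (mem_img_of_mem hx)))
  rw [← m.img_cent l (l2.trans l)] at a
  have c : P ⊓ centralizer ((P ⊓ R : Subgroup Ω) : Set Ω) ≤ R := le_of_inf_normalizer_le hF.pg h1.1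
    (inf_le_left.trans hP.1) (H9.normalizer_inf nP (H9.normalizer_centralizer (H9.normalizer_inf nP le_normalizer)))
    fun x hx => (m.le_of (inf_le_left.trans l) (l2.trans l) a ⟨⟨hx.1.1, hx.2⟩, hx.1.2⟩).2
  have c' : centralizer (R.subgroupOf P : Set P) ≤ R.subgroupOf P := fun x hx =>
    c ⟨x.2, fun y hy => congrArg Subtype.val (hx ⟨y, hy.1⟩ hy.2)⟩
  have d : Nat.card (R.subgroupOf P) = Nat.card (img (fn ι) (P ⊓ R)) := by
    rw [m.card_img (l2.trans l), ← H9.card_map_subtype, subgroupOf_map_subtype, inf_comm]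
  have pg := hF.pg.to_le hP.1
  have lt : Nat.card (R.subgroupOf P) < Nat.card P := by
    rw [← card_top (G := P)]; exact H9.card_lt_of_lt (lt_top_iff_ne_top.2 fun e => n (subgroupOf_eq_top.1 e))
  rw [← d] at b
  rcases b with b | ⟨b, b'⟩
  · obtain ⟨x, -, hx⟩ := L.exists_centralizer_le_of_selfcent pg b c'
    exact H9.dsq_of_cent pg (by omega) (b ▸ card_le_of_le hx)
  · obtain ⟨x, hx⟩ := exists_cent_of_cube pg b (fun k => b' (L.comm_of_le_centralizer (img_le_iff.2 fun x hx =>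
      (m.mem_cent (l2.trans l) (l (l2 hx))).2 fun y hy =>
        congrArg Subtype.val (H1.comm_of_mem k (x := ⟨y, hy.1⟩) (y := ⟨x, hx.1⟩) hy.2 hx.2)))) c'
    exact H9.dsq_of_cent pg (by omega) hx

end FG
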