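import Cfsg.Agent.S0127
import Cfsg.Agent.S0016
import Cfsg.Agent.S3975

/-!
H9.Kul: Kulakoff's theorem for odd p.
-/

set_option autoImplicit false

namespace H9.Kul

open Subgroup Finset

variable {G : Type*} [Group G] [Finite G] {p : ℕ} [hp : Fact p.Prime]

open Classical in
/-- subgroups of given order inside `X` -/
noncomputable def sb (X : Subgroup G) (n : ℕ) : Finset (Subgroup G) :=
  (Set.toFinite {K : Subgroup G | K ≤ X ∧ Nat.card K = n}).toFinset

theorem mem_sb {X K : Subgroup G} {n : ℕ} : K ∈ sb X n ↔ K ≤ X ∧ Nat.card K = n := by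
  simp [sb]

theorem sb_card (X : Subgroup G) (n : ℕ) : (sb X n).card = Nat.card {H : Subgroup X // Nat.card H = n} := by
  rw [sb, ← Nat.card_eq_card_finite_toFinset]
  refine (Nat.card_congr (Equiv.ofBijective (fun H => ⟨H.1.map X.subtype, map_subtype_le _, by
    rw [card_map_of_injective X.subtype_injective]; exact H.2⟩) ⟨fun a b h => Subtype.ext
      (map_injective X.subtype_injective (congrArg Subtype.val h)), fun K => ⟨⟨K.1.subgroupOf X, by
        rw [Nat.card_congr (subgroupOfEquivOfLe K.2.1).toEquiv]; exact K.2.2⟩,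
        Subtype.ext (map_subgroupOf_eq_of_le K.2.1)⟩⟩)).symm

theorem sb_top (n : ℕ) : (sb (⊤ : Subgroup G) n).card = Nat.card {H : Subgroup G // Nat.card H = n} := by
  rw [sb, ← Nat.card_eq_card_finite_toFinset]
  exact Nat.card_congr (Equiv.subtypeEquivRight fun K => by simp)

theorem sb_one {X : Subgroup G} {k : ℕ} (h : p ^ k ∣ Nat.card X) : ((sb X (p ^ k)).card : ZMod p) = 1 := by
  rw [sb_card, ← Nat.cast_one, ZMod.natCast_eq_natCast_iff]
  exact Cfsg.Agent.S3975.result p k hp.out h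

theorem sb_cyc {X : Subgroup G} (hc : IsCyclic X) {k : ℕ} (h : p ^ k ∣ Nat.card X) : (sb X (p ^ k)).card = 1 := by
  classical
  have h1 := sb_one h
  refine le_antisymm (card_le_one.mpr fun A hA B hB => ?_) (Nat.pos_of_ne_zero fun h0 => by simp [h0] at h1)
  rw [mem_sb] at hA hB
  haveI := Fintype.ofFinite X
  have key : ∀ A : Subgroup G, A ≤ X → Nat.card A = p ^ k →
      (Set.toFinite ((A.subgroupOf X : Subgroup X) : Set X)).toFinset = univ.filter fun x : X => x ^ p ^ k = 1 := by
    intro A h1 h2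
    refine eq_of_subset_of_card_le (fun x hx => ?_) ((IsCyclic.card_pow_eq_one_le (pow_pos hp.out.pos k)).trans ?_)
    · rw [Set.Finite.mem_toFinset] at hx
      refine mem_filter.mpr ⟨mem_univ _, Subtype.ext ?_⟩
      rw [← h2]
      exact congrArg (fun y : A => (y : G)) (pow_card_eq_one' (G := A) (x := ⟨x, hx⟩))
    · rw [← Nat.card_eq_card_finite_toFinset, ← h2]
      exact (Nat.card_congr (subgroupOfEquivOfLe h1).toEquiv).ge
  have := Set.Finite.toFinset_inj.mp ((key A hA.1 hA.2).trans (key B hB.1 hB.2).symm)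
  rw [← map_subgroupOf_eq_of_le hA.1, ← map_subgroupOf_eq_of_le hB.1, SetLike.coe_injective this]

theorem pm {a b : ℕ} (h : (a : ZMod p) = b) : (p : ZMod (p ^ 2)) * a = p * b := by
  rw [← Nat.cast_mul, ← Nat.cast_mul, ZMod.natCast_eq_natCast_iff, sq]
  exact ((ZMod.natCast_eq_natCast_iff _ _ _).mp h).mul_left' p

theorem pp : (p : ZMod (p ^ 2)) ^ 2 = 0 := by rw [← Nat.cast_pow, ZMod.natCast_self]

theorem sandwich {M X Y : Subgroup G} {n : ℕ} (h1 : M ≤ X) (h2 : X ≤ Y) (hM : Nat.card M = p ^ n)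
    (hY : Nat.card Y = p ^ (n + 1)) : X = M ∨ X = Y := by
  obtain ⟨j, hj, e⟩ := (Nat.dvd_prime_pow hp.out).mp (hY ▸ card_dvd_of_le h2)
  have h3 := card_dvd_of_le h1
  rw [hM, e, Nat.pow_dvd_pow_iff_le_right hp.out.one_lt] at h3
  rcases (show j = n ∨ j = n + 1 by omega) with rfl | rfl
  · exact Or.inl (eq_of_le_of_card_ge h1 (by rw [hM, e])).symm
  · exact Or.inr (eq_of_le_of_card_ge h2 (by rw [hY, e]))

/-- the dual group -/
abbrev Dl (G : Type*) [Group G] (p : ℕ) := G →* Multiplicative (ZMod p)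

instance : Finite (Dl G p) := Finite.of_injective _ (DFunLike.coe_injective (F := Dl G p))

/-- annihilator -/
def Ann (p : ℕ) (K : Subgroup G) : Subgroup (Dl G p) where
  carrier := {l | K ≤ l.ker}
  one_mem' := fun _ _ => rfl
  mul_mem' := fun {a b} ha hb x hx => by
    rw [MonoidHom.mem_ker, MonoidHom.mul_apply, ha hx, hb hx, mul_one]
  inv_mem' := fun {a} ha x hx => by rw [MonoidHom.mem_ker, MonoidHom.inv_apply, ha hx, inv_one]

theorem cardM : Nat.card (Multiplicative (ZMod p)) = p := by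
  rw [Nat.card_congr Multiplicative.toAdd, Nat.card_zmod]

theorem dl_pow (l : Dl G p) : l ^ p = 1 := by
  ext x
  rw [MonoidHom.pow_apply]
  have := pow_card_eq_one' (x := l x)
  rw [cardM] at this
  rw [this]; rfl

theorem dl_ord {l : Dl G p} (h : l ≠ 1) : orderOf l = p := orderOf_eq_prime (dl_pow l) h

theorem ker_index {l : Dl G p} (h : l ≠ 1) : l.ker.index = p := by
  have h1 := card_subgroup_dvd_card l.range
  rw [cardM, ← index_ker] at h1
  exact ((Nat.dvd_prime hp.out).mp h1).resolve_left fun h2 => h (MonoidHom.ker_eq_top_iff.mp (index_eq_one.mp h2))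

theorem ann_card (hG : IsPGroup p G) {K : Subgroup G} (hK : K ≠ ⊤) : ∃ d, Nat.card (Ann p K) = p ^ (d + 1) := by
  have hP : IsPGroup p (Ann p K) := fun l => ⟨1, Subtype.ext (by rw [pow_one]; exact dl_pow l.1)⟩
  obtain ⟨d, hd⟩ := hP.exists_card_eq
  obtain ⟨M, hM, hKM⟩ := (eq_top_or_exists_le_coatom K).resolve_left hK
  haveI := hG.isNilpotent
  haveI := Subgroup.NormalizerCondition.normal_of_coatom M Group.normalizerCondition_of_isNilpotent hM
  haveI : Nontrivial (G ⧸ M) := QuotientGroup.nontrivial_iff.mpr hM.1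
  obtain ⟨n, hn, e⟩ := (hG.to_quotient M).nontrivial_iff_card.mp inferInstance
  obtain ⟨x, hx⟩ := exists_prime_orderOf_dvd_card' (G := G ⧸ M) p (e ▸ dvd_pow_self p hn.ne')
  have h1 : (zpowers x).comap (QuotientGroup.mk' M) = ⊤ := hM.2 _ (lt_of_le_of_ne (QuotientGroup.le_comap_mk' M _)
    fun h => by
      obtain ⟨g, rfl⟩ := QuotientGroup.mk'_surjective M x
      have : g ∈ M := h ▸ mem_comap.mpr (mem_zpowers _)
      rw [QuotientGroup.mk'_apply, (QuotientGroup.eq_one_iff g).mpr this, orderOf_one] at hx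
      exact hp.out.one_lt.ne hx)
  have h2 : Nat.card (G ⧸ M) = p := by
    rw [← card_top, ← hx, ← Nat.card_zpowers, ← map_top_of_surjective _ (QuotientGroup.mk'_surjective M), ← h1,
      map_comap_eq_self_of_surjective (QuotientGroup.mk'_surjective M)]
  let f := mulEquivOfPrimeCardEq h2 (cardM (p := p))
  let l : Dl G p := f.toMonoidHom.comp (QuotientGroup.mk' M)
  have hl : l ∈ Ann p K := fun g hg => by
    show f (g : G ⧸ M) = 1
    rw [(QuotientGroup.eq_one_iff g).mpr (hKM hg), map_one]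
  cases d with
  | succ d => exact ⟨d, hd⟩
  | zero =>
    rw [pow_zero, Subgroup.card_eq_one] at hd
    rw [hd, Subgroup.mem_bot] at hl
    refine absurd (eq_top_iff.mpr fun g _ => (QuotientGroup.eq_one_iff g).mp (f.map_eq_one_iff.mp ?_)) hM.1
    exact DFunLike.congr_fun hl g

theorem dl_card (hG : IsPGroup p G) (hc : ¬ IsCyclic G) : p ^ 2 ∣ Nat.card (Dl G p) := by
  have hb : (⊥ : Subgroup G) ≠ ⊤ := fun h => hc (by
    haveI := (Subgroup.subsingleton_iff).mp (subsingleton_of_bot_eq_top h); infer_instance)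
  obtain ⟨d, hd⟩ := ann_card hG hb
  have h0 : Ann p (⊥ : Subgroup G) = ⊤ := eq_top_iff.mpr fun l _ => (bot_le : ⊥ ≤ l.ker)
  rw [h0, card_top] at hd
  cases d with
  | succ d => rw [hd]; exact pow_dvd_pow p (by omega)
  | zero =>
    exfalso
    haveI : Nontrivial (Dl G p) := Finite.one_lt_card_iff_nontrivial.mp (by rw [hd]; simpa using hp.out.one_lt)
    obtain ⟨l, hl⟩ := exists_ne (1 : Dl G p)
    obtain ⟨g, hg⟩ : ∃ g, l g ≠ 1 := by
      by_contra h; push Not at h; exact hl (MonoidHom.ext h)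
    obtain ⟨e, he⟩ := ann_card hG (K := zpowers g) fun h => hc (isCyclic_iff_exists_zpowers_eq_top.mpr ⟨g, h⟩)
    have : Ann p (zpowers g) = ⊤ := eq_top_of_le_card _ (by
      rw [hd, he]; exact Nat.pow_le_pow_right hp.out.pos (by omega))
    have h3 : l ∈ Ann p (zpowers g) := this ▸ mem_top l
    exact hg (h3 (mem_zpowers g))

theorem ann_max {K : Subgroup G} {n : ℕ} (hG : Nat.card G = p ^ (n + 1)) (hK : Nat.card K = p ^ n) :
    Nat.card (Ann p K) = p := by
  have hK' : K ≠ ⊤ := fun h => by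
    rw [h, card_top, hG] at hK; exact absurd (Nat.pow_right_injective hp.out.two_le hK) (by omega)
  obtain ⟨d, hd⟩ := ann_card (IsPGroup.of_card hG) hK'
  obtain ⟨g, hg⟩ : ∃ g, g ∉ K := by
    by_contra h; push Not at h; exact hK' (eq_top_iff.mpr fun g _ => h g)
  have : Nat.card (Ann p K) ≤ p := by
    refine (Nat.card_le_card_of_injective (fun l : Ann p K => l.1 g) fun a b h => ?_).trans cardM.le
    rcases sandwich (X := (a.1 * b.1⁻¹).ker) (Y := ⊤) ((Ann p K).mul_mem a.2 ((Ann p K).inv_mem b.2)) le_top hK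
      (by rw [card_top, hG]) with h1 | h1
    · refine absurd (h1 ▸ ?_) hg
      rw [MonoidHom.mem_ker, MonoidHom.mul_apply, MonoidHom.inv_apply, mul_inv_eq_one]; exact h
    · exact Subtype.ext (mul_inv_eq_one.mp (MonoidHom.ker_eq_top_iff.mp h1))
  rw [hd] at this ⊢
  cases d with
  | zero => simp
  | succ d => exact absurd this (not_le.mpr (by
      calc p = p ^ 1 := (pow_one p).symm
        _ < _ := Nat.pow_lt_pow_right hp.out.one_lt (by omega)))

open Classical in
theorem e1_zero {m k : ℕ} (hG : Nat.card G = p ^ m) (hc : ¬ IsCyclic G) (hk : k + 2 ≤ m) :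
    ((((sb (⊤ : Subgroup G) (p ^ k)).filter fun K => Nat.card (Ann p K) = p).card : ℕ) : ZMod p) = 0 := by
  have hP := IsPGroup.of_card hG
  have dc : ∑ K ∈ sb (⊤ : Subgroup G) (p ^ k), ((sb (⊤ : Subgroup (Dl G p)) (p ^ 2)).filter (· ≤ Ann p K)).card =
      ∑ U ∈ sb (⊤ : Subgroup (Dl G p)) (p ^ 2), ((sb (⊤ : Subgroup G) (p ^ k)).filter (U ≤ Ann p ·)).card := by
    simp only [card_filter]; exact sum_comm
  have h1 : ∀ K ∈ sb (⊤ : Subgroup G) (p ^ k),
      (((sb (⊤ : Subgroup (Dl G p)) (p ^ 2)).filter (· ≤ Ann p K)).card : ZMod p) =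
        1 - if Nat.card (Ann p K) = p then 1 else 0 := by
    intro K hK
    have e : (sb (⊤ : Subgroup (Dl G p)) (p ^ 2)).filter (· ≤ Ann p K) = sb (Ann p K) (p ^ 2) := by
      ext U; simp [mem_sb, and_comm]
    obtain ⟨d, hd⟩ := ann_card hP (K := K) fun h => by
      have := (mem_sb.mp hK).2
      rw [h, card_top, hG] at this; exact absurd (Nat.pow_right_injective hp.out.two_le this) (by omega)
    rw [e]
    split_ifs with h
    · rw [sub_self, card_eq_zero.mpr (eq_empty_of_forall_notMem fun U hU => ?_), Nat.cast_zero]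
      have := card_le_of_le (mem_sb.mp hU).1
      rw [(mem_sb.mp hU).2, h] at this
      nlinarith [hp.out.two_le]
    · rw [sub_zero]
      refine sb_one ?_
      rw [hd] at h ⊢
      exact pow_dvd_pow p (by by_contra h2; exact h (by rw [show d = 0 by omega]; simp))
  have h2 : ∀ U ∈ sb (⊤ : Subgroup (Dl G p)) (p ^ 2),
      (((sb (⊤ : Subgroup G) (p ^ k)).filter (U ≤ Ann p ·)).card : ZMod p) = 1 := by
    intro U hU
    have hU2 := (mem_sb.mp hU).2
    haveI : Nontrivial U := Finite.one_lt_card_iff_nontrivial.mp (by rw [hU2]; exact Nat.one_lt_pow two_ne_zero hp.out.one_lt)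
    obtain ⟨⟨l, hlU⟩, hl⟩ := exists_ne (1 : U)
    have hl1 : l ≠ 1 := fun h => hl (Subtype.ext h)
    have hz : Nat.card (zpowers l) = p ^ 1 := by rw [Nat.card_zpowers, dl_ord hl1, pow_one]
    obtain ⟨u, huU, hu⟩ : ∃ u ∈ U, u ∉ zpowers l := by
      by_contra h; push Not at h
      have := card_le_of_le (show U ≤ zpowers l from h)
      rw [hU2, hz] at this
      nlinarith [hp.out.two_le]
    have hu1 : u ≠ 1 := by rintro rfl; exact hu (one_mem _)
    have hW : U ⊓ Ann p (l.ker ⊓ u.ker) = U :=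
      (sandwich (X := U ⊓ Ann p (l.ker ⊓ u.ker)) (zpowers_le.mpr ⟨hlU, (inf_le_left : _ ≤ l.ker)⟩) inf_le_left hz hU2).resolve_left
        fun h => hu (h.le ⟨huU, (inf_le_right : _ ≤ u.ker)⟩)
    have e : (sb (⊤ : Subgroup G) (p ^ k)).filter (U ≤ Ann p ·) = sb (l.ker ⊓ u.ker) (p ^ k) := by
      ext K
      rw [mem_filter, mem_sb, mem_sb]
      exact ⟨fun h => ⟨le_inf (h.2 hlU) (h.2 huU), h.1.2⟩, fun h => ⟨⟨le_top, h.2⟩, fun v hv =>
        h.1.trans (inf_eq_left.mp hW hv)⟩⟩
    rw [e]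
    refine sb_one ?_
    have h3 := index_inf_le (H := l.ker) (K := u.ker)
    rw [ker_index hl1, ker_index hu1] at h3
    have h4 := (l.ker ⊓ u.ker).card_mul_index
    obtain ⟨j, -, hj⟩ := (Nat.dvd_prime_pow hp.out).mp (hG ▸ card_subgroup_dvd_card (l.ker ⊓ u.ker))
    rw [hj]
    refine pow_dvd_pow p (by_contra fun h => ?_)
    rw [hj, hG] at h4
    have h5 : p ^ m ≤ p ^ (j + 2) := by rw [← h4, pow_add, sq]; exact Nat.mul_le_mul_left _ h3
    have := (Nat.pow_le_pow_iff_right hp.out.one_lt).mp h5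
    omega
  have h3 := congrArg (Nat.cast : ℕ → ZMod p) dc
  rw [Nat.cast_sum, Nat.cast_sum, sum_congr rfl h1, sum_congr rfl h2, sum_sub_distrib, sum_const, sum_const,
    nsmul_eq_mul, nsmul_eq_mul, sb_one (k := 2) (by rw [card_top]; exact dl_card hP hc),
    sb_one (k := k) (by rw [card_top, hG]; exact pow_dvd_pow p (by omega)), sum_boole] at h3
  linear_combination -h3

open Classical in
theorem cyc_zero [Fintype (Dl G p)] (h2 : p ≠ 2) {m : ℕ} (hG : Nat.card G = p ^ m) (hc : ¬ IsCyclic G) (hm : 3 ≤ m) :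
    ((((univ.erase (1 : Dl G p)).filter fun l => IsCyclic l.ker).card : ℕ) : ZMod p) = 0 := by
  have hP := IsPGroup.of_card hG
  by_cases h : ((univ.erase (1 : Dl G p)).filter fun l : Dl G p => IsCyclic l.ker) = ∅
  · rw [h]; simp
  obtain ⟨l, hl⟩ := nonempty_iff_ne_empty.mpr h
  rw [mem_filter, mem_erase] at hl
  obtain ⟨⟨hW1, hW2⟩, hW⟩ := Cfsg.Agent.S0127.result h2 hP hc l.ker hl.2 (ker_index hl.1.1)
  set W := closure {x : G | x ^ p = 1}
  have key : ∀ M : Subgroup G, IsCyclic M ↔ ¬ W ≤ M := fun M => by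
    constructor
    · intro hM hle
      haveI := Subgroup.isCyclic_of_le hle
      obtain ⟨g, hg⟩ := IsCyclic.exists_ofOrder_eq_natCard (α := W)
      have := Nat.le_of_dvd hp.out.pos (orderOf_dvd_of_pow_eq_one (Subtype.ext (hW2 g g.2) : g ^ p = 1))
      rw [hg, hW] at this
      nlinarith [hp.out.two_le]
    · intro hle
      refine (Cfsg.Agent.S0016.result p (hP.to_subgroup M) fun A B hA hB => ?_).resolve_right fun h => h2 h.1
      have hh : ∀ A : Subgroup M, Nat.card A = p → A.map M.subtype = W ⊓ M := fun A hA => by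
        refine ((sandwich (n := 1) (X := W ⊓ M) (le_inf ?_ (map_subtype_le A)) inf_le_left ?_ hW).resolve_right
          fun h => hle (inf_eq_left.mp h)).symm
        · rintro _ ⟨x, hx, rfl⟩
          refine subset_closure ?_
          have := pow_card_eq_one' (G := A) (x := ⟨x, hx⟩)
          rw [hA] at this
          exact congrArg (fun y : A => ((y : M) : G)) this
        · rw [card_map_of_injective M.subtype_injective, hA, pow_one]
      exact map_injective M.subtype_injective ((hh A hA).trans (hh B hB).symm)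
  obtain ⟨d, hd⟩ := ann_card hP (K := W) fun h => by
    rw [h, card_top, hG] at hW; exact absurd (Nat.pow_right_injective hp.out.two_le hW) (by omega)
  have e : (univ.erase (1 : Dl G p)).filter (fun l => IsCyclic l.ker) = univ.filter fun l => ¬ l ∈ Ann p W := by
    ext l
    rw [mem_filter, mem_filter, mem_erase, key]
    exact ⟨fun h => ⟨mem_univ _, h.2⟩, fun h => ⟨⟨by rintro rfl; exact h.2 (one_mem _), mem_univ _⟩, h.2⟩⟩
  have h3 := card_filter_add_card_filter_not (s := (univ : Finset (Dl G p))) (· ∈ Ann p W)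
  rw [← Fintype.card_subtype, ← Nat.card_eq_fintype_card, hd, card_univ, ← Nat.card_eq_fintype_card] at h3
  obtain ⟨c, hc'⟩ := dl_card hP hc
  have h4 := congrArg (Nat.cast : ℕ → ZMod p) h3
  rw [hc'] at h4
  rw [e]
  simpa [pow_succ] using h4

universe u

theorem kul (h2 : p ≠ 2) (m : ℕ) : ∀ (G : Type u) [Group G] [Finite G], Nat.card G = p ^ m → ¬ IsCyclic G →
    ∀ k, 1 ≤ k → k < m → ((sb (⊤ : Subgroup G) (p ^ k)).card : ZMod (p ^ 2)) = 1 + p := by
  induction m with
  | zero => intro G _ _ _ _ k _ h; omega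
  | succ m ih =>
  intro G _ _ hG hc k hk1 hk
  classical
  haveI := Fintype.ofFinite (Dl G p)
  have hP := IsPGroup.of_card hG
  have dc : ∑ l : Dl G p, (sb l.ker (p ^ k)).card = ∑ K ∈ sb (⊤ : Subgroup G) (p ^ k), Nat.card (Ann p K) := by
    have e1 : ∀ l : Dl G p, sb l.ker (p ^ k) = (sb (⊤ : Subgroup G) (p ^ k)).filter fun K => l ∈ Ann p K := fun l => by
      ext K
      rw [mem_filter, mem_sb, mem_sb]
      exact ⟨fun h => ⟨⟨le_top, h.2⟩, h.1⟩, fun h => ⟨h.2, h.1.2⟩⟩
    simp only [e1, Nat.card_eq_fintype_card, Fintype.card_subtype, card_filter]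
    exact sum_comm
  have hA : ∀ K ∈ sb (⊤ : Subgroup G) (p ^ k), (Nat.card (Ann p K) : ZMod (p ^ 2)) =
      p * if Nat.card (Ann p K) = p then 1 else 0 := fun K hK => by
    obtain ⟨d, hd⟩ := ann_card hP (K := K) fun h => by
      have := (mem_sb.mp hK).2
      rw [h, card_top, hG] at this; exact absurd (Nat.pow_right_injective hp.out.two_le this) (by omega)
    split_ifs with h
    · rw [h, mul_one]
    · rw [hd] at h ⊢
      cases d with
      | zero => simp at h
      | succ d => rw [Nat.cast_pow, show d + 1 + 1 = 2 + d by omega, pow_add, pp]; simp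
  have h3 := congrArg (Nat.cast : ℕ → ZMod (p ^ 2)) dc
  rw [Nat.cast_sum, Nat.cast_sum, sum_congr rfl hA, ← mul_sum, sum_boole, ← add_sum_erase _ _ (mem_univ 1),
    MonoidHom.ker_one] at h3
  have hker : ∀ l : Dl G p, l ≠ 1 → Nat.card l.ker = p ^ m := fun l hl => by
    have := l.ker.card_mul_index
    rw [ker_index hl, hG, pow_succ] at this
    exact Nat.eq_of_mul_eq_mul_right hp.out.pos this
  have hL : ((univ.erase (1 : Dl G p)).card : ZMod (p ^ 2)) = -1 := by
    have := card_erase_add_one (mem_univ (1 : Dl G p))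
    obtain ⟨c, hc'⟩ := dl_card hP hc
    rw [card_univ, ← Nat.card_eq_fintype_card, hc'] at this
    have := congrArg (Nat.cast : ℕ → ZMod (p ^ 2)) this
    rw [Nat.cast_add, Nat.cast_mul, ZMod.natCast_self, zero_mul, Nat.cast_one] at this
    exact eq_neg_of_add_eq_zero_left this
  rcases (show k = m ∨ k < m by omega) with rfl | hkm
  · have h4 : ∀ l ∈ univ.erase (1 : Dl G p), ((sb l.ker (p ^ k)).card : ZMod (p ^ 2)) = 1 := fun l hl => by
      rw [card_eq_one.mpr ⟨l.ker, ?_⟩, Nat.cast_one]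
      ext K
      rw [mem_sb, mem_singleton, ← hker l (mem_erase.mp hl).1]
      exact ⟨fun h => eq_of_le_of_card_ge h.1 h.2.ge, fun h => h ▸ ⟨le_rfl, rfl⟩⟩
    rw [sum_congr rfl h4, sum_const, nsmul_eq_mul, hL, filter_true_of_mem fun K hK => ann_max hG (mem_sb.mp hK).2,
      pm (b := 1) (by rw [sb_one (by rw [card_top, hG]; exact pow_dvd_pow p hk.le), Nat.cast_one])] at h3
    linear_combination h3
  · have h4 : ∀ l ∈ univ.erase (1 : Dl G p), ((sb l.ker (p ^ k)).card : ZMod (p ^ 2)) =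
        1 + p - p * if IsCyclic l.ker then 1 else 0 := fun l hl => by
      have h5 := hker l (mem_erase.mp hl).1
      split_ifs with h
      · rw [sb_cyc h (by rw [h5]; exact pow_dvd_pow p hkm.le)]; simp
      · rw [sb_card, ← sb_top, ih _ h5 h k hk1 hkm]; simp
    rw [sum_congr rfl h4, sum_sub_distrib, sum_const, nsmul_eq_mul, hL, ← mul_sum, sum_boole,
      pm (b := 0) ((cyc_zero h2 hG hc (by omega)).trans Nat.cast_zero.symm),
      pm (b := 0) ((e1_zero (k := k) hG hc (by omega)).trans Nat.cast_zero.symm)] at h3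
    linear_combination h3

end H9.Kul
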