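import Cfsg.Agent.H9.Kul
import Cfsg.Agent.H2.Man
import Cfsg.Agent.H2.Cocycle

/-!
H9.Kul2: the number of subgroups of order `p ^ a` agrees modulo `p ^ 2` with the number in a Sylow subgroup.
-/

set_option autoImplicit false

namespace H9.Kul

open Subgroup Finset
open scoped Pointwise

variable {G : Type*} [Group G] [Finite G] {p : ℕ} [hp : Fact p.Prime]

/-- conjugation action on subgroups -/
@[reducible] def act (G : Type*) [Group G] : MulAction G (Subgroup G) :=
  MulAction.compHom _ (MulAut.conj : G →* MulAut G)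

attribute [local instance] act

omit [Finite G] in
theorem act_def (g : G) (K : Subgroup G) : g • K = MulAut.conj g • K := rfl

omit [Finite G] in
theorem mem_act {g x : G} {K : Subgroup G} : x ∈ g • K ↔ g⁻¹ * x * g ∈ K := by
  rw [act_def, Subgroup.mem_pointwise_smul_iff_inv_smul_mem]; simp

omit [Finite G] in
theorem act_eq {g : G} {K : Subgroup G} : g • K = K ↔ g ∈ normalizer (K : Set G) := by
  rw [mem_normalizer_iff'', SetLike.ext_iff]
  exact forall_congr' fun x => by rw [mem_act]; exact Iff.comm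

omit [Finite G] in
theorem act_card (g : G) (K : Subgroup G) : Nat.card (g • K : Subgroup G) = Nat.card K :=
  (Nat.card_congr (Subgroup.equivSMul (MulAut.conj g) K).toEquiv).symm

omit [Finite G] in
theorem act_le {g : G} {K L : Subgroup G} : g • K ≤ g • L ↔ K ≤ L := Subgroup.pointwise_smul_le_pointwise_smul_iff

omit [Finite G] in
theorem act_le' {g : G} {K L : Subgroup G} (h : g ∈ normalizer (L : Set G)) : g • K ≤ L ↔ K ≤ L := by
  conv_lhs => rw [← act_eq.mpr h]
  exact act_le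

omit [Finite G] in
theorem act_norm (g : G) (K : Subgroup G) :
    normalizer ((g • K : Subgroup G) : Set G) = g • normalizer (K : Set G) := by
  ext x
  rw [mem_act, ← act_eq, ← act_eq, mul_smul, mul_smul, inv_smul_eq_iff]

omit [Finite G] in
theorem act_inf {d : G} {P : Subgroup G} (hd : d ∈ P) (Q : Subgroup G) :
    P ⊓ normalizer ((d • Q : Subgroup G) : Set G) = d • (P ⊓ normalizer (Q : Set G)) := by
  rw [act_norm]
  conv_lhs => rw [← act_eq.mpr (le_normalizer hd)]
  exact (Subgroup.smul_inf _ _ _).symm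

theorem norm_of_card {M Y : Subgroup G} {n : ℕ} (h : M ≤ Y) (hM : Nat.card M = p ^ n) (hY : Nat.card Y = p ^ (n + 1)) :
    Y ≤ normalizer (M : Set G) := by
  refine (normal_subgroupOf_iff_le_normalizer h).mp (normal_of_index_eq_minFac_card ?_)
  have := (M.subgroupOf Y).card_mul_index
  rw [Nat.card_congr (subgroupOfEquivOfLe h).toEquiv, hM, hY, pow_succ] at this
  rw [hY, hp.out.pow_minFac (by omega)]
  exact Nat.eq_of_mul_eq_mul_left (pow_pos hp.out.pos n) this

theorem red (P : Sylow p G) {n a : ℕ} (hP : Nat.card (P : Subgroup G) = p ^ (n + 1)) (ha : a ≤ n) :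
    ((sb (⊤ : Subgroup G) (p ^ a)).card : ZMod (p ^ 2)) = (sb (P : Subgroup G) (p ^ a)).card := by
  classical
  have hmax : ∀ Q : Subgroup G, IsPGroup p Q → (P : Subgroup G) ≤ normalizer (Q : Set G) → Q ≤ P := fun Q hQ h =>
    (P.3 (P.isPGroup'.to_sup_of_normal_right' hQ h) le_sup_left) ▸ le_sup_right
  set Z := (sb (⊤ : Subgroup G) (p ^ a)).filter fun Q : Subgroup G => ¬ Q ≤ (P : Subgroup G) with hZ
  have hZm : ∀ Q : Subgroup G, Q ∈ Z ↔ Nat.card Q = p ^ a ∧ ¬ Q ≤ (P : Subgroup G) := fun Q => by simp [hZ, mem_sb]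
  have hZi : ∀ d ∈ (P : Subgroup G), ∀ Q : Subgroup G, d • Q ∈ Z ↔ Q ∈ Z := fun d hd Q => by
    rw [hZm, hZm, act_card, act_le' (le_normalizer hd)]
  have e0 := card_filter_add_card_filter_not (s := sb (⊤ : Subgroup G) (p ^ a)) (· ≤ (P : Subgroup G))
  have e1 : (sb (⊤ : Subgroup G) (p ^ a)).filter (· ≤ (P : Subgroup G)) = sb (P : Subgroup G) (p ^ a) := by
    ext K; simp [mem_sb, and_comm]
  have e2 := card_filter_add_card_filter_not (s := Z)
    fun Q : Subgroup G => Nat.card ((P : Subgroup G) ⊓ normalizer (Q : Set G) : Subgroup G) = p ^ n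
  set Z1 := Z.filter fun Q : Subgroup G => Nat.card ((P : Subgroup G) ⊓ normalizer (Q : Set G) : Subgroup G) = p ^ n with hZ1
  set Z2 := Z.filter fun Q : Subgroup G => ¬ Nat.card ((P : Subgroup G) ⊓ normalizer (Q : Set G) : Subgroup G) = p ^ n with hZ2
  have h2 : p ^ 2 ∣ Z2.card := by
    have := H2.dvd_card_of_index (P : Subgroup G) (Z2 : Set (Subgroup G)) (p ^ 2) (fun d hd Q hQ => by
      rw [mem_coe, mem_filter] at hQ ⊢
      rw [hZi d hd, act_inf hd, act_card]; exact hQ) (fun Q hQ => by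
      rw [mem_coe, mem_filter, hZm] at hQ
      have e : MulAction.stabilizer G Q = normalizer (Q : Set G) := Subgroup.ext fun g => act_eq
      have h3 := ((normalizer (Q : Set G)).subgroupOf P).card_mul_index
      rw [← inf_subgroupOf_left, Nat.card_congr (subgroupOfEquivOfLe inf_le_left).toEquiv, inf_subgroupOf_left,
        hP] at h3
      obtain ⟨j, hj, ej⟩ := (Nat.dvd_prime_pow hp.out).mp (Dvd.intro _ h3)
      have hj1 : j ≠ n + 1 := by
        rintro rfl
        exact hQ.1.2 (hmax Q (IsPGroup.of_card hQ.1.1)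
          (inf_eq_left.mp (eq_of_le_of_card_ge inf_le_left (by rw [ej, hP]))))
      have hj2 : j ≠ n := by rintro rfl; exact hQ.2 ej
      rw [ej, show n + 1 = j + (n + 1 - j) by omega, pow_add] at h3
      rw [e, relIndex, Nat.eq_of_mul_eq_mul_left (pow_pos hp.out.pos j) h3]
      exact pow_dvd_pow p (by omega))
    simpa using this
  let f : Subgroup G → Subgroup G := fun Q => ((P : Subgroup G) ⊓ normalizer (Q : Set G)) ⊔ Q
  have hZ1m : ∀ Q : Subgroup G, Q ∈ Z1 ↔ (Nat.card Q = p ^ a ∧ ¬ Q ≤ (P : Subgroup G)) ∧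
      Nat.card ((P : Subgroup G) ⊓ normalizer (Q : Set G) : Subgroup G) = p ^ n := fun Q => by
    rw [hZ1, mem_filter, hZm]
  have hZ1i : ∀ d ∈ (P : Subgroup G), ∀ Q : Subgroup G, d • Q ∈ Z1 ↔ Q ∈ Z1 := fun d hd Q => by
    rw [hZ1m, hZ1m, act_inf hd, act_card, act_card, act_le' (le_normalizer hd)]
  have hfi : ∀ d ∈ (P : Subgroup G), ∀ Q : Subgroup G, f (d • Q) = d • f Q := fun d hd Q => by
    show _ ⊔ _ = _
    rw [act_inf hd]
    exact (Subgroup.smul_sup _ _ _).symm
  have hfc : ∀ Q ∈ Z1, Nat.card (f Q) = p ^ (n + 1) := fun Q hQ => by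
    rw [hZ1m] at hQ
    obtain ⟨R, hR⟩ := ((IsPGroup.of_card hQ.2).to_sup_of_normal_right' (IsPGroup.of_card hQ.1.1)
      inf_le_right).exists_le_sylow
    have hc : Nat.card (R : Subgroup G) = p ^ (n + 1) := by rw [← hP]; exact Nat.card_congr (Sylow.equiv R P).toEquiv
    rcases sandwich le_sup_left hR hQ.2 hc with h | h
    · exact absurd ((le_sup_right.trans h.le).trans inf_le_left) hQ.1.2
    · exact (congrArg (fun X : Subgroup G => Nat.card X) h).trans hc
  have ht : ∀ y ∈ Z1.image f, (((Z1.filter fun Q => f Q = y).card : ℕ) : ZMod p) = (0 : ℕ) := by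
    intro y hy
    obtain ⟨Q0, hQ0, rfl⟩ := mem_image.mp hy
    have hc := hfc Q0 hQ0
    rw [hZ1m] at hQ0
    set M := (P : Subgroup G) ⊓ normalizer (Q0 : Set G) with hM
    have hMy : M ≤ f Q0 := le_sup_left
    have hPy : (P : Subgroup G) ⊓ f Q0 = M :=
      (sandwich (le_inf inf_le_left hMy) inf_le_left hQ0.2 hP).resolve_right fun h =>
        hQ0.1.2 (le_sup_right.trans (eq_of_le_of_card_ge (inf_eq_left.mp h) (by rw [hc, hP])).ge)
    have hn := norm_of_card hMy hQ0.2 hc
    have e3 := card_filter_add_card_filter_not (s := sb (f Q0) (p ^ a)) (· ≤ M)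
    have e4 : (sb (f Q0) (p ^ a)).filter (· ≤ M) = sb M (p ^ a) := by
      ext K
      rw [mem_filter, mem_sb, mem_sb]
      exact ⟨fun h => ⟨h.2, h.1.2⟩, fun h => ⟨⟨h.1.trans hMy, h.2⟩, h.1⟩⟩
    have e5 := congrArg (Nat.cast : ℕ → ZMod p) e3
    rw [e4, Nat.cast_add, sb_one (k := a) (by rw [hQ0.2]; exact pow_dvd_pow p ha),
      sb_one (k := a) (by rw [hc]; exact pow_dvd_pow p (by omega)), add_eq_left] at e5
    have e6 := H2.card_modEq_filter (Y₀ := (sb (f Q0) (p ^ a)).filter fun K => ¬ K ≤ M) (IsPGroup.of_card hc)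
      fun d hd K hK => by
        rw [mem_filter, mem_sb] at hK ⊢
        rw [act_card, act_le' (le_normalizer hd), act_le' (hn hd)]; exact hK
    rw [Nat.cast_zero, ← e5, (ZMod.natCast_eq_natCast_iff _ _ _).mpr e6]
    congr 2
    ext Q
    rw [mem_filter, hZ1m, mem_filter, mem_filter, mem_sb]
    constructor
    · rintro ⟨⟨⟨h1, h3⟩, -⟩, h4⟩
      exact ⟨⟨⟨le_sup_right.trans h4.le, h1⟩, fun h => h3 (h.trans inf_le_left)⟩,
        fun d hd => act_eq.mpr (sup_le inf_le_right le_normalizer (h4.ge hd))⟩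
    · rintro ⟨⟨⟨h1, h3⟩, h4⟩, h5⟩
      have h6 : ¬ Q ≤ (P : Subgroup G) := fun h => h4 (hPy ▸ le_inf h h1)
      have h7 : (P : Subgroup G) ⊓ normalizer (Q : Set G) = M :=
        (sandwich (le_inf inf_le_left fun d hd => act_eq.mp (h5 d (hMy hd))) inf_le_left hQ0.2 hP).resolve_right
          fun h => h6 (hmax Q (IsPGroup.of_card h3) (inf_eq_left.mp h))
      refine ⟨⟨⟨h3, h6⟩, by rw [h7, hQ0.2]⟩, ?_⟩
      show _ ⊔ Q = _
      rw [h7]
      exact (sandwich le_sup_left (sup_le hMy h1) hQ0.2 hc).resolve_left fun h => h4 (le_sup_right.trans h.le)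
  have h1 : (Z1.card : ZMod (p ^ 2)) = 0 := by
    have := H2.prod_pgroup (Y₀ := Z1.image f) P.isPGroup' (fun d hd y hy => by
        obtain ⟨Q, hQ, rfl⟩ := mem_image.mp hy
        exact mem_image.mpr ⟨d • Q, (hZ1i d hd Q).mpr hQ, hfi d hd Q⟩)
      (fun y => Multiplicative.ofAdd (((Z1.filter fun Q => f Q = y).card : ℕ) : ZMod (p ^ 2)))
      (fun d hd y _ => by
        congr 2
        refine (card_bijective _ (MulAction.bijective d) fun Q => ?_).symm
        rw [mem_filter, ← hZ1i d hd, mem_filter (a := d • Q) (s := Z1), hfi d hd, smul_left_cancel_iff])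
      (fun y hy => by
        rw [← ofAdd_nsmul, nsmul_eq_mul, pm (ht y hy)]; simp)
    rw [filter_false_of_mem (fun y hy h => ?_), prod_empty, ← ofAdd_sum, ← Nat.cast_sum,
      ← card_eq_sum_card_image] at this
    · exact this
    · obtain ⟨Q, hQ, rfl⟩ := mem_image.mp hy
      exact ((hZ1m Q).mp hQ).1.2 (le_sup_right.trans (hmax _ (IsPGroup.of_card (hfc Q hQ)) fun d hd =>
        act_eq.mp (h d hd)))
  rw [← e0, e1, ← e2, Nat.cast_add, Nat.cast_add, h1, (ZMod.natCast_eq_zero_iff _ _).mpr h2]; simp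

end H9.Kul
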