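import Cfsg.Agent.H9.ES9
import Cfsg.Agent.H5.SL

/-!
H9.SF7: fusion systems on the Sylow subgroup of `SL₃(q)` with a nontrivial normal subgroup are constrained.
-/

set_option autoImplicit false
set_option linter.unusedSectionVars false

namespace H9.SF

open Subgroup

/-- class two, centralizers of noncentral elements abelian, and `xZ` is a class for noncentral `x` -/
structure Cam (H : Type*) [Group H] : Prop where
  h1 : ∀ a b c : H, Commute (a⁻¹ * (b * a * b⁻¹)) c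
  h2 : ∀ x y a b : H, ¬ Commute x y → Commute x a → Commute x b → Commute a b
  h3 : ∀ x y z : H, ¬ Commute x y → (∀ c, Commute z c) → ∃ s, s * x * s⁻¹ = x * z

theorem Cam.equiv {H H' : Type*} [Group H] [Group H'] (h : Cam H) (e : H ≃* H') : Cam H' := by
  have k : ∀ a b, Commute (e a) (e b) ↔ Commute a b := fun a b => ⟨fun c => c.of_map e.injective, fun c => c.map e⟩
  refine ⟨fun a b c => ?_, fun x y a b => ?_, fun x y z => ?_⟩
  · obtain ⟨a, rfl⟩ := e.surjective a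
    obtain ⟨b, rfl⟩ := e.surjective b
    obtain ⟨c, rfl⟩ := e.surjective c
    simpa only [map_mul, map_inv] using (k _ _).2 (h.h1 a b c)
  · obtain ⟨a, rfl⟩ := e.surjective a
    obtain ⟨b, rfl⟩ := e.surjective b
    obtain ⟨x, rfl⟩ := e.surjective x
    obtain ⟨y, rfl⟩ := e.surjective y
    simpa only [k] using h.h2 x y a b
  · obtain ⟨z, rfl⟩ := e.surjective z
    obtain ⟨x, rfl⟩ := e.surjective x
    obtain ⟨y, rfl⟩ := e.surjective y
    intro a b
    obtain ⟨s, hs⟩ := h.h3 x y z (mt (k _ _).2 a) fun c => (k _ _).1 (b _)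
    exact ⟨e s, by simpa only [map_mul, map_inv] using congrArg e hs⟩

variable {G : Type*} [Group G] {T : Subgroup G}

theorem comm_coe {a b : T} : Commute a b ↔ Commute (a : G) b :=
  ⟨fun c => c.map T.subtype, fun c => Commute.of_map (f := T.subtype) T.subtype_injective c⟩

theorem Cam.c1 (h : Cam T) {a b : G} (ha : a ∈ T) (hb : b ∈ T) :
    a⁻¹ * (b * a * b⁻¹) ∈ T ⊓ centralizer (T : Set G) :=
  ⟨T.mul_mem (T.inv_mem ha) (T.mul_mem (T.mul_mem hb ha) (T.inv_mem hb)),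
    mem_centralizer_iff.2 fun c hc => (comm_coe.1 (h.h1 ⟨a, ha⟩ ⟨b, hb⟩ ⟨c, hc⟩)).eq.symm⟩

theorem ex_nc {x : G} (h : x ∉ centralizer (T : Set G)) : ∃ y ∈ T, ¬ Commute x y := by
  by_contra n
  push Not at n
  exact h (mem_centralizer_iff.2 fun c hc => (n c hc).eq.symm)

theorem Cam.c2 (h : Cam T) {x a b : G} (hx : x ∈ T) (hc : x ∉ centralizer (T : Set G)) (ha : a ∈ T) (hb : b ∈ T)
    (h1 : Commute x a) (h2 : Commute x b) : Commute a b := by
  obtain ⟨y, hy, n⟩ := ex_nc hc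
  exact comm_coe.1 (h.h2 ⟨x, hx⟩ ⟨y, hy⟩ ⟨a, ha⟩ ⟨b, hb⟩ (mt comm_coe.1 n) (comm_coe.2 h1) (comm_coe.2 h2))

theorem Cam.c3 (h : Cam T) {x z : G} (hx : x ∈ T) (hc : x ∉ centralizer (T : Set G))
    (hz : z ∈ T ⊓ centralizer (T : Set G)) : ∃ s ∈ T, s * x * s⁻¹ = x * z := by
  obtain ⟨y, hy, n⟩ := ex_nc hc
  obtain ⟨s, hs⟩ := h.h3 ⟨x, hx⟩ ⟨y, hy⟩ ⟨z, hz.1⟩ (mt comm_coe.1 n) fun c =>
    comm_coe.2 (mem_centralizer_iff.1 hz.2 c c.2).symm
  exact ⟨s, s.2, congrArg Subtype.val hs⟩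

/-- elements acting trivially on `V/Z` and on `Z` -/
def chK (V Z : Subgroup G) : Subgroup G where
  carrier := {k | k ∈ centralizer (Z : Set G) ∧ ∀ v ∈ V, v⁻¹ * (k * v * k⁻¹) ∈ Z}
  one_mem' := ⟨one_mem _, fun v _ => by simp⟩
  mul_mem' := fun {k l} a b => ⟨mul_mem a.1 b.1, fun v hv => by
    have e := mem_centralizer_iff.1 a.1 _ (b.2 v hv)
    have : v⁻¹ * (k * l * v * (k * l)⁻¹) = v⁻¹ * (k * v * k⁻¹) * (k * (v⁻¹ * (l * v * l⁻¹)) * k⁻¹) := by group
    rw [this, ← e, mul_inv_cancel_right]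
    exact Z.mul_mem (a.2 v hv) (b.2 v hv)⟩
  inv_mem' := fun {k} a => ⟨inv_mem a.1, fun v hv => by
    have e := mem_centralizer_iff.1 a.1 _ (Z.inv_mem (a.2 v hv))
    have : v⁻¹ * (k⁻¹ * v * k⁻¹⁻¹) = k⁻¹ * ((v⁻¹ * (k * v * k⁻¹))⁻¹ * k) := by group
    rw [this, e, inv_mul_cancel_left]
    exact Z.inv_mem (a.2 v hv)⟩

variable [Finite G] {p : ℕ} [hp : Fact p.Prime]

theorem chK_isP {V Z : Subgroup G} (hZ : IsPGroup p Z) (hV : IsPGroup p V) (hc : centralizer (V : Set G) ≤ V) :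
    IsPGroup p (chK V Z) := by
  rintro ⟨k, hk⟩
  obtain ⟨n, hn⟩ := IsPGroup.iff_card.1 hZ
  have a : ∀ v ∈ V, ∀ m : ℕ, k ^ m * v * (k ^ m)⁻¹ = v * (v⁻¹ * (k * v * k⁻¹)) ^ m := fun v hv m => by
    induction m with
    | zero => simp
    | succ m ih =>
      have e := mem_centralizer_iff.1 hk.1 _ (Z.pow_mem (hk.2 v hv) m)
      calc k ^ (m + 1) * v * (k ^ (m + 1))⁻¹ = k * (k ^ m * v * (k ^ m)⁻¹) * k⁻¹ := by group
        _ = k * v * k⁻¹ * (k * (v⁻¹ * (k * v * k⁻¹)) ^ m * k⁻¹) := by rw [ih]; group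
        _ = _ := by rw [← e, mul_inv_cancel_right, pow_succ', ← mul_assoc v, mul_inv_cancel_left]
  have b : k ^ p ^ n ∈ V := hc (mem_centralizer_iff.2 fun v hv => by
    have e : (v⁻¹ * (k * v * k⁻¹)) ^ p ^ n = 1 :=
      hn ▸ congrArg Subtype.val (pow_card_eq_one' (x := (⟨_, hk.2 v hv⟩ : Z)))
    have := a v hv (p ^ n)
    rw [e, mul_one, mul_inv_eq_iff_eq_mul] at this
    exact this.symm)
  obtain ⟨m, hm⟩ := hV ⟨_, b⟩
  exact ⟨n + m, Subtype.ext (by simpa [pow_add, pow_mul] using congrArg Subtype.val hm)⟩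

theorem Cam.chK_eq (h : Cam T) (hT : Syl p T ⊤) (hc : centralizer (Op p (⊤ : Subgroup G) : Set G) ≤ Op p ⊤) :
    chK (Op p ⊤) (T ⊓ centralizer (T : Set G)) = T :=
  hT.maximal (chK_isP (hT.isP.to_le inf_le_left) (hT.isP.to_le hT.Op_le) hc) le_top fun t ht =>
    ⟨mem_centralizer_iff.2 fun z hz => (mem_centralizer_iff.1 hz.2 t ht).symm, fun v hv => h.c1 (hT.Op_le hv) ht⟩

theorem Cam.norm_le (h : Cam T) (hT : Syl p T ⊤) (hc : centralizer (Op p (⊤ : Subgroup G) : Set G) ≤ Op p ⊤) :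
    normalizer ((T ⊓ centralizer (T : Set G) : Subgroup G) : Set G) ≤ normalizer (T : Set G) := fun g hg => by
  haveI : (Op p (⊤ : Subgroup G)).Normal := normal_of_top_le (le_normalizer_Op p ⊤)
  refine mem_normalizer_fintype fun t ht => ?_
  rw [SetLike.mem_coe, ← h.chK_eq hT hc] at ht ⊢
  refine ⟨mem_centralizer_iff.2 fun z hz => ?_, fun v hv => ?_⟩
  · have e := mem_centralizer_iff.1 ht.1 _ ((mem_normalizer_iff''.1 hg z).1 hz)
    calc z * (g * t * g⁻¹) = g * (g⁻¹ * z * g * t) * g⁻¹ := by group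
      _ = _ := by rw [e]; group
  · have e := (mem_normalizer_iff.1 hg _).1 (ht.2 _ (Normal.conj_mem' inferInstance v hv g))
    convert e using 1
    group

theorem Cam.le_Op (h : Cam T) (hT : Syl p T ⊤) (hc : centralizer (Op p (⊤ : Subgroup G) : Set G) ≤ Op p ⊤)
    {N : Subgroup G} [N.Normal] (h0 : N ≠ ⊥) (hN : N ≤ T ⊓ centralizer (T : Set G)) : T ≤ Op p ⊤ := by
  haveI : (Op p (⊤ : Subgroup G)).Normal := normal_of_top_le (le_normalizer_Op p ⊤)
  refine (hT.eq_Op (le_trans ?_ (h.norm_le hT hc))).le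
  set Z := T ⊓ centralizer (T : Set G) with hZ
  by_contra n
  obtain ⟨w, hw, w1⟩ := (N.bot_or_exists_ne_one).resolve_left h0
  haveI := Fintype.ofFinite G
  obtain ⟨g, hg, hm⟩ := Set.exists_max_image {g : G | g ∉ normalizer (Z : Set G)}
    (fun g => Nat.card (Z ⊓ Z.comap (MulAut.conj g).toMonoidHom : Subgroup G)) (Set.toFinite _)
    (by obtain ⟨g, -, hg⟩ := SetLike.not_le_iff_exists.1 n; exact ⟨g, hg⟩)
  obtain ⟨y, hy, y'⟩ : ∃ y ∈ Z, g * y * g⁻¹ ∉ Z := by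
    by_contra c
    push Not at c
    exact hg (mem_normalizer_fintype c)
  have yT : g * y * g⁻¹ ∈ T :=
    hT.Op_le (Normal.conj_mem inferInstance _ (hc (centralizer_le hT.Op_le hy.2)) g)
  obtain ⟨s, hs, e⟩ := h.c3 yT (fun c => y' ⟨yT, c⟩) (hN (Normal.conj_mem inferInstance w hw g))
  have e' : g⁻¹ * s * g * y * (g⁻¹ * s * g)⁻¹ = y * w := by
    calc _ = g⁻¹ * (s * (g * y * g⁻¹) * s⁻¹) * g := by group
      _ = _ := by rw [e]; group
  have hγ : g⁻¹ * s * g ∈ normalizer (Z : Set G) := by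
    by_contra c
    refine (hm _ c).not_gt (H2.card_lt_of_lt (lt_of_le_of_ne (fun u hu => ⟨hu.1, ?_⟩) fun q => y' ?_))
    · have e := mem_centralizer_iff.1 hu.2.2 s hs
      change s * (g * u * g⁻¹) = g * u * g⁻¹ * s at e
      change g⁻¹ * s * g * u * (g⁻¹ * s * g)⁻¹ ∈ Z
      rw [show g⁻¹ * s * g * u * (g⁻¹ * s * g)⁻¹ = g⁻¹ * (s * (g * u * g⁻¹)) * s⁻¹ * g by group, e]
      simpa [mul_assoc] using hu.1
    · exact (q.ge ⟨hy, show g⁻¹ * s * g * y * (g⁻¹ * s * g)⁻¹ ∈ Z from e' ▸ Z.mul_mem hy (hN hw)⟩).2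
  have γT : g⁻¹ * s * g ∈ T := hT.le_of_le_normalizer (Q := zpowers (g⁻¹ * s * g)) (by
    obtain ⟨k, hk⟩ := hT.isP ⟨s, hs⟩
    refine IsPGroup.iff_card.2 ?_
    rw [Nat.card_zpowers]
    obtain ⟨j, -, hj⟩ := (Nat.dvd_prime_pow hp.out).1 (orderOf_dvd_of_pow_eq_one (x := g⁻¹ * s * g) (n := p ^ k) (by
      have : s ^ p ^ k = 1 := congrArg Subtype.val hk
      rw [show g⁻¹ * s * g = g⁻¹ * s * g⁻¹⁻¹ by rw [inv_inv], conj_pow, this]; group))
    exact ⟨j, hj⟩) le_top (.inl (zpowers_le.2 (h.norm_le hT hc hγ))) (mem_zpowers _)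
  rw [mem_centralizer_iff.1 hy.2 _ γT, mul_inv_cancel_right, left_eq_mul] at e'
  exact w1 e'

theorem Cam.cent_le (h : Cam T) (hT : Syl p T ⊤) (hc : centralizer (Op p (⊤ : Subgroup G) : Set G) ≤ Op p ⊤)
    {Q : Subgroup G} [Q.Normal] (h0 : Q ≠ ⊥) (hQ : Q ≤ Op p ⊤) : T ⊓ centralizer (Q : Set G) ≤ Op p ⊤ := by
  haveI : (Op p (⊤ : Subgroup G)).Normal := normal_of_top_le (le_normalizer_Op p ⊤)
  by_cases n : T ≤ Op p ⊤
  · exact inf_le_left.trans n
  have k : ∀ N : Subgroup G, N.Normal → N ≠ ⊥ → N ≤ Op p ⊤ → ∃ x ∈ N, x ∉ centralizer (T : Set G) :=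
    fun N _ a b => SetLike.not_le_iff_exists.1 fun c => n (h.le_Op hT hc a (le_inf (b.trans hT.Op_le) c))
  obtain ⟨x, hx, x'⟩ := k Q inferInstance h0 hQ
  obtain ⟨y, hy, y'⟩ := k (Op p ⊤ ⊓ centralizer (Op p (⊤ : Subgroup G) : Set G)) inferInstance
    (fun e => h0 (le_bot_iff.1 (hQ.trans (by
      by_contra c
      exact Zc_ne_bot (hT.isP.to_le hT.Op_le) (fun e => c e.le) e)))) inf_le_left
  refine fun c hc' => hc (mem_centralizer_iff.2 fun v hv => ?_)
  exact h.c2 (hT.Op_le (hQ hx)) x' (hT.Op_le hv) hc'.1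
    (h.c2 (hT.Op_le hy.1) y' (hT.Op_le (hQ hx)) (hT.Op_le hv) (mem_centralizer_iff.1 hy.2 x (hQ hx)).symm
      (mem_centralizer_iff.1 hy.2 v hv).symm) (mem_centralizer_iff.1 hc'.2 x hx)

/-- the Heisenberg group over a commutative ring -/
@[ext] structure Hs (K : Type*) where
  a : K
  b : K
  c : K

variable {K : Type*} [Field K]

instance : Mul (Hs K) := ⟨fun x y => ⟨x.a + y.a, x.b + y.b, x.c + y.c + x.a * y.b⟩⟩
instance : One (Hs K) := ⟨⟨0, 0, 0⟩⟩
instance : Inv (Hs K) := ⟨fun x => ⟨-x.a, -x.b, x.a * x.b - x.c⟩⟩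
theorem Hs.mul_def (x y : Hs K) : x * y = ⟨x.a + y.a, x.b + y.b, x.c + y.c + x.a * y.b⟩ := rfl
theorem Hs.one_def : (1 : Hs K) = ⟨0, 0, 0⟩ := rfl
theorem Hs.inv_def (x : Hs K) : x⁻¹ = ⟨-x.a, -x.b, x.a * x.b - x.c⟩ := rfl

instance : Group (Hs K) := Group.ofLeftAxioms
  (fun x y z => by ext <;> simp only [Hs.mul_def] <;> ring)
  (fun x => by ext <;> simp [Hs.mul_def, Hs.one_def])
  (fun x => by ext <;> simp only [Hs.mul_def, Hs.one_def, Hs.inv_def] <;> ring)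

theorem Hs.comm_iff {x y : Hs K} : Commute x y ↔ x.a * y.b = y.a * x.b := by
  refine ⟨fun h => ?_, fun h => ?_⟩
  · have := congrArg Hs.c h.eq
    simp only [Hs.mul_def] at this
    linear_combination this
  · refine Hs.ext ?_ ?_ ?_ <;> simp only [Hs.mul_def]
    · ring
    · ring
    · linear_combination h

theorem Hs.cam : Cam (Hs K) := by
  refine ⟨fun a b c => ?_, fun x y a b n h1 h2 => ?_, fun x y z n h => ?_⟩
  · rw [Hs.comm_iff]
    simp only [Hs.mul_def, Hs.inv_def]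
    ring
  · rw [Hs.comm_iff] at *
    by_cases e : x.a = 0
    · have e' : x.b ≠ 0 := fun e' => n (by simp [e, e'])
      exact mul_left_cancel₀ e' (by linear_combination (-b.b) * h1 + a.b * h2 + (b.b * a.b - a.b * b.b) * e)
    · exact mul_left_cancel₀ e (by linear_combination a.a * h2 - b.a * h1)
  · have h1 := Hs.comm_iff.1 (h ⟨0, 1, 0⟩)
    have h2 := Hs.comm_iff.1 (h ⟨1, 0, 0⟩)
    rw [Hs.comm_iff, ← sub_eq_zero] at n
    simp only [mul_one, zero_mul, mul_zero, one_mul] at h1 h2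
    refine ⟨⟨-z.c * y.a / (x.a * y.b - y.a * x.b), -z.c * y.b / (x.a * y.b - y.a * x.b), 0⟩, ?_⟩
    refine Hs.ext ?_ ?_ ?_ <;> simp only [Hs.mul_def, Hs.inv_def, h1, ← h2]
    · ring
    · ring
    · field_simp
      ring

/-- the unitriangular matrices -/
def Hs.toSL : Hs K →* Matrix.SpecialLinearGroup (Fin 3) K := MonoidHom.mk'
  (fun x => ⟨!![1, x.a, x.c; 0, 1, x.b; 0, 0, 1], by simp [Matrix.det_fin_three]⟩) fun x y => Subtype.ext (by
    change !![1, x.a + y.a, x.c + y.c + x.a * y.b; 0, 1, x.b + y.b; 0, 0, 1] =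
      !![1, x.a, x.c; 0, 1, x.b; 0, 0, 1] * !![1, y.a, y.c; 0, 1, y.b; 0, 0, 1]
    rw [Matrix.mul_fin_three]
    simp [add_comm, add_left_comm, add_assoc])

theorem Hs.toSL_inj : Function.Injective (Hs.toSL (K := K)) := fun x y h =>
  Hs.ext (congrArg (fun g : Matrix.SpecialLinearGroup (Fin 3) K => g.1 0 1) h)
    (congrArg (fun g : Matrix.SpecialLinearGroup (Fin 3) K => g.1 1 2) h)
    (congrArg (fun g : Matrix.SpecialLinearGroup (Fin 3) K => g.1 0 2) h)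

theorem Hs.card [Fintype K] : Nat.card (Hs K) = Fintype.card K ^ 3 := by
  rw [Nat.card_congr (⟨fun x => (x.a, x.b, x.c), fun x => ⟨x.1, x.2.1, x.2.2⟩, fun _ => rfl, fun _ => rfl⟩ :
    Hs K ≃ K × K × K), Nat.card_prod, Nat.card_prod, Nat.card_eq_fintype_card]
  ring

theorem cam_sl3 [Fintype K] [CharP K p] (T : Sylow p (Matrix.SpecialLinearGroup (Fin 3) K)) :
    Cam (T : Subgroup (Matrix.SpecialLinearGroup (Fin 3) K)) := by
  obtain ⟨n, -, hn⟩ := FiniteField.card K p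
  have c : Nat.card (Hs.toSL (K := K)).range = Fintype.card K ^ 3 :=
    (Nat.card_congr (MonoidHom.ofInjective Hs.toSL_inj).toEquiv).symm.trans Hs.card
  have s : Syl p (Hs.toSL (K := K)).range ⊤ := by
    refine syl_of_card_le (IsPGroup.of_card (by rw [c, hn, ← pow_mul])) le_top (syl_top_of_sylow T) ?_
    obtain ⟨m, hm⟩ := IsPGroup.iff_card.1 T.isPGroup'
    have d := (card_subgroup_dvd_card (T : Subgroup (Matrix.SpecialLinearGroup (Fin 3) K))).mul_left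
      (Fintype.card K - 1)
    have q1 : 1 ≤ Fintype.card K := Fintype.card_pos
    have e : ∀ i, 0 < i → (p ^ m).Coprime (Fintype.card K ^ i - 1) := fun i hi => by
      refine Nat.Coprime.pow_left _ ((Nat.Prime.coprime_iff_not_dvd hp.out).2 fun h => hp.out.not_dvd_one ?_)
      exact (Nat.dvd_sub_iff_right (Nat.one_le_pow _ _ q1) (dvd_pow (hn ▸ dvd_pow_self p n.ne_zero) hi.ne')).1 h
    rw [H5.card_SL_mul, hm, Fintype.card_fin, Fin.prod_univ_three] at d
    simp only [Fin.val_zero, Fin.val_one, Fin.val_two, pow_zero, pow_one] at d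
    rw [show Fintype.card K ^ 3 - Fintype.card K = Fintype.card K * (Fintype.card K ^ 2 - 1) by
      rw [Nat.mul_sub]; ring_nf, show Fintype.card K ^ 3 - Fintype.card K ^ 2 =
      Fintype.card K ^ 2 * (Fintype.card K ^ 1 - 1) by rw [Nat.mul_sub]; ring_nf] at d
    rw [c, hm]
    refine Nat.le_of_dvd (pow_pos q1 _) ((e 3 (by omega)).dvd_of_dvd_mul_left ((e 2 (by omega)).dvd_of_dvd_mul_left
      ((e 1 (by omega)).dvd_of_dvd_mul_left ?_)))
    refine d.trans (dvd_of_eq ?_)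
    simp only [pow_one]
    ring
  obtain ⟨U, hU⟩ := s.exists_sylow_top
  exact ((Hs.cam.equiv (MonoidHom.ofInjective Hs.toSL_inj)).equiv (MulEquiv.subgroupCongr hU.symm)).equiv
    (Sylow.equiv U T)

end H9.SF

namespace FG

open Subgroup Cfsg Equiv H2

universe u

variable {Ω : Type u} [Group Ω] {S R : Subgroup Ω} {F : FusionSystem S} {p : ℕ} [hp : Fact p.Prime] [Finite S]

theorem cam_cent_le (hF : Sat p F) (h : H9.SF.Cam S) (h0 : F.core ≠ ⊥) (h1 : F.IsFullyNormalized R)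
    (h2 : F.IsCentric R) (h3 : F.IsRadical p R) : S ⊓ centralizer (F.core : Set Ω) ≤ R := by
  obtain ⟨M, _, _, ι, m⟩ := loc_model hF h1 h2 h3
  have e : S ⊓ normalizer (R : Set Ω) = S := inf_eq_left.2 fun s hs => by
    haveI := fin_le h1.1
    refine mem_normalizer_fintype fun x hx => ?_
    have k := h.c1 (h1.1 hx) hs
    simpa using R.mul_mem hx (centric_self h2 ⟨k.1, centralizer_le h1.1 k.2⟩)
  have q := normal_le_cr hF.pg (core_normal F) h2 h3
  have l : F.core ≤ S ⊓ normalizer (R : Set Ω) := q.trans (le_inf h1.1 le_normalizer)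
  haveI : (img (fn ι) F.core).Normal := inf_eq_left.2 q ▸ m.normal_img h1.1 (normal_sc (core_normal F))
  have := ((h.equiv (MulEquiv.subgroupCongr e.symm)).equiv (MonoidHom.ofInjective m.inj)).cent_le m.syl m.cons
    (Q := img (fn ι) F.core) (fun c => h0 (card_eq_one.1 (by rw [← m.card_img l, c, card_bot])))
    (m.core ▸ img_mono _ q)
  rw [range_eq_img_fn, ← m.img_cent le_rfl l, m.core] at this
  have := m.le_of inf_le_left (le_inf h1.1 le_normalizer) this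
  rwa [e] at this

theorem cam_core (hF : Sat p F) (h : H9.SF.Cam S) (hr : ¬ F.IsRealizable p) : F.core = ⊥ := by
  by_contra h0
  obtain ⟨M, _, _, ι, m⟩ := exists_model_core hF (le_core (hF.normal_of_essential fun P hP => by
    obtain ⟨a, b, c⟩ := hF.fcr_of hP
    have q := normal_le_cr hF.pg (core_normal F) b c
    have l := cam_cent_le hF h h0 a b c
    refine ⟨l, fun α hα x hx => ⟨a.1 (Aut.mem hα (l hx)), mem_centralizer_iff.2 fun y hy => ?_⟩⟩
    have k := sc_apply (normal_sc (core_normal F)) (Aut.mor a.1 (inv_mem hα)) (q hy) hy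
    have := congrArg α (mem_centralizer_iff.1 hx.2 _ k)
    rwa [(Aut.homOn hα).map_mul (q k) (l hx), (Aut.homOn hα).map_mul (l hx) (q k), show α (α⁻¹ y) = y by simp] at this))
  exact hr ⟨M, _, inferInstance, ι, m.realized, sylow_range_iff.2 m.syl⟩

end FG
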