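import Cfsg.Agent.L.PG1
import Cfsg.Agent.H9.MS1
import Cfsg.Agent.H2.Fus8

/-!
H9.Soft: soft subgroups of `p`-groups.
-/

set_option autoImplicit false
set_option linter.unusedSectionVars false

namespace H9.Sf

open Subgroup Cfsg
open scoped commutatorElement

universe u
variable {p : ℕ} [hp : Fact p.Prime]

theorem rel_im {G Γ : Type*} [Group G] [Group Γ] [Finite G] {X A B : Subgroup G} (f : X →* Γ) (h1 : kr f ≤ A)
    (h2 : A ≤ B) (h3 : B ≤ X) : (im f A).relIndex (im f B) = A.relIndex B := by
  have a := card_eq_card_im_mul f (h2.trans h3)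
  have b := card_eq_card_im_mul f h3
  rw [inf_eq_left.2 h1] at a
  rw [inf_eq_left.2 (h1.trans h2), ← H1.card_mul_relIndex h2, ← H1.card_mul_relIndex (im_mono f h2), a,
    mul_right_comm _ ((im f A).relIndex _)] at b
  exact (Nat.eq_of_mul_eq_mul_left (a ▸ Nat.card_pos) b).symm

theorem class_im {G Γ : Type*} [Group G] [Group Γ] {X K : Subgroup G} (f : X →* Γ) (h : K ≤ X)
    (hk : kr f = K ⊓ centralizer (K : Set G)) [Group.IsNilpotent K] [Nontrivial K] :
    Group.nilpotencyClass K = Group.nilpotencyClass (im f K) + 1 := by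
  let φ : K →* im f K := (f.comp (inclusion h)).codRestrict _ fun x => mem_im_of_mem f x.2
  have s : Function.Surjective φ := fun y => let ⟨x, a, b⟩ := (mem_im f).1 y.2; ⟨⟨x, a⟩, Subtype.ext b⟩
  have k : center K = φ.ker := by
    ext x
    rw [MonoidHom.mem_ker, Subtype.ext_iff, mem_center_iff]
    refine Iff.trans ?_ (coe_mem_kr f (x := inclusion h x))
    rw [hk]
    exact ⟨fun a => ⟨x.2, fun y hy => congrArg Subtype.val (a ⟨y, hy⟩)⟩, fun a y => Subtype.ext (a.2 y y.2)⟩
  have e := (QuotientGroup.quotientMulEquivOfEq k).trans (QuotientGroup.quotientKerEquivOfSurjective φ s)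
  have := Group.nilpotent_of_surjective φ s
  rw [Group.nilpotencyClass_eq_quotient_center_plus_one, le_antisymm
    (Group.nilpotencyClass_le_of_surjective e.symm.toMonoidHom e.symm.surjective)
    (Group.nilpotencyClass_le_of_surjective e.toMonoidHom e.surjective)]

theorem main (i : ℕ) : ∀ (G : Type u) [Group G] [Finite G], IsPGroup p G → ∀ E K : Subgroup G,
    E ≤ centralizer (E : Set G) → centralizer (E : Set G) ≤ E → E.relIndex (normalizer (E : Set G)) = p → E ≤ K →
    K ≠ ⊤ → E.relIndex K = p ^ i → K.relIndex (normalizer (K : Set G)) = p ∧ Group.nilpotencyClass K = i + 1 := by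
  induction i using Nat.strong_induction_on with | _ i ih =>
  intro G _ _ hG E K h1 h2 h3 h4 h5 h6
  have pg : ∀ A : Subgroup G, IsPGroup p A := fun A => hG.to_subgroup A
  have := (pg K).isNilpotent
  have : Nontrivial K := (nontrivial_iff_ne_bot K).2 (by
    rintro rfl
    rw [le_bot_iff.1 h4] at h2
    exact h5 (top_le_iff.1 fun x _ => h2 fun y hy => by rw [mem_bot.1 hy, one_mul, mul_one]))
  rcases i with _ | i
  · obtain rfl := le_antisymm h4 (relIndex_eq_one.1 h6)
    refine ⟨h3, le_antisymm ?_ (Nat.pos_of_ne_zero fun c => not_subsingleton _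
      (Group.nilpotencyClass_zero_iff_subsingleton.1 c))⟩
    exact Group.IsNilpotent.nilpotencyClass_le_one_iff.2 (L.comm_of_le_centralizer h1)
  have k0 : ∀ A : Subgroup G, A < K → A < normalizer (A : Set G) ⊓ K := fun A h => lt_normalizer_of_nilpotent (pg K).isNilpotent h
  have k1 : ∀ A : Subgroup G, E ≤ A → A < K → A.relIndex (normalizer (A : Set G)) = p ∧ normalizer (A : Set G) ≤ K :=
    fun A a b => by
      obtain ⟨j, hj⟩ := L.exists_relIndex_eq_pow (N := E) (pg A)
      obtain ⟨l, hl⟩ := L.exists_relIndex_eq_pow (N := A) (pg K)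
      have c := relIndex_mul_relIndex E A K a b.le
      rw [hj, hl, h6, ← pow_add] at c
      have d := Nat.pow_right_injective hp.out.two_le c
      have e : l ≠ 0 := by rintro rfl; exact b.not_ge (relIndex_eq_one.1 hl)
      have g := (ih j (by omega) G hG E A h1 h2 h3 a (ne_top_of_lt b) hj).1
      exact ⟨g, inf_eq_left.1 ((L.eq_or_eq_of_relIndex_prime (g ▸ hp.out) (k0 A b).le inf_le_left).resolve_left
        (k0 A b).ne')⟩
  have hE : E < K := lt_of_le_of_ne h4 (by
    rintro rfl
    rw [relIndex_self] at h6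
    exact (Nat.one_lt_pow i.succ_ne_zero hp.out.one_lt).ne h6)
  have hN := (k1 E le_rfl hE).2
  have hX : K < normalizer (K : Set G) := by
    simpa using lt_normalizer_of_nilpotent (pg ⊤).isNilpotent (lt_top_iff_ne_top.2 h5)
  have zE : K ⊓ centralizer (K : Set G) ≤ E := inf_le_right.trans ((centralizer_le h4).trans h2)
  obtain ⟨Γ, _, _, f, hf, hk, -⟩ := exists_quot (X := normalizer (K : Set G)) (N := K ⊓ centralizer (K : Set G))
    (inf_le_left.trans hX.le) (normalizer_inf le_rfl (normalizer_centralizer le_rfl))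
  have hΓ : IsPGroup p Γ := (pg _).of_surjective f hf
  have nK : ⊤ ≤ normalizer (im f K : Set Γ) := im_self f hf ▸ im_le_normalizer f le_rfl
  have cc : ∀ A ≤ normalizer (K : Set G), E ≤ A → pre f (centralizer (im f A : Set Γ)) ≤ normalizer (E : Set G) :=
    fun A a b => le_normalizer_of_commutator_le (K := E) (by
      rw [commutator_comm]
      exact (commutator_mono le_rfl b).trans (((im_le_centralizer_iff f (pre_le f _) a).1 (im_pre_le f _)).trans
        (hk.le.trans zE))) le_rfl
  have c1 : im f E ≤ centralizer (im f (normalizer (E : Set G)) : Set Γ) := by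
    rcases L.eq_or_eq_of_relIndex_prime (h3 ▸ hp.out) (le_sup_left : E ≤ E ⊔ pre f (centralizer (im f K : Set Γ)))
      (sup_le le_normalizer (cc K hX.le h4)) with e | e
    · exfalso
      have e := sup_eq_left.1 e
      have a : E ≤ K ⊓ centralizer (pre f (centralizer (im f K : Set Γ)) : Set G) :=
        le_inf h4 (h1.trans (centralizer_le e))
      rcases eq_or_lt_of_le (inf_le_left : K ⊓ centralizer (pre f (centralizer (im f K : Set Γ)) : Set G) ≤ K)
        with b | b
      · refine H2.center_ne_bot (hΓ.to_subgroup (im f K)) (fun c => hE.not_ge (((im_eq_bot_iff f hX.le).1 c).trans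
          (hk.le.trans zE))) (le_bot_iff.1 (inf_le_right.trans ?_))
        rw [← im_pre_surj f hf (centralizer _), le_bot_iff, im_eq_bot_iff f (pre_le f _), hk]
        exact le_inf (e.trans h4) (le_centralizer_iff.1 (inf_eq_left.1 b))
      · refine hX.not_ge (le_trans (normalizer_inf le_rfl (normalizer_centralizer ?_)) (k1 _ a b).2)
        exact le_normalizer_pre f le_rfl (normalizer_centralizer (le_top.trans nK))
    · rw [← e, im_sup f (h4.trans hX.le) (pre_le f _), le_centralizer_iff]
      exact sup_le (im_le_centralizer f h1) ((im_pre_le f _).trans (centralizer_le (im_mono f h4)))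
  have r1 := (rel_im f (hk.le.trans zE) le_normalizer (hN.trans hX.le)).trans h3
  have c2 := L.le_centralizer_of_comm (L.isMulCommutative_of_relIndex_prime (r1 ▸ hp.out) (im_mono f le_normalizer) c1)
  have c3 : centralizer (im f (normalizer (E : Set G)) : Set Γ) ≤ im f (normalizer (E : Set G)) := by
    rw [← im_pre_surj f hf (centralizer _)]
    exact im_mono f (cc _ (hN.trans hX.le) le_normalizer)
  have zN := hk.le.trans (zE.trans le_normalizer)
  have r2 := rel_im f (zN.trans hN) hX.le le_rfl
  have tK : im f K ≠ ⊤ := fun c => by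
    rw [c, relIndex_top_left] at r2
    exact hX.not_ge (relIndex_eq_one.1 r2.symm)
  rw [im_self f hf] at r2
  have c4 : (im f (normalizer (E : Set G))).relIndex (normalizer (im f (normalizer (E : Set G)) : Set Γ)) = p := by
    rcases eq_or_lt_of_le hN with e | e
    · rw [e] at c3 r1 ⊢
      rw [top_le_iff.1 nK]
      obtain ⟨g, g1, g2⟩ := SetLike.exists_of_lt hX
      have a1 : cj g E ≤ K := (cj_mono g h4).trans (mem_normalizer_iff_cj.1 g1).le
      have a2 : ¬ cj g E ≤ E := fun c => g2 (hN (mem_normalizer_of_cj_le c))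
      have a3 : E ⊔ cj g E = K := (L.eq_or_eq_of_relIndex_prime ((e ▸ h3 : E.relIndex K = p) ▸ hp.out) le_sup_left
        (sup_le h4 a1)).resolve_left fun c => a2 (sup_eq_left.1 c)
      have a4 : E ⊓ cj g E ≤ kr f := by
        rw [hk]
        refine le_inf (inf_le_left.trans h4) (le_centralizer_iff.1 (a3 ▸ sup_le (h1.trans (centralizer_le inf_le_left))
          (le_trans ?_ (centralizer_le inf_le_right))))
        exact (cj_mono g h1).trans (cj_centralizer g E).le
      have a5 : (cj g E).relIndex K = p := by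
        conv_lhs => rw [← mem_normalizer_iff_cj.1 g1]
        rw [relIndex_cj, ← e, h3]
      have a6 : Nat.card (im f K) ≤ p ^ 2 := by
        rw [← relIndex_bot_left, ← im_kr f, rel_im f le_rfl (zN.trans hN) hX.le, sq]
        exact (relIndex_le_of_le_left a4 (L.relIndex_pos _ _).ne').trans
          (L.relIndex_inf_le' (e ▸ h3 : E.relIndex K = p).le a5.le)
      obtain ⟨a, ha⟩ := L.exists_card_eq_pow (hΓ.to_subgroup (im f K))
      rw [ha, Nat.pow_le_pow_iff_right hp.out.one_lt] at a6
      refine L.relIndex_eq_of_le (hΓ.to_subgroup ⊤) (fun c => tK (top_le_iff.1 c))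
        ((relIndex_le_of_le_left c3 (L.relIndex_pos _ _).ne').trans
        ((L.relIndex_centralizer_le_pow (hΓ.to_subgroup ⊤) a le_top nK ha).trans
        ((Nat.pow_le_pow_right hp.out.pos (Nat.choose_le_choose 2 a6)).trans (by simp))))
    · obtain ⟨a, b⟩ := k1 _ le_normalizer e
      rw [← a, ← rel_im f zN le_normalizer (b.trans hX.le)]
      congr 1
      refine le_antisymm ?_ (im_le_normalizer f le_rfl)
      rw [← im_pre_surj f hf (normalizer _)]
      have := le_normalizer_sup_kr f (pre_le f _) (hN.trans hX.le) (im_pre_le f _)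
      rw [sup_eq_left.2 zN] at this
      exact im_mono f this
  have r3 := relIndex_mul_relIndex _ _ _ le_normalizer hN
  rw [h3, h6, pow_succ', ← rel_im f zN hN hX.le] at r3
  obtain ⟨a, b⟩ := ih i i.lt_succ_self Γ hΓ _ _ c2 c3 c4 (im_mono f hN) tK (Nat.eq_of_mul_eq_mul_left hp.out.pos r3)
  rw [top_le_iff.1 nK, r2] at a
  exact ⟨a, by rw [class_im f hX.le hk, b]⟩

end H9.Sf
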