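import Cfsg.Agent.H2.Man
import Cfsg.Agent.H1.Fitting
import Cfsg.Agent.H1.Wt

/-!
H9.XP: point stabilizers of extremely primitive groups.
-/

set_option autoImplicit false

namespace H9.XP

open Subgroup Cfsg MulAction

/-- abstract hypotheses on the point stabilizer -/
structure Hyp (H Ω : Type*) [Group H] [MulAction H Ω] (α : Ω) : Prop where
  fix : ∀ h : H, h • α = α
  ex : ∃ ω, ω ≠ α
  faith : ∀ ω, ω ≠ α → ∀ h : H, (∀ g : H, h • g • ω = g • ω) → h = 1
  tr : ∀ M : Subgroup H, M.Normal → M ≠ ⊥ → ∀ (ω : Ω) (g : H), ∃ k ∈ M, k • ω = g • ω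

variable {H Ω : Type*} [Group H] [MulAction H Ω] {α : Ω}

theorem Hyp.cent_fix (X : Hyp H Ω α) {M : Subgroup H} (hM : M.Normal) (h0 : M ≠ ⊥) {h : H}
    (hc : ∀ k ∈ M, h * k = k * h) {ω : Ω} (hω : ω ≠ α) (hh : h • ω = ω) : h = 1 :=
  X.faith ω hω h fun g => by
    obtain ⟨k, hk, e⟩ := X.tr M hM h0 ω g
    rw [← e, ← mul_smul, hc k hk, mul_smul, hh]

theorem Hyp.cent_mem (X : Hyp H Ω α) {M : Subgroup H} (hM : M.Normal) (h0 : M ≠ ⊥)
    (hab : ∀ a ∈ M, ∀ b ∈ M, a * b = b * a) {h : H} (hc : ∀ k ∈ M, h * k = k * h) : h ∈ M := by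
  obtain ⟨ω, hω⟩ := X.ex
  obtain ⟨k, hk, e⟩ := X.tr M hM h0 ω h
  have : k⁻¹ * h = 1 := X.cent_fix hM h0 (fun m hm => by
    rw [mul_assoc, hc m hm, ← mul_assoc, hab _ (M.inv_mem hk) m hm, mul_assoc]) hω
    (by rw [mul_smul, ← e, inv_smul_smul])
  rw [inv_mul_eq_one] at this
  exact this ▸ hk

theorem exists_prime_mem [Finite H] (M : Subgroup H) (h0 : M ≠ ⊥) : ∃ p : ℕ, p.Prime ∧ ∃ z ∈ M, orderOf z = p := by
  have h1 : Nat.card M ≠ 1 := fun h => h0 (Subgroup.card_eq_one.mp h)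
  obtain ⟨p, hp, hd⟩ := Nat.exists_prime_and_dvd h1
  haveI := Fact.mk hp
  obtain ⟨z, hz⟩ := exists_prime_orderOf_dvd_card' p hd
  exact ⟨p, hp, z, z.2, by rw [← hz]; exact Subgroup.orderOf_coe z⟩

theorem Hyp.center_eq [Finite H] (X : Hyp H Ω α) (hp : ¬ (Nat.card H).Prime) : center H = ⊥ := by
  by_contra h0
  obtain ⟨p, hp', z, hz, ho⟩ := exists_prime_mem _ h0
  have hle : zpowers z ≤ center H := zpowers_le.mpr hz
  have hn : (zpowers z).Normal := ⟨fun n hn g => by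
    rw [mem_center_iff.mp (hle hn) g, mul_inv_cancel_right]; exact hn⟩
  have hz1 : zpowers z ≠ ⊥ := by
    rw [Ne, zpowers_eq_bot]; rintro rfl; rw [orderOf_one] at ho; exact hp'.one_lt.ne ho
  have : zpowers z = ⊤ := eq_top_iff.mpr fun h _ =>
    X.cent_mem hn hz1 (fun a _ b hb => mem_center_iff.mp (hle hb) a) fun k hk => mem_center_iff.mp (hle hk) h
  apply hp
  rw [← Subgroup.card_top, ← this, Nat.card_zpowers, ho]; exact hp'

theorem Hyp.nilp [Finite H] (X : Hyp H Ω α) (F : Subgroup H) [hF : F.Normal] (hn : Group.IsNilpotent F)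
    (h0 : F ≠ ⊥) : ∃ p : ℕ, p.Prime ∧ (∀ x ∈ F, x ^ p = 1) ∧ ∀ a ∈ F, ∀ b ∈ F, a * b = b * a := by
  haveI : Nontrivial F := (Subgroup.nontrivial_iff_ne_bot F).mpr h0
  have hz : center F ≠ ⊥ := Group.IsNilpotent.center_ne_bot F
  obtain ⟨p, hp, z, hz, ho⟩ := exists_prime_mem _ hz
  let P : Subgroup H :=
    { carrier := {x | x ∈ F ∧ (∀ y ∈ F, y * x = x * y) ∧ x ^ p = 1}
      one_mem' := ⟨F.one_mem, fun y _ => by rw [mul_one, one_mul], one_pow _⟩
      mul_mem' := fun {a b} ha hb => ⟨F.mul_mem ha.1 hb.1, fun y hy => by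
        rw [← mul_assoc, ha.2.1 y hy, mul_assoc, hb.2.1 y hy, mul_assoc], by
        rw [Commute.mul_pow (hb.2.1 a ha.1), ha.2.2, hb.2.2, mul_one]⟩
      inv_mem' := fun {a} ha => ⟨F.inv_mem ha.1, fun y hy => (Commute.inv_right (ha.2.1 y hy) : Commute y a⁻¹),
        by rw [inv_pow, ha.2.2, inv_one]⟩ }
  have hPn : P.Normal := ⟨fun n hn g => ⟨hF.conj_mem n hn.1 g, fun y hy => by
    have := hn.2.1 _ (hF.conj_mem' y hy g)
    calc y * (g * n * g⁻¹) = g * (g⁻¹ * y * g * n) * g⁻¹ := by group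
      _ = g * n * g⁻¹ * y := by rw [this]; group, by rw [conj_pow, hn.2.2, mul_one, mul_inv_cancel]⟩⟩
  have hzP : (z : H) ∈ P := ⟨z.2, fun y hy => congrArg Subtype.val (mem_center_iff.mp hz ⟨y, hy⟩), by
    rw [← Subgroup.coe_pow, ← ho, pow_orderOf_eq_one]; rfl⟩
  have hP0 : P ≠ ⊥ := fun h => by
    rw [h, mem_bot] at hzP
    have : z = 1 := Subtype.ext hzP
    rw [this, orderOf_one] at ho; exact hp.one_lt.ne ho
  have hFP : ∀ x ∈ F, x ∈ P := fun x hx =>
    X.cent_mem hPn hP0 (fun a ha b hb => hb.2.1 a ha.1) fun k hk => hk.2.1 x hx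
  exact ⟨p, hp, fun x hx => (hFP x hx).2.2, fun a ha b hb => (hFP b hb).2.1 a ha⟩

theorem Hyp.dvd [Finite H] [Fintype Ω] (X : Hyp H Ω α) (F : Subgroup H) [hF : F.Normal] (h0 : F ≠ ⊥)
    (hab : ∀ a ∈ F, ∀ b ∈ F, a * b = b * a) : Nat.card F ∣ Fintype.card Ω - 1 := by
  classical
  have := H2.dvd_card_of_index F ({α}ᶜ : Set Ω) (Nat.card F) (fun k _ x hx h => hx (by
    rw [Set.mem_singleton_iff] at h ⊢
    rw [← X.fix k] at h
    exact smul_left_cancel k h)) (fun x hx => by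
      have : (stabilizer H x).subgroupOf F = ⊥ := eq_bot_iff.mpr fun k hk =>
        Subtype.ext (X.cent_fix hF h0 (fun m hm => hab k k.2 m hm) hx hk)
      rw [relIndex, this, index_bot])
  rwa [Nat.card_eq_fintype_card (α := ({α}ᶜ : Set Ω)), Fintype.card_compl_set, Set.card_singleton] at this

theorem exists_gl [Finite H] (F : Subgroup H) [hF : F.Normal] {p : ℕ} (hp : p.Prime) (he : ∀ x ∈ F, x ^ p = 1)
    (hab : ∀ a ∈ F, ∀ b ∈ F, a * b = b * a) :
    ∃ e : ℕ, Nat.card F = p ^ e ∧ ∃ φ : H →* GL (Fin e) (ZMod p), ∀ h, φ h = 1 ↔ ∀ k ∈ F, h * k = k * h := by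
  haveI := Fact.mk hp
  letI : CommGroup F := { (inferInstance : Group F) with mul_comm := fun a b => Subtype.ext (hab a a.2 b b.2) }
  obtain ⟨_, ρ, hρ⟩ := H1.exists_rep_aux (M := F) (p := p) (fun x => Subtype.ext (he x x.2))
    (MulAut.conjNormal (H := F))
  haveI : Module.Finite (ZMod p) (Additive F) := Module.Finite.of_finite
  refine ⟨Module.finrank (ZMod p) (Additive F), ?_, ?_⟩
  · have := Module.natCard_eq_pow_finrank (K := ZMod p) (V := Additive F)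
    rwa [Nat.card_zmod] at this
  · let b := Module.finBasis (ZMod p) (Additive F)
    refine ⟨(Matrix.GeneralLinearGroup.toLin' b).symm.toMonoidHom.comp ρ.toHomUnits, fun h => ?_⟩
    rw [MonoidHom.comp_apply, MulEquiv.coe_toMonoidHom, MulEquiv.map_eq_one_iff, Units.ext_iff]
    show ρ h = 1 ↔ _
    constructor
    · intro h1 k hk
      have := hρ h (Additive.ofMul ⟨k, hk⟩)
      rw [h1] at this
      have h2 : k = h * k * h⁻¹ := congrArg Subtype.val this
      exact (eq_mul_inv_iff_mul_eq.mp h2).symm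
    · intro h1
      ext v
      show (((ρ h v).toMul : F) : H) = (v.toMul : F)
      rw [hρ]
      show h * (v.toMul : F) * h⁻¹ = _
      rw [h1 _ (v.toMul : F).2, mul_inv_cancel_right]

theorem hyp_of {G : Type*} [Group G] [Finite G] {Ω : Type*} [Fintype Ω] [MulAction G Ω] [FaithfulSMul G Ω]
    (hprim : IsPreprimitive G Ω)
    (hep : ∀ (α : Ω) (ω : Ω), IsPreprimitive (stabilizer G α) (orbit (stabilizer G α) ω)) (α : Ω)
    (hH1 : stabilizer G α ≠ ⊥) : Hyp (stabilizer G α) Ω α := by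
  have hH : ∀ a : Ω, stabilizer G a ≠ ⊥ := fun a h => hH1 (eq_bot_iff.mpr fun x hx => by
    obtain ⟨g, rfl⟩ := hprim.toIsPretransitive.exists_smul_eq α a
    have : g * x * g⁻¹ ∈ stabilizer G (g • α) := by
      rw [mem_stabilizer_iff, mul_smul, inv_smul_smul, mul_smul, mem_stabilizer_iff.mp hx]
    rw [h, mem_bot] at this
    rw [mem_bot]
    simpa using this)
  refine ⟨fun h => h.2, ?_, fun ω hω h hh => Subtype.ext (H2.manning hprim hH hep hω h.2 ?_), ?_⟩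
  · by_contra hc
    push Not at hc
    exact hH1 (eq_bot_iff.mpr fun x _ => FaithfulSMul.eq_of_smul_eq_smul (α := Ω) fun a => by
      rw [hc (x • a), hc ((1 : G) • a)])
  · rintro _ ⟨g, rfl⟩; exact hh g
  · intro M hM h0 ω g
    obtain ⟨_, ⟨k, hk, rfl⟩, e⟩ := H2.orbit_eq_of_normal hprim hH hep (α := α) (M := M.map (stabilizer G α).subtype)
      (fun h => h0 ((Subgroup.map_eq_bot_iff_of_injective M Subtype.val_injective).mp h)) (map_subtype_le M)
      (fun x hx => mem_normalizer_iff.mpr fun y => ⟨by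
        rintro ⟨m, hm, rfl⟩; exact ⟨_, hM.conj_mem m hm ⟨x, hx⟩, rfl⟩, by
        rintro ⟨m, hm, e⟩
        refine ⟨_, hM.conj_mem' m hm ⟨x, hx⟩, ?_⟩
        show x⁻¹ * (m : G) * x = y
        rw [show (m : G) = x * y * x⁻¹ from e]; group⟩) ω (g := g) g.2
    exact ⟨k, hk, e⟩

end H9.XP
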