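import Cfsg.Agent.H9.XP
import Cfsg.Agent.H3.ZId

/-!
H9.XP2: soluble extremely primitive groups.
-/

set_option autoImplicit false

namespace H9.XP

open Subgroup Cfsg MulAction

theorem ringHom_pow {F : Type*} [Field F] [Fintype F] {p : ℕ} [Fact p.Prime] [CharP F p] (σ : F →+* F) :
    ∃ j : ℕ, ∀ x, σ x = x ^ p ^ j := by
  letI : Algebra (ZMod p) F := ZMod.algebra F p
  let σ' : F →ₐ[ZMod p] F := { σ with
    commutes' := fun r => RingHom.congr_fun (RingHom.ext_zmod (σ.comp (algebraMap (ZMod p) F)) (algebraMap _ _)) r }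
  obtain ⟨i, hi⟩ := FiniteField.exists_forall_apply_eq_pow (ZMod p) p F
    (AlgEquiv.ofBijective σ' (Finite.injective_iff_bijective.mp σ.injective))
  exact ⟨i, fun x => by have := hi x; rwa [Nat.card_zmod] at this⟩

theorem fld_main {G : Type*} [Group G] [Finite G] {N T : Subgroup G} [hN : N.Normal] {p d q : ℕ} (hp : p.Prime)
    (hq : q.Prime) (hNc : ∀ x ∈ N, ∀ y ∈ N, x * y = y * x) (hTc : ∀ x ∈ T, ∀ y ∈ T, x * y = y * x)
    (hTq : ∀ x ∈ T, x ^ q = 1) (hT0 : T ≠ ⊥) (h1 : N ≠ ⊥) (hcard : Nat.card N = p ^ d)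
    (irr : ∀ W ≤ N, (∀ d ∈ T, ∀ u ∈ W, d * u * d⁻¹ ∈ W) → W = ⊥ ∨ W = N)
    (fa : ∀ t ∈ T, (∀ u ∈ N, t * u = u * t) → t = 1) :
    Nat.card T = q ∧ (∀ i : ℕ, 0 < i → i < d → ¬ q ∣ p ^ i - 1) ∧
      ∀ h : G, (∀ t ∈ T, h * t * h⁻¹ ∈ T) → ∃ j : ℕ, ∀ t ∈ T, h * t * h⁻¹ = t ^ p ^ j := by
  classical
  haveI := Fact.mk hp
  obtain ⟨F, _, _, f, ψ, fadd, finj, fim, fψ⟩ := H3.exists_field hNc hTc
    (by rw [normalizer_eq_top]; exact le_top) h1 irr
  have f0 : f 0 = 1 := by have := fadd 0 0; rw [add_zero] at this; exact left_eq_mul.mp this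
  have fneg : ∀ x, f (-x) = (f x)⁻¹ := fun x => eq_inv_of_mul_eq_one_left (by rw [← fadd, neg_add_cancel, f0])
  have fN : ∀ x, f x ∈ N := fun x => (fim _).mpr ⟨x, rfl⟩
  have hF : Fintype.card F = p ^ d := by
    rw [← hcard, ← Nat.card_eq_fintype_card]
    exact Nat.card_congr (Equiv.ofBijective (fun x => (⟨f x, fN x⟩ : N))
      ⟨fun x y h => finj (congrArg Subtype.val h), fun u => by
        obtain ⟨x, hx⟩ := (fim u).mp u.2; exact ⟨x, Subtype.ext hx⟩⟩)
  haveI : CharP F p := charP_of_card_eq_prime_pow hF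
  let ψ' : T →* F :=
    { toFun := fun t => ψ t
      map_one' := finj (by have := fψ 1 T.one_mem 1; simpa using this.symm)
      map_mul' := fun a b => finj (by
        have h2 := fψ _ (T.mul_mem a.2 b.2) 1
        have h3 := fψ _ b.2 1
        have h4 := fψ _ a.2 (ψ b * 1)
        rw [← h3, mul_one] at h4
        rw [mul_one] at h2
        rw [← h4, Subgroup.coe_mul, ← h2]; group) }
  have ψinj : Function.Injective ψ' := (injective_iff_map_eq_one ψ').mpr fun t ht => Subtype.ext (fa t t.2 fun u hu => by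
    obtain ⟨x, rfl⟩ := (fim u).mp hu
    have := fψ t t.2 x
    rw [show ψ t = 1 from ht, one_mul] at this
    exact mul_inv_eq_iff_eq_mul.mp this)
  have sub : ∀ S : AddSubgroup F, 1 ∈ S → (∀ t ∈ T, ∀ x ∈ S, ψ t * x ∈ S) → ∀ x, x ∈ S := fun S hS1 hS x => by
    let W : Subgroup G :=
      { carrier := {u | ∃ y ∈ S, f y = u}
        one_mem' := ⟨0, S.zero_mem, f0⟩
        mul_mem' := by rintro _ _ ⟨a, ha, rfl⟩ ⟨b, hb, rfl⟩; exact ⟨a + b, S.add_mem ha hb, fadd a b⟩
        inv_mem' := by rintro _ ⟨a, ha, rfl⟩; exact ⟨-a, S.neg_mem ha, fneg a⟩ }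
    rcases irr W (by rintro _ ⟨a, -, rfl⟩; exact fN a)
      (by rintro t ht _ ⟨a, ha, rfl⟩; exact ⟨_, hS t ht a ha, (fψ t ht a).symm⟩) with h | h
    · have : f 1 ∈ W := ⟨1, hS1, rfl⟩
      rw [h, mem_bot, ← f0] at this
      exact absurd (finj this) one_ne_zero
    · have : f x ∈ W := h ▸ fN x
      obtain ⟨y, hy, e⟩ := this
      exact finj e ▸ hy
  refine ⟨?_, fun i hi hid hdv => ?_, fun h hh => ?_⟩
  · haveI : IsCyclic T := isCyclic_of_injective_ringHom ψ' ψinj
    obtain ⟨g, hg⟩ := IsCyclic.exists_ofOrder_eq_natCard (α := T)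
    have : orderOf g ∣ q := orderOf_dvd_of_pow_eq_one (Subtype.ext (hTq g g.2))
    rw [hg] at this
    exact ((Nat.dvd_prime hq).mp this).resolve_left fun h => hT0 (Subgroup.card_eq_one.mp h)
  · have hpi : 1 < p ^ i := Nat.one_lt_pow hi.ne' hp.one_lt
    let S : AddSubgroup F :=
      { carrier := {x | x ^ p ^ i = x}
        zero_mem' := zero_pow (by omega)
        add_mem' := fun {a b} ha hb => by
          show (a + b) ^ p ^ i = a + b
          rw [add_pow_char_pow, ha, hb]
        neg_mem' := fun {a} ha => by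
          show (-a) ^ p ^ i = -a
          have := add_pow_char_pow (-a) a p i
          rw [neg_add_cancel, zero_pow (by omega), ha] at this
          exact eq_neg_of_add_eq_zero_left this.symm }
    have hall := sub S (one_pow _) fun t ht x hx => by
      show (ψ t * x) ^ p ^ i = ψ t * x
      obtain ⟨c, hc⟩ := hdv
      have h2 : ψ t ^ q = 1 := by
        show ψ' ⟨t, ht⟩ ^ q = 1
        rw [← map_pow, show (⟨t, ht⟩ : T) ^ q = 1 from Subtype.ext (hTq t ht), map_one]
      rw [mul_pow, hx, show p ^ i = q * c + 1 by omega, pow_succ, pow_mul, h2, one_pow, one_mul]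
    have h3 := (FiniteField.forall_pow_eq_one_iff F (p ^ i - 1)).mp fun x => by
      have h4 : (x : F) ^ p ^ i = x := hall x
      have h5 : x ^ p ^ i = x := Units.ext (by rw [Units.val_pow_eq_pow_val]; exact h4)
      rw [show p ^ i = (p ^ i - 1) + 1 by omega, pow_succ] at h5
      exact mul_eq_right.mp h5
    rw [hF] at h3
    have h6 := Nat.le_of_dvd (by omega) h3
    have h7 : p ^ i < p ^ d := Nat.pow_lt_pow_right hp.one_lt hid
    omega
  · have hex : ∀ x, ∃ y, f y = h * f x * h⁻¹ := fun x => (fim _).mp (hN.conj_mem _ (fN x) h)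
    choose lam hlam using hex
    have ladd : ∀ x y, lam (x + y) = lam x + lam y := fun x y => finj (by
      rw [fadd, hlam, hlam, hlam, fadd]; group)
    have l0 : lam 0 = 0 := finj (by rw [hlam, f0, mul_one, mul_inv_cancel])
    have lψ : ∀ t ∈ T, ∀ x, lam (ψ t * x) = ψ (h * t * h⁻¹) * lam x := fun t ht x => finj (by
      rw [hlam, ← fψ t ht, ← fψ _ (hh t ht), hlam]; group)
    have c0 : lam 1 ≠ 0 := fun hc => by
      have := hlam 1
      rw [hc, f0, eq_comm, mul_inv_eq_one, mul_eq_left, ← f0] at this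
      exact one_ne_zero (finj this)
    have lneg : ∀ x, lam (-x) = - lam x := fun x => by
      have := ladd (-x) x
      rw [neg_add_cancel, l0] at this
      exact eq_neg_of_add_eq_zero_left this.symm
    let S : AddSubgroup F :=
      { carrier := {y | ∀ x, lam (y * x) * lam 1 = lam y * lam x}
        zero_mem' := fun x => by rw [zero_mul, l0, zero_mul, zero_mul]
        add_mem' := fun {a b} ha hb x => by rw [add_mul, ladd, ladd, add_mul, add_mul, ha x, hb x]
        neg_mem' := fun {a} ha x => by rw [neg_mul, lneg, lneg, neg_mul, neg_mul, ha x] }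
    have hall := sub S (fun x => by rw [one_mul, mul_comm]) fun t ht y hy x => by
      rw [mul_assoc, lψ t ht, lψ t ht, mul_assoc, hy x, mul_assoc (ψ _)]
    let σ : F →+* F :=
      { toFun := fun x => lam x / lam 1
        map_one' := div_self c0
        map_zero' := by rw [l0, zero_div]
        map_add' := fun x y => by rw [ladd, add_div]
        map_mul' := fun x y => by
          have := hall x y
          field_simp
          exact this }
    obtain ⟨j, hj⟩ := ringHom_pow (p := p) σ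
    refine ⟨j, fun t ht => ?_⟩
    have h2 : lam (ψ t) / lam 1 = ψ t ^ p ^ j := hj (ψ t)
    have h3 := lψ t ht 1
    rw [mul_one] at h3
    rw [h3, mul_div_cancel_right₀ _ c0] at h2
    have h4 : ψ' ⟨_, hh t ht⟩ = ψ' (⟨t, ht⟩ ^ p ^ j) := by rw [map_pow]; exact h2
    exact congrArg Subtype.val (ψinj h4)

theorem cyc_main {H : Type*} [Group H] [Finite H] {T : Subgroup H} [hT : T.Normal] {p d q : ℕ}
    (hTc : ∀ x ∈ T, ∀ y ∈ T, x * y = y * x) (hcard : Nat.card T = q) (hp : 0 < p) (hd : 0 < d) (hdv : q ∣ p ^ d - 1)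
    (cen : ∀ h : H, (∀ k ∈ T, h * k = k * h) → h ∈ T)
    (pw : ∀ h : H, ∃ j : ℕ, ∀ t ∈ T, h * t * h⁻¹ = t ^ p ^ j) :
    (∃ h : H, T ⊔ zpowers h = ⊤) ∧ Nat.card H ∣ q * d := by
  have hpd : 0 < p ^ d := pow_pos hp d
  have hco : (Nat.card T).Coprime p := by
    rw [hcard]
    refine Nat.Coprime.coprime_dvd_left hdv (Nat.Coprime.coprime_dvd_right (dvd_pow_self p hd.ne') ?_)
    obtain ⟨m, hm⟩ : ∃ m, p ^ d = m + 1 := ⟨p ^ d - 1, by omega⟩
    rw [hm]; simp
  let π : MulAut T := { powCoprime hco with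
    map_mul' := fun a b => Commute.mul_pow (Subtype.ext (hTc a a.2 b b.2)) p }
  have hπ : ∀ (j : ℕ) (t : T), (π ^ j) t = t ^ p ^ j := by
    intro j
    induction j with
    | zero => intro t; simp
    | succ j ih =>
      intro t
      rw [pow_succ', MulAut.mul_apply, ih, pow_succ p, pow_mul]; rfl
  have hπd : π ^ d = 1 := MulEquiv.ext fun t => by
    obtain ⟨c, hc⟩ := hdv
    rw [hπ, show p ^ d = q * c + 1 by omega, pow_succ, pow_mul, ← hcard, pow_card_eq_one', one_pow, one_mul]; rfl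
  let Φ : H →* MulAut T := MulAut.conjNormal
  have hker : Φ.ker = T := by
    ext h
    rw [MonoidHom.mem_ker]
    constructor
    · intro hh
      exact cen h fun k hk => mul_inv_eq_iff_eq_mul.mp
        (congrArg Subtype.val (MulEquiv.congr_fun hh ⟨k, hk⟩) : h * k * h⁻¹ = k)
    · intro hh
      exact MulEquiv.ext fun k => Subtype.ext (show h * k * h⁻¹ = k by rw [hTc h hh k k.2, mul_inv_cancel_right])
  have hr : Φ.range ≤ zpowers π := by
    rintro _ ⟨h, rfl⟩
    obtain ⟨j, hj⟩ := pw h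
    have : Φ h = π ^ j := MulEquiv.ext fun t => by rw [hπ]; exact Subtype.ext (hj t t.2)
    rw [this]; exact npow_mem_zpowers π j
  haveI : IsCyclic Φ.range := Subgroup.isCyclic_of_le hr
  constructor
  · obtain ⟨⟨_, g, rfl⟩, hg⟩ := IsCyclic.exists_generator (α := Φ.range)
    refine ⟨g, eq_top_iff.mpr fun h _ => ?_⟩
    obtain ⟨k, hk⟩ := hg ⟨Φ h, h, rfl⟩
    have h2 : Φ g ^ k = Φ h := congrArg Subtype.val hk
    have h3 : h * (g ^ k)⁻¹ ∈ T := by
      rw [← hker, MonoidHom.mem_ker, map_mul, map_inv, map_zpow, h2, mul_inv_cancel]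
    have : h = h * (g ^ k)⁻¹ * g ^ k := by group
    rw [this]
    exact mul_mem_sup h3 (zpow_mem_zpowers g k)
  · rw [← Φ.ker.card_mul_index, index_ker, hker, hcard]
    refine Nat.mul_dvd_mul_left q ((card_dvd_of_le hr).trans ?_)
    rw [Nat.card_zpowers]; exact orderOf_dvd_of_pow_eq_one hπd

theorem hyp_opt {G : Type*} [Group G] {Ω : Type*} [MulAction G Ω] [FaithfulSMul G Ω] [Nonempty Ω]
    (hprim : IsPreprimitive G Ω) : Hyp G (Option Ω) none := by
  refine ⟨fun h => rfl, ⟨some (Classical.arbitrary Ω), Option.some_ne_none _⟩, ?_, ?_⟩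
  · rintro (_ | w) hw h hh
    · exact absurd rfl hw
    refine FaithfulSMul.eq_of_smul_eq_smul (α := Ω) fun a => ?_
    obtain ⟨g, rfl⟩ := hprim.toIsPretransitive.exists_smul_eq w a
    rw [one_smul]
    exact Option.some_injective _ (hh g)
  · rintro M hM h0 (_ | w) g
    · exact ⟨1, M.one_mem, rfl⟩
    have := IsQuasiPreprimitive.isPretransitive_of_normal (X := Ω) (N := M) (fun h => h0 (eq_bot_iff.2 fun l hl =>
      FaithfulSMul.eq_of_smul_eq_smul (α := Ω) fun a => by
        have : a ∈ fixedPoints M Ω := h ▸ Set.mem_univ _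
        rw [one_smul]; exact this ⟨l, hl⟩))
    obtain ⟨k, hk⟩ := this.exists_smul_eq w (g • w)
    exact ⟨k, k.2, congrArg some hk⟩

end H9.XP
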